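/-
helper82: equidimensionality (EGA IV 13.3) for a general base and under flat base change.
* `topologicalKrullDim_closure_singleton_fiber'`: (general base) closure of a point of a fibre has dimension the
  residue trdeg.
* `isEquidimAt_iff'`: helper73's maximal-point dictionary for `EGA43.IsEquidimAt` without Noetherian hypothesis.
* `isEquidimAt_of_isPullback_flat`: EGA IV 13.3.8, `IsEquidimAt` is stable under flat base change `Y' ⟶ Y`,
  `Y'` locally Noetherian.
-/
import Groth.Agent.Lib.Helper73.Equidim
import Groth.Agent.Lib.Helper73.Equidim2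
import Groth.Agent.Lib.Helper73.LocalFibreDim
import Groth.Agent.S9358
set_option linter.style.haveILetI false
set_option autoImplicit false
universe u
open Cardinal CategoryTheory AlgebraicGeometry

namespace Groth.Agent.Lib.Helper82.EquidimBC

open Groth.Agent.Lib.Helper73.DimFormula Groth.Agent.Lib.Helper73.RelHt
open Groth.Agent.Lib.Helper73.SchemeDim
open Groth.Agent.Lib.Helper21

variable {X S : Scheme.{u}}

/-- (general base) the dimension of the closure of a point `z'` of a fibre is the residue
transcendence degree. -/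
theorem topologicalKrullDim_closure_singleton_fiber' (f : X ⟶ S)
    [LocallyOfFiniteType f] (y : S) (z' : f.fiber y) (n : ℕ)
    (hn : letI := (f.residueFieldMap (f.fiberι y z')).hom.toAlgebra
      Algebra.trdeg (S.residueField (f.base (f.fiberι y z'))) (X.residueField (f.fiberι y z')) = n) :
    topologicalKrullDim ↥(closure ({z'} : Set (f.fiber y))) = n := by
  haveI : QuasiSober ↥(closure ({z'} : Set (f.fiber y))) :=
    isClosed_closure.isClosedEmbedding_subtypeVal.quasiSober
  apply le_antisymm
  · refine topologicalKrullDim_subtype_le _ _ (fun c hc => ?_)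
    haveI := Groth.Agent.Lib.Helper73.SchemeDim.locallyOfFiniteType_fiberToSpecResidueField f y
    haveI : Subsingleton ↥(Spec (S.residueField y)) :=
      inferInstanceAs (Subsingleton (PrimeSpectrum (S.residueField y)))
    have h1 : c.length ≤ n := by
      refine length_le_trdeg_of_fibre (f.fiberToSpecResidueField y) c z' ?_
        (Subsingleton.elim _ _) n ?_
      · change z' ⤳ c.last
        exact specializes_iff_mem_closure.mpr (hc (Fin.last _))
      · have := trdeg_fiberToSpecResidueField f y z'
        rw [this]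
        exact hn
    exact_mod_cast h1
  · obtain ⟨c, hclen, hclast, hcf⟩ := exists_ltSeries_fibre f (f.fiberι y z') n hn
    have hcf' : ∀ i, f.base (c i) = y := fun i => (hcf i).trans (base_fiberι f y z')
    obtain ⟨c', hc'len, -, hc'last⟩ := exists_fiberSeries_eq f y c hcf'
    have hlast : c'.last = z' := by
      apply (f.fiberι y).isEmbedding.injective
      rw [hc'last, hclast]
    have := length_le_topologicalKrullDim_subtype (closure ({z'} : Set (f.fiber y))) c' (by
      intro i
      rw [← specializes_iff_mem_closure, ← hlast]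
      exact c'.monotone (Fin.le_last i))
    rw [hc'len, hclen] at this
    exact this

variable {Y : Scheme.{u}}

/-- **Dictionary** for equidimensionality at a point, in terms of maximal points (general base). -/
theorem isEquidimAt_iff' (f : X ⟶ Y) [LocallyOfFiniteType f] (x : X) :
    EGA43.IsEquidimAt f x ↔ ∃ (e : ℕ) (U : X.Opens), x ∈ U ∧
      (∀ ξ : X, ξ ∈ U → (∀ ξ' : X, ξ' ⤳ ξ → ξ' = ξ) →
        (∀ η' : Y, η' ⤳ f.base ξ → η' = f.base ξ) ∧ f.base ξ ⤳ f.base x) ∧
      (∀ z : X, z ∈ U → (∀ z' : X, z' ⤳ z → f.base z' = f.base z → z' = z) →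
        @Algebra.trdeg (Y.residueField (f.base z)) (X.residueField z) _ _
          (f.residueFieldMap z).hom.toAlgebra = e) := by
  unfold EGA43.IsEquidimAt
  refine exists_congr fun e => exists_congr fun U => and_congr_right fun hxU => ?_
  set g := U.ι ≫ f with hg
  have hgval : ∀ a : ↥U, g.base a = f.base a.1 := fun a => rfl
  have hind : Topology.IsInducing (U.ι.base : ↥U → X) := U.ι.isEmbedding.isInducing
  have hιval : ∀ a : ↥U, U.ι.base a = a.1 := fun a => rfl
  haveI : QuasiSober ↥U := U.isOpen.isOpenEmbedding_subtypeVal.quasiSober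
  let gf : ↥U → Y := fun a => f.base a.1
  have hgfc : Continuous gf := f.continuous.comp continuous_subtype_val
  constructor
  · rintro ⟨hA, hB⟩
    constructor
    · intro ξ hξU hξmax
      let ξU : ↥U := ⟨ξ, hξU⟩
      have hξUmax : ∀ ξ'' : ↥U, ξ'' ⤳ ξU → ξ'' = ξU := by
        intro ξ'' hsp
        have : ξ''.1 ⤳ ξ := hind.specializes_iff.mpr hsp
        exact Subtype.ext (hξmax _ this)
      obtain ⟨W, hW, hfxW, hcl⟩ := hA _ (closure_singleton_mem_irreducibleComponents_of_maximal ξU hξUmax)
      have hcl2 : closure (gf '' closure {ξU}) = W := hcl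
      have hcl' : closure ({f.base ξ} : Set Y) = W := by
        rw [← hcl2, closure_image_closure hgfc, Set.image_singleton]
      refine ⟨maximal_of_closure_singleton_mem_irreducibleComponents _ (hcl' ▸ hW), ?_⟩
      rw [specializes_iff_mem_closure, hcl']
      exact hfxW
    · intro z hzU hzmax
      let x' : ↥U := ⟨z, hzU⟩
      set zF := g.asFiber x' with hzF
      have hzFι : (g.fiberι (g.base x')).base zF = x' := Scheme.Hom.fiberι_asFiber g x'
      have hzFmax : ∀ w : ↥(g.fiber (g.base x')), w ⤳ zF → w = zF := by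
        intro w hsp
        have h1 : (g.fiberι (g.base x')).base w ⤳ x' := by
          have := hsp.map (g.fiberι (g.base x')).continuous
          rwa [hzFι] at this
        have h2 : ((g.fiberι (g.base x')).base w).1 ⤳ z := hind.specializes_iff.mpr h1
        have h3 : f.base ((g.fiberι (g.base x')).base w).1 = f.base z :=
          base_fiberι' g (g.base x') w
        have h4 := hzmax _ h2 h3
        apply (g.fiberι (g.base x')).isEmbedding.injective
        rw [hzFι]
        exact Subtype.ext h4
      have hdim := hB x' _ (closure_singleton_mem_irreducibleComponents_of_maximal zF hzFmax)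
      obtain ⟨n, hn⟩ := exists_trdeg_residueField_eq_nat' f z
      have hdim2 := topologicalKrullDim_closure_singleton_fiber' g (g.base x') zF n (by
        rw [trdeg_residueFieldMap_congr_pt g hzFι]
        rw [trdeg_opensι_comp f U x']
        exact hn)
      rw [hdim2] at hdim
      have : n = e := by exact_mod_cast hdim
      rw [hn, this]
  · rintro ⟨hA, hB⟩
    constructor
    · intro Z hZ
      obtain ⟨ξU, hξUmax, hξUZ⟩ := exists_maximal_closure_eq_of_mem_irreducibleComponents hZ
      have hξmax : ∀ ξ' : X, ξ' ⤳ ξU.1 → ξ' = ξU.1 := by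
        intro ξ' hsp
        have hξ'U : ξ' ∈ U := hsp.mem_open U.isOpen ξU.2
        have : (⟨ξ', hξ'U⟩ : ↥U) ⤳ ξU := hind.specializes_iff.mp hsp
        exact congrArg Subtype.val (hξUmax _ this)
      obtain ⟨h1, h2⟩ := hA ξU.1 ξU.2 hξmax
      refine ⟨closure {f.base ξU.1}, closure_singleton_mem_irreducibleComponents_of_maximal _ h1,
        h2.mem_closure, ?_⟩
      change closure (gf '' Z) = closure {f.base ξU.1}
      rw [← hξUZ, closure_image_closure hgfc, Set.image_singleton]
    · intro x' Z hZ
      obtain ⟨zF, hzFmax, hzFZ⟩ := exists_maximal_closure_eq_of_mem_irreducibleComponents hZ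
      set zU := (g.fiberι (g.base x')).base zF with hzU
      have hgzU : g.base zU = g.base x' := base_fiberι' g (g.base x') zF
      have hzmax : ∀ z' : X, z' ⤳ zU.1 → f.base z' = f.base zU.1 → z' = zU.1 := by
        intro z' hsp hfz'
        have hz'U : z' ∈ U := hsp.mem_open U.isOpen zU.2
        let z'U : ↥U := ⟨z', hz'U⟩
        have hsp' : z'U ⤳ zU := hind.specializes_iff.mp hsp
        have hgz' : g.base z'U = g.base x' := by
          rw [← hgzU]
          exact hfz'
        obtain ⟨w, hw⟩ := exists_fiberι_eq g hgz'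
        have hwsp : w ⤳ zF := by
          rw [← (g.fiberι (g.base x')).isEmbedding.isInducing.specializes_iff, hw]
          exact hsp'
        have := hzFmax w hwsp
        rw [this] at hw
        exact (congrArg Subtype.val hw).symm
      have htr := hB zU.1 zU.2 hzmax
      rw [← hzFZ]
      have hdim2 := topologicalKrullDim_closure_singleton_fiber' g (g.base x') zF e (by
        rw [trdeg_opensι_comp f U zU]
        exact htr)
      exact hdim2

/-- **EGA IV 13.3.8**: equidimensionality at a point is stable under flat base change to a locally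
Noetherian scheme. -/
theorem isEquidimAt_of_isPullback_flat {X Y X' Y' : Scheme.{u}} (f : X ⟶ Y) [LocallyOfFiniteType f]
    (g : Y' ⟶ Y) [Flat g] [IsLocallyNoetherian Y'] (g' : X' ⟶ X) (f' : X' ⟶ Y')
    (hsq : IsPullback g' f' f g) (x' : X') (h : EGA43.IsEquidimAt f (g'.base x')) :
    EGA43.IsEquidimAt f' x' := by
  obtain ⟨e, U, hxU, hA, hB⟩ := (isEquidimAt_iff' f _).1 h
  haveI : LocallyOfFiniteType f' := MorphismProperty.of_isPullback hsq inferInstance
  haveI : Flat g' := MorphismProperty.of_isPullback hsq.flip inferInstance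
  have hgen' : GeneralizingMap g'.base := Flat.generalizingMap g'
  obtain ⟨V', hyV', hV'⟩ := exists_open_forall_exists_specializes Y' (f'.base x')
  refine (isEquidimAt_iff' f' x').2 ⟨e, g' ⁻¹ᵁ U ⊓ f' ⁻¹ᵁ V', ⟨hxU, hyV'⟩, ?_, ?_⟩
  · -- (A)
    intro ξ' hξ'U hξ'max
    have hξmax : ∀ ξ₁ : X, ξ₁ ⤳ g'.base ξ' → ξ₁ = g'.base ξ' := by
      intro ξ₁ hsp
      obtain ⟨ξ₁', hsp', rfl⟩ := hgen' hsp
      rw [hξ'max _ hsp']
    obtain ⟨hfmax, hfsp⟩ := hA _ hξ'U.1 hξmax
    have hcomm : ∀ a : X', g.base (f'.base a) = f.base (g'.base a) := by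
      intro a
      rw [← Scheme.Hom.comp_apply, ← Scheme.Hom.comp_apply, hsq.w]
    have hmax' : ∀ η'' : Y', η'' ⤳ f'.base ξ' → η'' = f'.base ξ' := by
      intro η'' hsp
      have hgη : g.base η'' = f.base (g'.base ξ') := by
        apply hfmax
        rw [← hcomm]
        exact hsp.map g.continuous
      obtain ⟨ξ, hξ⟩ : ∃ ξ : X, ξ = g'.base ξ' := ⟨_, rfl⟩
      rw [← hξ] at hgη
      let m := fiberMapOfIsPullback hsq.flip ξ
      have hmflat : Flat m :=
        MorphismProperty.of_isPullback (isPullback_fiberMapOfIsPullback hsq.flip ξ).flip inferInstance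
      have hmgen : GeneralizingMap m.base := Flat.generalizingMap m
      obtain ⟨t', ht'⟩ := exists_fiberι_eq g' (x := ξ') (s := ξ) hξ.symm
      obtain ⟨b'', hb''⟩ := exists_fiberι_eq g (x := η'') (s := f.base ξ) hgη
      have hmt' : (g.fiberι (f.base ξ)).base (m.base t') = f'.base ξ' := by
        have := fiberι_fiberMapOfIsPullback_apply hsq.flip ξ t'
        rw [← ht']
        exact this
      have hbsp : b'' ⤳ m.base t' := by
        rw [← (g.fiberι (f.base ξ)).isEmbedding.isInducing.specializes_iff, hb'', hmt']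
        exact hsp
      obtain ⟨t'', ht''sp, ht''⟩ := hmgen hbsp
      have h1 : (g'.fiberι ξ).base t'' ⤳ ξ' := by
        rw [← ht']
        exact ht''sp.map (g'.fiberι ξ).continuous
      have h2 := hξ'max _ h1
      have h3 := fiberι_fiberMapOfIsPullback_apply hsq.flip ξ t''
      rw [← hb'', ← ht'', ← h2]
      exact h3
    refine ⟨hmax', ?_⟩
    obtain ⟨ζ, hζ1, hζ2⟩ := hV' _ hξ'U.2
    rw [hmax' ζ hζ1] at hζ2
    exact hζ2
  · -- (B)
    intro z' hz'U hz'max
    obtain ⟨n', hn'⟩ := exists_trdeg_residueField_eq_nat' f' z'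
    have h1 := fibreDimAt_eq_trdeg_of_maximal_in_fibre f' z' hz'max n' hn'
    have h2 := (Groth.Agent.S9358.result f g g' f' hsq 0).1 z'
    obtain ⟨ζ, n, hζsp, hζf, hζmax, hnζ, hF⟩ :=
      exists_maximal_in_fibre_trdeg_eq_fibreDimAt f (g'.base z')
    have hζU : ζ ∈ U := hζsp.mem_open U.isOpen hz'U.1
    have h3 := hB ζ hζU hζmax
    have h4 : ((n : ℕ) : Cardinal.{u}) = e := by rw [← hnζ, ← h3]
    have hne : n = e := by exact_mod_cast h4
    rw [h1, hF] at h2
    have h5 : n' = n := by exact_mod_cast h2
    rw [hn', h5, hne]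

end Groth.Agent.Lib.Helper82.EquidimBC
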