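/-
helper82: dimension theory of affine space `𝔸(n; Y) ⟶ Y` (n finite).
* `flat_over`: `𝔸(n; S) ⟶ S` is flat.
* `topologicalKrullDim_fiber_affineSpace`: the fibres have dimension `card n`.
* `fibreDimAt_affineSpace`: the local fibre dimension is `card n` at every point.
* `trdeg_le_card`, `trdeg_eq_card_of_maximal_in_fibre`, `maximal_of_trdeg_eq_card`, `maximal_base_of_maximal`:
  residue transcendence degrees of points of affine space / maximal points of affine space.
* `trdeg_eq_of_locallyQuasiFinite_to_affineSpace`: residue trdeg through a quasi-finite `Y`-morphism `U ⟶ 𝔸(n; Y)`.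
-/
import Mathlib
import Groth.Agent.Lib.Helper82.EquidimBC
import Groth.Agent.Lib.Helper73.FieldDim2
import Groth.Agent.Lib.Helper21.EtaleTrdeg
set_option linter.style.haveILetI false
set_option autoImplicit false
universe u
open Cardinal CategoryTheory AlgebraicGeometry Limits

namespace Groth.Agent.Lib.Helper82.AffSpaceDim

open Groth.Agent.Lib.Helper73.DimFormula Groth.Agent.Lib.Helper73.RelHt
open Groth.Agent.Lib.Helper73.SchemeDim
open Groth.Agent.Lib.Helper82.EquidimBC

section flat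
variable (n : Type u) (S : Scheme.{u})

set_option backward.isDefEq.respectTransparency.types false in
theorem flat_over : Flat (𝔸(n; S) ↘ S) :=
  MorphismProperty.pullback_fst _ _ <| by
  have := isIso_of_isTerminal specULiftZIsTerminal.{u} terminalIsTerminal (terminal.from _)
  rw [← terminal.comp_from (Spec.map (CommRingCat.ofHom
      (MvPolynomial.C : ULift.{u} ℤ →+* MvPolynomial n (ULift.{u} ℤ)))),
    MorphismProperty.cancel_right_of_respectsIso (P := @Flat)]
  rw [HasRingHomProperty.Spec_iff (P := @Flat)]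
  change RingHom.Flat (MvPolynomial.C : ULift.{u} ℤ →+* MvPolynomial n (ULift.{u} ℤ))
  have h : (algebraMap (ULift.{u} ℤ) (MvPolynomial n (ULift.{u} ℤ))).Flat :=
    RingHom.flat_algebraMap_iff.mpr inferInstance
  exact h

end flat

variable (n : Type u) [Finite n] (Y : Scheme.{u})

/-- the fibres of affine space `𝔸(n; Y) ⟶ Y` have dimension `card n`. -/
theorem topologicalKrullDim_fiber_affineSpace (y : Y) :
    topologicalKrullDim ↥((𝔸(n; Y) ↘ Y).fiber y) = (Nat.card n : WithBot ℕ∞) := by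
  have hpb := AffineSpace.isPullback_map (n := n) (Y.fromSpecResidueField y)
  let iso₁ := hpb.isoPullback
  let iso₂ := AffineSpace.SpecIso n (Y.residueField y)
  have h1 : topologicalKrullDim ↥((𝔸(n; Y) ↘ Y).fiber y) =
      topologicalKrullDim ↥(𝔸(n; Spec (Y.residueField y))) :=
    (IsHomeomorph.topologicalKrullDim_eq _ (Scheme.homeoOfIso iso₁).isHomeomorph).symm
  have h2 : topologicalKrullDim ↥(𝔸(n; Spec (Y.residueField y))) =
      topologicalKrullDim ↥(Spec (.of (MvPolynomial n (Y.residueField y)))) :=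
    IsHomeomorph.topologicalKrullDim_eq _ (Scheme.homeoOfIso iso₂).isHomeomorph
  rw [h1, h2]
  change topologicalKrullDim (PrimeSpectrum (MvPolynomial n (Y.residueField y))) = _
  rw [PrimeSpectrum.topologicalKrullDim_eq_ringKrullDim,
    MvPolynomial.ringKrullDim_of_isNoetherianRing, ringKrullDim_eq_zero_of_field, zero_add]

/-- every point of affine space has local fibre dimension `card n`. -/
theorem fibreDimAt_affineSpace (w : 𝔸(n; Y)) :
    FlatMor.fibreDimAt (𝔸(n; Y) ↘ Y) w = (Nat.card n : WithBot ℕ∞) := by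
  set p := 𝔸(n; Y) ↘ Y with hp
  haveI : LocallyOfFiniteType p := by rw [hp]; infer_instance
  obtain ⟨ζ, m, hζsp, hζf, hζmax, hmζ, hF⟩ := exists_maximal_in_fibre_trdeg_eq_fibreDimAt p w
  rw [hF]
  obtain ⟨ζ₀, hζ₀⟩ := exists_fiberι_eq p (x := ζ) (s := p.base ζ) rfl
  haveI : IrreducibleSpace ↥(p.fiber (p.base ζ)) := by rw [hp]; infer_instance
  have hmax₀ : ∀ t : ↥(p.fiber (p.base ζ)), t ⤳ ζ₀ → t = ζ₀ := by
    intro t ht
    apply (p.fiberι (p.base ζ)).isEmbedding.injective
    rw [hζ₀]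
    apply hζmax
    · have := ht.map (p.fiberι (p.base ζ)).continuous
      rwa [hζ₀] at this
    · exact base_fiberι' p _ t
  have hgen : closure ({ζ₀} : Set ↥(p.fiber (p.base ζ))) = Set.univ := by
    have h1 := genericPoint_spec ↥(p.fiber (p.base ζ))
    have h2 : genericPoint ↥(p.fiber (p.base ζ)) = ζ₀ := hmax₀ _ (genericPoint_specializes _)
    rw [← h2]
    exact h1.def
  have hdim := topologicalKrullDim_closure_singleton_fiber' p (p.base ζ) ζ₀ m (by
    rw [trdeg_residueFieldMap_congr_pt p hζ₀]; exact hmζ)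
  rw [hgen] at hdim
  have h3 : topologicalKrullDim ↥(Set.univ : Set ↥(p.fiber (p.base ζ))) =
      topologicalKrullDim ↥(p.fiber (p.base ζ)) :=
    IsHomeomorph.topologicalKrullDim_eq _ (Homeomorph.Set.univ _).isHomeomorph
  rw [h3, topologicalKrullDim_fiber_affineSpace] at hdim
  exact hdim.symm

/-- residue transcendence degrees of points of affine space are at most `card n`. -/
theorem trdeg_le_card (w : 𝔸(n; Y)) (m : ℕ)
    (hm : @Algebra.trdeg (Y.residueField ((𝔸(n; Y) ↘ Y).base w)) (𝔸(n; Y).residueField w) _ _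
      ((𝔸(n; Y) ↘ Y).residueFieldMap w).hom.toAlgebra = m) : m ≤ Nat.card n := by
  have := trdeg_le_fibreDimAt' (𝔸(n; Y) ↘ Y) (specializes_refl w) m hm
  rw [fibreDimAt_affineSpace] at this
  exact_mod_cast this

/-- a point of affine space which is maximal in its fibre has residue trdeg `card n`. -/
theorem trdeg_eq_card_of_maximal_in_fibre (w : 𝔸(n; Y))
    (hmax : ∀ w' : 𝔸(n; Y), w' ⤳ w → (𝔸(n; Y) ↘ Y).base w' = (𝔸(n; Y) ↘ Y).base w → w' = w) :
    @Algebra.trdeg (Y.residueField ((𝔸(n; Y) ↘ Y).base w)) (𝔸(n; Y).residueField w) _ _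
      ((𝔸(n; Y) ↘ Y).residueFieldMap w).hom.toAlgebra = (Nat.card n : ℕ) := by
  obtain ⟨m, hm⟩ := exists_trdeg_residueField_eq_nat' (𝔸(n; Y) ↘ Y) w
  have := fibreDimAt_eq_trdeg_of_maximal_in_fibre (𝔸(n; Y) ↘ Y) w hmax m hm
  rw [fibreDimAt_affineSpace] at this
  have h2 : Nat.card n = m := by exact_mod_cast this
  rw [hm, h2]

/-- a point of affine space of residue trdeg `card n` over a maximal point of the base is maximal. -/
theorem maximal_of_trdeg_eq_card (w : 𝔸(n; Y))
    (hη : ∀ η' : Y, η' ⤳ (𝔸(n; Y) ↘ Y).base w → η' = (𝔸(n; Y) ↘ Y).base w)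
    (hm : @Algebra.trdeg (Y.residueField ((𝔸(n; Y) ↘ Y).base w)) (𝔸(n; Y).residueField w) _ _
      ((𝔸(n; Y) ↘ Y).residueFieldMap w).hom.toAlgebra = (Nat.card n : ℕ)) :
    ∀ w' : 𝔸(n; Y), w' ⤳ w → w' = w := by
  intro w' hsp
  have hp : (𝔸(n; Y) ↘ Y).base w' = (𝔸(n; Y) ↘ Y).base w :=
    hη _ (hsp.map (𝔸(n; Y) ↘ Y).continuous)
  by_contra hne
  obtain ⟨m', hm'⟩ := exists_trdeg_residueField_eq_nat' (𝔸(n; Y) ↘ Y) w'
  have h1 := trdeg_lt_trdeg_of_specializes_of_fibre' (𝔸(n; Y) ↘ Y) hsp hne hp m' (Nat.card n) hm' hm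
  have h2 := trdeg_le_card n Y w' m' hm'
  omega

omit [Finite n] in
/-- a maximal point of affine space lies over a maximal point of the base. -/
theorem maximal_base_of_maximal (w : 𝔸(n; Y)) (hmax : ∀ w' : 𝔸(n; Y), w' ⤳ w → w' = w) :
    ∀ η' : Y, η' ⤳ (𝔸(n; Y) ↘ Y).base w → η' = (𝔸(n; Y) ↘ Y).base w := by
  intro η' hsp
  haveI := flat_over n Y
  obtain ⟨w', hw', rfl⟩ := (Flat.generalizingMap (𝔸(n; Y) ↘ Y)) hsp
  rw [hmax w' hw']

omit [Finite n] in
/-- residue trdeg through a locally quasi-finite `Y`-morphism to affine space. -/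
theorem trdeg_eq_of_locallyQuasiFinite_to_affineSpace {X : Scheme.{u}} (f : X ⟶ Y) (U : X.Opens)
    (g : (U : Scheme.{u}) ⟶ 𝔸(n; Y)) (hg : g ≫ (𝔸(n; Y) ↘ Y) = U.ι ≫ f) [LocallyQuasiFinite g]
    (z : ↥U) :
    @Algebra.trdeg (Y.residueField ((𝔸(n; Y) ↘ Y).base (g.base z))) (𝔸(n; Y).residueField (g.base z)) _ _
      ((𝔸(n; Y) ↘ Y).residueFieldMap (g.base z)).hom.toAlgebra =
    @Algebra.trdeg (Y.residueField (f.base (U.ι.base z))) (X.residueField (U.ι.base z)) _ _
      (f.residueFieldMap (U.ι.base z)).hom.toAlgebra := by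
  have h1 := Groth.Agent.Lib.Helper73.FieldDim.trdeg_residueFieldMap_comp_add g (𝔸(n; Y) ↘ Y) z
  have h2 : @Algebra.trdeg (𝔸(n; Y).residueField (g.base z)) ((U : Scheme.{u}).residueField z) _ _
      (g.residueFieldMap z).hom.toAlgebra = 0 :=
    Groth.Agent.Lib.Helper21.FieldDim.trdegAt_eq_zero_of_locallyQuasiFinite g z
  have h3 := trdeg_residueFieldMap_congr hg z
  have h4 := trdeg_opensι_comp f U z
  rw [h2, add_zero] at h1
  rw [h1, h3, h4]

end Groth.Agent.Lib.Helper82.AffSpaceDim
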