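import Mathlib

/-!
# Closed surjective maps do not lower topological Krull dimension (helper82)

`topologicalKrullDim_le_of_isClosedMap`: for `g : X → Z` continuous, closed and surjective with `Z`
quasi-sober, `dim Z ≤ dim X` (chains of irreducible closed subsets lift from the top).
`topologicalKrullDim_le_of_incomparable`: continuous map with incomparable fibres, `dim X ≤ dim Z`.
`dim_eq_of_closed_incomparable`: if moreover fibres have no nontrivial specializations, `dim X = dim Z`.
-/

namespace Groth.Agent.Lib.Helper82.TopDimClosed
open TopologicalSpace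

/-- A continuous closed surjective map onto a quasi-sober space does not lower dimension. -/
theorem topologicalKrullDim_le_of_isClosedMap {X Z : Type*} [TopologicalSpace X]
    [TopologicalSpace Z] [QuasiSober Z] (g : X → Z) (hc : Continuous g) (hg : IsClosedMap g)
    (hs : Function.Surjective g) :
    topologicalKrullDim Z ≤ topologicalKrullDim X := by
  have himg : ∀ x : X, g '' closure {x} = closure {g x} := by
    intro x
    apply Set.Subset.antisymm
    · exact (image_closure_subset_closure_image hc).trans (by rw [Set.image_singleton])
    · apply closure_minimal _ (hg _ isClosed_closure)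
      rw [Set.singleton_subset_iff]
      exact ⟨x, subset_closure rfl, rfl⟩
  have key : ∀ p : LTSeries (IrreducibleCloseds Z), ∀ x : X,
      IsGenericPoint (g x) (p.last : Set Z) →
      ∃ q : LTSeries (IrreducibleCloseds X), q.length = p.length ∧
        (q.last : Set X) = closure {x} := by
    intro p
    induction p using RelSeries.inductionOn' with
    | singleton a =>
      intro x hx
      exact ⟨RelSeries.singleton _ ⟨closure {x}, isIrreducible_singleton.closure, isClosed_closure⟩,
        rfl, rfl⟩
    | snoc p a ha ih =>
      intro x hx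
      rw [RelSeries.last_snoc] at hx
      obtain ⟨η, hη⟩ := QuasiSober.sober p.last.isIrreducible p.last.isClosed
      have hlt : (p.last : Set Z) ⊂ (a : Set Z) := ha
      have hmem : η ∈ g '' closure {x} := by
        rw [himg, hx.def]
        exact hlt.subset hη.mem
      obtain ⟨x', hx'x, hx'⟩ := hmem
      obtain ⟨q, hql, hqh⟩ := ih x' (by rw [hx']; exact hη)
      have hrel : q.last < (⟨closure {x}, isIrreducible_singleton.closure, isClosed_closure⟩ :
          IrreducibleCloseds X) := by
        change (q.last : Set X) ⊂ (closure {x} : Set X)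
        rw [hqh]
        refine ⟨closure_minimal (Set.singleton_subset_iff.2 hx'x) isClosed_closure, fun hsub => ?_⟩
        have h1 : x ∈ closure {x'} := hsub (subset_closure rfl)
        have h2 : g x ∈ closure {g x'} := by
          rw [← himg]; exact ⟨x, h1, rfl⟩
        rw [hx', hη.def] at h2
        apply hlt.2
        rw [← hx.def]
        exact closure_minimal (Set.singleton_subset_iff.2 h2) p.last.isClosed
      exact ⟨q.snoc _ hrel, by simp [hql], by simp⟩
  unfold topologicalKrullDim
  refine iSup_le fun p => ?_
  obtain ⟨η, hη⟩ := QuasiSober.sober p.last.isIrreducible p.last.isClosed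
  obtain ⟨x, rfl⟩ := hs η
  obtain ⟨q, hql, -⟩ := key p x hη
  rw [← hql]
  exact Order.LTSeries.length_le_krullDim q

/-- closed surjective map with incomparable fibres preserves dimension -/
theorem dim_eq_of_closed_incomparable {X Z : Type*} [TopologicalSpace X]
    [TopologicalSpace Z] [QuasiSober X] [QuasiSober Z] (g : X → Z) (hc : Continuous g)
    (hg : IsClosedMap g) (hs : Function.Surjective g)
    (hfib : ∀ x x' : X, x ⤳ x' → g x = g x' → x = x') :
    topologicalKrullDim X = topologicalKrullDim Z := by
  apply le_antisymm
  · unfold topologicalKrullDim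
    refine Order.krullDim_le_of_strictMono
      (fun T : IrreducibleCloseds X => (⟨g '' (T : Set X), T.isIrreducible.image g hc.continuousOn,
        hg _ T.isClosed⟩ : IrreducibleCloseds Z)) ?_
    intro T T' hlt
    have hsub : (T : Set X) ⊂ (T' : Set X) := hlt
    change (g '' (T : Set X)) ⊂ (g '' (T' : Set X))
    refine ⟨Set.image_mono hsub.subset, fun hcon => ?_⟩
    obtain ⟨ξ, hξ⟩ := QuasiSober.sober T'.isIrreducible T'.isClosed
    obtain ⟨t, ht, hte⟩ := hcon ⟨ξ, hξ.mem, rfl⟩
    have hspec : ξ ⤳ t := by
      rw [specializes_iff_mem_closure, hξ.def]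
      exact hsub.subset ht
    have := hfib ξ t hspec hte.symm
    apply hsub.2
    rw [← hξ.def]
    exact closure_minimal (Set.singleton_subset_iff.2 (this ▸ ht)) T.isClosed
  · exact topologicalKrullDim_le_of_isClosedMap g hc hg hs

/-- a continuous map whose fibres have no nontrivial specializations does not lower dimension -/
theorem topologicalKrullDim_le_of_incomparable {X Z : Type*} [TopologicalSpace X]
    [TopologicalSpace Z] [QuasiSober X] [T0Space Z] (g : X → Z) (hc : Continuous g)
    (hfib : ∀ x x' : X, x ⤳ x' → g x = g x' → x = x') :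
    topologicalKrullDim X ≤ topologicalKrullDim Z := by
  unfold topologicalKrullDim
  have hcl : ∀ (T : IrreducibleCloseds X) (ξ : X), IsGenericPoint ξ (T : Set X) →
      closure (g '' (T : Set X)) = closure {g ξ} := by
    intro T ξ hξ
    apply Set.Subset.antisymm
    · apply closure_minimal _ isClosed_closure
      rw [← hξ.def]
      exact (image_closure_subset_closure_image hc).trans (by rw [Set.image_singleton])
    · apply closure_mono
      rw [Set.singleton_subset_iff]
      exact ⟨ξ, hξ.mem, rfl⟩
  refine Order.krullDim_le_of_strictMono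
    (fun T : IrreducibleCloseds X => (⟨closure (g '' (T : Set X)),
      (T.isIrreducible.image g hc.continuousOn).closure, isClosed_closure⟩ : IrreducibleCloseds Z)) ?_
  intro T T' hlt
  have hsub : (T : Set X) ⊂ (T' : Set X) := hlt
  change closure (g '' (T : Set X)) ⊂ closure (g '' (T' : Set X))
  refine ⟨closure_mono (Set.image_mono hsub.subset), fun hcon => ?_⟩
  obtain ⟨ξ, hξ⟩ := QuasiSober.sober T.isIrreducible T.isClosed
  obtain ⟨ξ', hξ'⟩ := QuasiSober.sober T'.isIrreducible T'.isClosed
  rw [hcl T ξ hξ, hcl T' ξ' hξ'] at hcon
  have hle : closure {g ξ} ⊆ closure {g ξ'} := by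
    rw [← hcl T ξ hξ, ← hcl T' ξ' hξ']
    exact closure_mono (Set.image_mono hsub.subset)
  have hins : Inseparable (g ξ') (g ξ) := by
    rw [inseparable_iff_closure_eq]
    exact Set.Subset.antisymm hcon hle
  have heq : g ξ' = g ξ := hins.eq
  have hspec : ξ' ⤳ ξ := by
    rw [specializes_iff_mem_closure, hξ'.def]
    exact hsub.subset hξ.mem
  have := hfib ξ' ξ hspec heq
  apply hsub.2
  rw [← hξ'.def, this, hξ.def]

end Groth.Agent.Lib.Helper82.TopDimClosed
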