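import Groth.Agent.Lib.Helper94.KFlatTrunc
import Mathlib

/-!
# Dévissage for acyclicity of `Φ(L)` (helper82)

* `isColimitTrCocone K` : `K` is the `ℕ`-indexed colimit of its canonical truncations `τ_{≤ k} K`;
* `acyclic_obj_of_concentrated` : a functor on cochain complexes preserving degreewise split short
  exact sequences and `ℕ`-indexed colimits which kills complexes concentrated in one degree kills
  every complex;
* `acyclic_mapBifunctor_of_concentrated` : `Tot T(F, L)` for `L` concentrated in one degree.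
-/

universe v u v' u'

open CategoryTheory CategoryTheory.Limits HomologicalComplex

namespace Groth.Agent.Lib.Helper82.AcyclicDevissage

open Groth.Agent.Lib.Helper94.KFlatAbs Groth.Agent.Lib.Helper94.KFlatTrunc

section CanonicalTrunc

set_option backward.isDefEq.respectTransparency false in
lemma isIso_πTruncGE_f {C : Type*} [Category C] [HasZeroMorphisms C] [HasZeroObject C]
    {ι ι' : Type*} {c : ComplexShape ι} {c' : ComplexShape ι'}
    (K : HomologicalComplex C c') (e : c.Embedding c') [e.IsTruncGE] [∀ i', K.HasHomology i']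
    (i : ι) (hi : ¬ e.BoundaryGE i) : IsIso ((K.πTruncGE e).f (e.f i)) := by
  have := K.isIso_restrictionToTruncGE' e i hi
  exact (e.isIso_liftExtend_f_iff (K.restrictionToTruncGE' e)
    (K.restrictionToTruncGE'_hasLift e) rfl).2 this

variable {C : Type u} [Category.{v} C] [Abelian C]

lemma isIso_ιTruncLE_f (K : CochainComplex C ℤ) (n i : ℤ) (hi : i < n) :
    IsIso ((K.ιTruncLE n).f i) := by
  obtain ⟨k, hk⟩ : ∃ k : ℕ, (ComplexShape.embeddingUpIntLE n).f k = i :=
    ⟨(n - i).toNat, by change n - ((n - i).toNat : ℤ) = i; omega⟩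
  have hk0 : k ≠ 0 := by
    rintro rfl
    change n - ((0 : ℕ) : ℤ) = i at hk
    simp at hk
    omega
  subst hk
  have hb : ¬ (ComplexShape.embeddingUpIntLE n).BoundaryLE k := by
    rw [ComplexShape.boundaryLE_embeddingUpIntLE_iff]
    exact hk0
  have h1 : IsIso ((K.op.πTruncGE (ComplexShape.embeddingUpIntLE n).op).f
      ((ComplexShape.embeddingUpIntLE n).f k)) :=
    isIso_πTruncGE_f K.op (ComplexShape.embeddingUpIntLE n).op k (by simpa using hb)
  exact inferInstanceAs (IsIso ((K.op.πTruncGE (ComplexShape.embeddingUpIntLE n).op).f _).unop)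

lemma isZero_truncLE_X (K : CochainComplex C ℤ) (n i : ℤ) (hi : n < i) :
    IsZero ((K.truncLE n).X i) :=
  (K.truncLE n).isZero_of_isStrictlyLE n i hi

/-- transition maps `τ_{≤ m} K ⟶ τ_{≤ m'} K` for `m ≤ m'` -/
noncomputable def trMap (K : CochainComplex C ℤ) {m m' : ℤ} (h : m ≤ m') :
    K.truncLE m ⟶ K.truncLE m' :=
  haveI : (K.truncLE m).IsStrictlyLE m' := (K.truncLE m).isStrictlyLE_of_le m m' h
  inv ((K.truncLE m).ιTruncLE m') ≫ CochainComplex.truncLEMap (K.ιTruncLE m) m'

@[reassoc (attr := simp)]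
lemma trMap_ι (K : CochainComplex C ℤ) {m m' : ℤ} (h : m ≤ m') :
    trMap K h ≫ K.ιTruncLE m' = K.ιTruncLE m := by
  haveI : (K.truncLE m).IsStrictlyLE m' := (K.truncLE m).isStrictlyLE_of_le m m' h
  unfold trMap
  rw [Category.assoc, CochainComplex.ιTruncLE_naturality, IsIso.inv_hom_id_assoc]

instance mono_ιTruncLE' (K : CochainComplex C ℤ) (m : ℤ) : Mono (K.ιTruncLE m) :=
  inferInstanceAs (Mono (HomologicalComplex.ιTruncLE K (ComplexShape.embeddingUpIntLE m)))

lemma isIso_trMap_f (K : CochainComplex C ℤ) {m m' : ℤ} (h : m ≤ m') (n : ℤ) (hn : n < m) :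
    IsIso ((trMap K h).f n) := by
  have h1 : (trMap K h).f n ≫ (K.ιTruncLE m').f n = (K.ιTruncLE m).f n := by
    rw [← comp_f, trMap_ι]
  have := isIso_ιTruncLE_f K m n hn
  have := isIso_ιTruncLE_f K m' n (by omega)
  exact IsIso.of_isIso_fac_right h1

/-- `k ↦ τ_{≤ k} K` -/
noncomputable def trFunctor (K : CochainComplex C ℤ) : ℕ ⥤ CochainComplex C ℤ where
  obj k := K.truncLE (k : ℤ)
  map {k k'} f := trMap K (m := (k : ℤ)) (m' := (k' : ℤ)) (by have := leOfHom f; omega)
  map_id k := by rw [← cancel_mono (K.ιTruncLE _), trMap_ι, Category.id_comp]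
  map_comp f g := by rw [← cancel_mono (K.ιTruncLE _), Category.assoc, trMap_ι, trMap_ι, trMap_ι]

/-- the cocone `τ_{≤ k} K ⟶ K` -/
noncomputable def trCocone (K : CochainComplex C ℤ) : Cocone (trFunctor K) where
  pt := K
  ι :=
    { app := fun k => K.ιTruncLE (k : ℤ)
      naturality := fun k k' f => by
        dsimp [trFunctor]
        rw [trMap_ι, Category.comp_id] }

/-- `K` is the colimit (union) of its canonical truncations `τ_{≤ k} K` -/
noncomputable def isColimitTrCocone (K : CochainComplex C ℤ) :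
    IsColimit (trCocone K) := by
  refine isColimitOfEval _ _ (fun n => ?_)
  let k₀ : ℕ := (n + 1).toNat
  have hk₀ : (trFunctor K ⋙ eval C (ComplexShape.up ℤ) n).IsEventuallyConstantFrom k₀ := by
    intro k f
    have := leOfHom f
    exact isIso_trMap_f K (m := (k₀ : ℤ)) (m' := (k : ℤ)) (by omega) n (by omega)
  haveI : IsIso (((eval C (ComplexShape.up ℤ) n).mapCocone (trCocone K)).ι.app k₀) :=
    isIso_ιTruncLE_f K _ n (by omega)
  exact hk₀.isColimitOfIsIso _

end CanonicalTrunc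

section Devissage

variable {C : Type u} [Category.{v} C] [Abelian C] {D : Type u'} [Category.{v'} D] [Abelian D]
  (Φ : CochainComplex C ℤ ⥤ CochainComplex D ℤ) [Φ.Additive]

/-- the brutal truncations `σ_{> b - k} L` of a bounded above complex are sent to acyclic
complexes -/
theorem acyclic_obj_sub (hΦ : PreservesSplit Φ)
    (h1 : ∀ (L : CochainComplex C ℤ) (q₀ : ℤ), (∀ q : ℤ, q ≠ q₀ → IsZero (L.X q)) →
      (Φ.obj L).Acyclic)
    (K : CochainComplex C ℤ) (b : ℤ) (hb : ∀ n : ℤ, b < n → IsZero (K.X n)) (k : ℕ) :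
    ∀ m : ℤ, m = b - k → (Φ.obj (sub K m)).Acyclic := by
  induction k with
  | zero =>
    intro m hm
    refine h1 _ 0 (fun n _ => ?_)
    by_cases hn : n ≤ m
    · exact isZero_sub_X K m n hn
    · have := isIso_subι_f K m n (by omega)
      exact IsZero.of_iso (hb n (by simp at hm; omega)) (asIso ((subι K m).f n))
  | succ k ih =>
    intro m hm
    have ih' := ih (m + 1) (by push_cast at hm; omega)
    have hmm : m ≤ m + 1 := by omega
    let f : sub K (m + 1) ⟶ sub K m := subMap K hmm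
    let S := ShortComplex.mk f (cokernel.π f) (cokernel.condition f)
    have hS : S.ShortExact :=
      { exact := ShortComplex.exact_of_g_is_cokernel _ (cokernelIsCokernel f) }
    have hSq : ∀ q : ℤ, (S.map (eval C (ComplexShape.up ℤ) q)).ShortExact :=
      fun q => hS.map_of_exact _
    have hle : ∀ q : ℤ, q ≤ m + 1 → IsIso ((cokernel.π f).f q) := fun q hq =>
      (hSq q).isIso_g_iff.2 (isZero_sub_X K (m + 1) q hq)
    have hgt : ∀ q : ℤ, m + 1 < q → IsZero ((cokernel f).X q) := fun q hq =>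
      (hSq q).isIso_f_iff.1 (isIso_subMap_f K hmm q hq)
    have hsplit : ∀ q : ℤ, Nonempty (S.map (eval C (ComplexShape.up ℤ) q)).Splitting := fun q => by
      by_cases hq : q ≤ m + 1
      · exact ⟨ShortComplex.Splitting.ofIsZeroOfIsIso _ (isZero_sub_X K (m + 1) q hq) (hle q hq)⟩
      · exact ⟨ShortComplex.Splitting.ofIsIsoOfIsZero _ (isIso_subMap_f K hmm q (by omega))
          (hgt q (by omega))⟩
    have hSΦ : (S.map Φ).ShortExact := hΦ S hsplit
    refine hSΦ.acyclic_X₂ ih' ?_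
    refine h1 _ (m + 1) (fun q hq => ?_)
    by_cases hq' : q ≤ m
    · have : Epi ((cokernel.π f).f q) := (hSq q).epi_g
      exact IsZero.of_epi ((cokernel.π f).f q) (isZero_sub_X K m q hq')
    · exact hgt q (by omega)

variable [HasColimitsOfShape ℕ C] [PreservesColimitsOfShape ℕ Φ]
  [HasColimitsOfShape ℕ D] [HasExactColimitsOfShape ℕ D]

theorem acyclic_obj_of_bounded_above (hΦ : PreservesSplit Φ)
    (h1 : ∀ (L : CochainComplex C ℤ) (q₀ : ℤ), (∀ q : ℤ, q ≠ q₀ → IsZero (L.X q)) →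
      (Φ.obj L).Acyclic)
    (K : CochainComplex C ℤ) (b : ℤ) (hb : ∀ n : ℤ, b < n → IsZero (K.X n)) :
    (Φ.obj K).Acyclic :=
  acyclic_of_isColimit (Φ.mapCocone (subCocone K b)) (isColimitOfPreserves Φ (isColimitSubCocone K b))
    (fun k => acyclic_obj_sub Φ hΦ h1 K b hb k _ rfl)

/-- **dévissage**: a functor on complexes which preserves degreewise split short exact sequences
and `ℕ`-indexed colimits, and sends complexes concentrated in one degree to acyclic complexes,
sends every complex to an acyclic complex. -/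
theorem acyclic_obj_of_concentrated (hΦ : PreservesSplit Φ)
    (h1 : ∀ (L : CochainComplex C ℤ) (q₀ : ℤ), (∀ q : ℤ, q ≠ q₀ → IsZero (L.X q)) →
      (Φ.obj L).Acyclic)
    (K : CochainComplex C ℤ) : (Φ.obj K).Acyclic :=
  acyclic_of_isColimit (Φ.mapCocone (trCocone K)) (isColimitOfPreserves Φ (isColimitTrCocone K))
    (fun k => acyclic_obj_of_bounded_above Φ hΦ h1 _ (k : ℤ)
      (fun n hn => isZero_truncLE_X K _ n hn))

end Devissage

section Concentrated

open Groth.Agent.Lib.Helper94.KFlatBi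

universe v₁ v₂ v₃ u₁ u₂ u₃

variable {C₁ : Type u₁} [Category.{v₁} C₁] [Abelian C₁] {C₂ : Type u₂} [Category.{v₂} C₂] [Abelian C₂]
  {D : Type u₃} [Category.{v₃} D] [Abelian D]
  (T : C₁ ⥤ C₂ ⥤ D) [T.Additive] [∀ X, (T.obj X).Additive]
  [∀ (K₁ : CochainComplex C₁ ℤ) (K₂ : CochainComplex C₂ ℤ),
    HasMapBifunctor K₁ K₂ T (ComplexShape.up ℤ)]

theorem acyclic_mapBifunctor_of_concentrated (F : CochainComplex C₁ ℤ) (L : CochainComplex C₂ ℤ)
    (q₀ : ℤ) (hL : ∀ q : ℤ, q ≠ q₀ → IsZero (L.X q))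
    (hF : ∀ p : ℤ, ((F.sc' (p - 1) p (p + 1)).map (T.flip.obj (L.X q₀))).Exact) :
    (mapBifunctor F L T (ComplexShape.up ℤ)).Acyclic := by
  intro n
  rw [exactAt_iff' _ (n - 1) n (n + 1) (by simp) (by simp)]
  obtain ⟨p, hp⟩ : ∃ p : ℤ, p + q₀ = n := ⟨n - q₀, by omega⟩
  have h1 := hF p
  have h₁ : p - 1 + q₀ = n - 1 := by omega
  have h₃ : p + 1 + q₀ = n + 1 := by omega
  let e₁ := @asIso _ _ _ _ (ιMapBifunctor F L T (ComplexShape.up ℤ) (p - 1) q₀ (n - 1) h₁)
    (isIso_ι T F L q₀ hL (p - 1) (n - 1) h₁)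
  let e₂ := @asIso _ _ _ _ (ιMapBifunctor F L T (ComplexShape.up ℤ) p q₀ n hp)
    (isIso_ι T F L q₀ hL p n hp)
  let e₃ := @asIso _ _ _ _ (ιMapBifunctor F L T (ComplexShape.up ℤ) (p + 1) q₀ (n + 1) h₃)
    (isIso_ι T F L q₀ hL (p + 1) (n + 1) h₃)
  refine (ShortComplex.exact_iff_of_iso (ShortComplex.isoMk e₁ e₂ e₃ ?_ ?_)).1 h1
  · exact ι_d T F L q₀ hL (p - 1) p (n - 1) n (by omega) (by omega) (by omega)
  · exact ι_d T F L q₀ hL p (p + 1) n (n + 1) hp rfl rfl

end Concentrated

end Groth.Agent.Lib.Helper82.AcyclicDevissage
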