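/-
helper82: EGA IV 13.3.1 a) ⟺ b): equidimensionality at a point vs. quasi-finite morphisms to affine space.
* `exists_quasiFinite_of_isEquidimAt`: a) ⟹ b) (any base), via S3394/S3395 (helper35).
* `isEquidimAt_of_exists_quasiFinite`: b) ⟹ a) (locally Noetherian base).
-/
import Mathlib
import Groth.Agent.Lib.Helper82.AffSpaceDim
import Groth.Agent.Lib.Helper73.FibreDimRetro
import Groth.Agent.S3394
import Groth.Agent.S3395
set_option linter.style.haveILetI false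
set_option autoImplicit false
universe u
open Cardinal CategoryTheory AlgebraicGeometry Limits

namespace Groth.Agent.Lib.Helper82.EquidimAff

open Groth.Agent.Lib.Helper73.DimFormula Groth.Agent.Lib.Helper73.RelHt
open Groth.Agent.Lib.Helper73.SchemeDim
open Groth.Agent.Lib.Helper82.EquidimBC Groth.Agent.Lib.Helper82.AffSpaceDim

variable {X Y : Scheme.{u}}

theorem card_ulift_fin (e : ℕ) : Nat.card (ULift.{u} (Fin e)) = e := by
  simp

/-- the component condition of EGA IV 13.3.1 b) for a quasi-finite morphism to affine space. -/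
theorem closure_image_mem_irreducibleComponents (f : X ⟶ Y) [LocallyOfFiniteType f] (e : ℕ)
    (U : X.Opens)
    (hA : ∀ ξ : X, ξ ∈ U → (∀ ξ' : X, ξ' ⤳ ξ → ξ' = ξ) →
        (∀ η' : Y, η' ⤳ f.base ξ → η' = f.base ξ))
    (hB : ∀ z : X, z ∈ U → (∀ z' : X, z' ⤳ z → f.base z' = f.base z → z' = z) →
        @Algebra.trdeg (Y.residueField (f.base z)) (X.residueField z) _ _
          (f.residueFieldMap z).hom.toAlgebra = e)
    (Uf : X.Opens) (hUfU : Uf ≤ U) (g : (Uf : Scheme.{u}) ⟶ 𝔸(ULift.{u} (Fin e); Y))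
    (hg : g ≫ (𝔸(ULift.{u} (Fin e); Y) ↘ Y) = Uf.ι ≫ f) [LocallyQuasiFinite g] :
    ∀ Z ∈ irreducibleComponents (↥Uf : Type u),
      closure (g.base '' Z) ∈ irreducibleComponents (↥𝔸(ULift.{u} (Fin e); Y) : Type u) := by
  intro Z hZ
  haveI : QuasiSober ↥Uf := Uf.isOpen.isOpenEmbedding_subtypeVal.quasiSober
  obtain ⟨ξ', hξ'max, hξ'Z⟩ := exists_maximal_closure_eq_of_mem_irreducibleComponents hZ
  have hind : Topology.IsInducing (Uf.ι.base : ↥Uf → X) := Uf.ι.isEmbedding.isInducing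
  have hξmax : ∀ ξ₁ : X, ξ₁ ⤳ ξ'.1 → ξ₁ = ξ'.1 := by
    intro ξ₁ hsp
    have hξ₁U : ξ₁ ∈ Uf := hsp.mem_open Uf.isOpen ξ'.2
    have : (⟨ξ₁, hξ₁U⟩ : ↥Uf) ⤳ ξ' := hind.specializes_iff.mp hsp
    exact congrArg Subtype.val (hξ'max _ this)
  have hfmax := hA ξ'.1 (hUfU ξ'.2) hξmax
  have htr := hB ξ'.1 (hUfU ξ'.2) (fun z' hsp _ => hξmax z' hsp)
  obtain ⟨ξs, hξs⟩ : ∃ ξs : ↥(Uf : Scheme.{u}), ξs = ξ' := ⟨ξ', rfl⟩
  have hT := trdeg_eq_of_locallyQuasiFinite_to_affineSpace (ULift.{u} (Fin e)) Y f Uf g hg ξs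
  have hι : Uf.ι.base ξs = ξ'.1 := by rw [hξs]; rfl
  have hpg : (𝔸(ULift.{u} (Fin e); Y) ↘ Y).base (g.base ξs) = f.base (Uf.ι.base ξs) := by
    rw [← Scheme.Hom.comp_apply, ← Scheme.Hom.comp_apply, hg]
  have hwmax := maximal_of_trdeg_eq_card (ULift.{u} (Fin e)) Y (g.base ξs)
    (by rw [hpg, hι]; exact hfmax) (by
      rw [hT, card_ulift_fin, trdeg_residueFieldMap_congr_pt f hι]; exact htr)
  have hcl : closure (g.base '' Z) = closure {g.base ξs} := by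
    subst hξ'Z
    have h1 := closure_image_closure (f := (g.base : ↥Uf → _)) (s := ({ξ'} : Set ↥Uf)) g.continuous
    have h2 : (g.base : ↥Uf → _) '' ({ξ'} : Set ↥Uf) = {g.base ξs} := by
      rw [hξs]; exact Set.image_singleton
    rw [h2] at h1
    exact h1
  rw [hcl]
  exact closure_singleton_mem_irreducibleComponents_of_maximal _ hwmax

/-- EGA IV 13.3.1 a) ⟹ b). -/
theorem exists_quasiFinite_of_isEquidimAt (f : X ⟶ Y) [LocallyOfFiniteType f] (x : X)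
    (h : EGA43.IsEquidimAt f x) :
    ∃ (e : ℕ) (U : X.Opens) (g : (U : Scheme.{u}) ⟶ 𝔸(ULift.{u} (Fin e); Y)),
        x ∈ U ∧ g ≫ (𝔸(ULift.{u} (Fin e); Y) ↘ Y) = U.ι ≫ f ∧ LocallyQuasiFinite g ∧
        ∀ Z ∈ irreducibleComponents (↥U : Type u),
          closure (g.base '' Z) ∈ irreducibleComponents (↥𝔸(ULift.{u} (Fin e); Y) : Type u) := by
  obtain ⟨e, U, hxU, hA, hB⟩ := (isEquidimAt_iff' f x).1 h
  -- all points of `U` have fibre dimension `e`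
  have hfdU : ∀ z : X, z ∈ U → FlatMor.fibreDimAt f z = (e : WithBot ℕ∞) := by
    intro z hz
    obtain ⟨ζ, m, hζsp, hζf, hζmax, hmζ, hF⟩ := exists_maximal_in_fibre_trdeg_eq_fibreDimAt f z
    have hζU : ζ ∈ U := hζsp.mem_open U.isOpen hz
    have h3 := hB ζ hζU hζmax
    have h4 : ((m : ℕ) : Cardinal.{u}) = e := by rw [← hmζ, ← h3]
    have hne : m = e := by exact_mod_cast h4
    rw [hF, hne]
  -- affine opens
  obtain ⟨V, hV, hfxV⟩ : ∃ V : Y.Opens, IsAffineOpen V ∧ f.base x ∈ V := by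
    obtain ⟨_, ⟨V, hV : IsAffineOpen V, rfl⟩, hfxV, -⟩ :=
      (Y.isBasis_affineOpens).exists_subset_of_mem_open (Set.mem_univ (f.base x)) isOpen_univ
    exact ⟨V, hV, hfxV⟩
  obtain ⟨U₁, hU₁, hxU₁, hU₁sub⟩ : ∃ U₁ : X.Opens, IsAffineOpen U₁ ∧ x ∈ U₁ ∧
      (U₁ : Set X) ⊆ ((U ⊓ f ⁻¹ᵁ V : X.Opens) : Set X) := by
    obtain ⟨_, ⟨U₁, hU₁ : IsAffineOpen U₁, rfl⟩, hxU₁, hU₁sub⟩ :=
      (X.isBasis_affineOpens).exists_subset_of_mem_open
        (show x ∈ ((U ⊓ f ⁻¹ᵁ V : X.Opens) : Set X) from ⟨hxU, hfxV⟩) (U ⊓ f ⁻¹ᵁ V).isOpen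
    exact ⟨U₁, hU₁, hxU₁, hU₁sub⟩
  have hU₁U : U₁ ≤ U := fun a ha => (hU₁sub ha).1
  have hU₁V : U₁ ≤ f ⁻¹ᵁ V := fun a ha => (hU₁sub ha).2
  haveI : IsAffine (U₁ : Scheme.{u}) := hU₁
  haveI : IsAffine (V : Scheme.{u}) := hV
  obtain ⟨f₁, hf₁def⟩ : ∃ f₁ : (U₁ : Scheme.{u}) ⟶ (V : Scheme.{u}), f₁ = f.resLE V U₁ hU₁V :=
    ⟨_, rfl⟩
  have hf₁ : f₁ ≫ V.ι = U₁.ι ≫ f := by rw [hf₁def]; exact Scheme.Hom.resLE_comp_ι f hU₁V
  haveI hlft : LocallyOfFiniteType (f₁ ≫ V.ι) := by rw [hf₁]; infer_instance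
  haveI : LocallyOfFiniteType f₁ := locallyOfFiniteType_of_comp f₁ V.ι
  let x₁ : ↥(U₁ : Scheme.{u}) := ⟨x, hxU₁⟩
  have hfd₁ : ∀ x₂ : ↥(U₁ : Scheme.{u}), FlatMor.fibreDimAt f₁ x₂ = (e : WithBot ℕ∞) := by
    intro x₂
    have h1 := Groth.Agent.Lib.Helper73.FibreDimRetro.fibreDimAt_comp_mono f₁ V.ι x₂
    have h2 := Groth.Agent.Lib.Helper73.FibreDimRetro.fibreDimAt_comp_openImmersion U₁.ι f x₂
    rw [← h1]
    have h3 : FlatMor.fibreDimAt (f₁ ≫ V.ι) x₂ = FlatMor.fibreDimAt (U₁.ι ≫ f) x₂ := by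
      congr 1
    rw [h3, h2]
    exact hfdU _ (hU₁U x₂.2)
  have hdim : topologicalKrullDim ↥(f₁.fiber (f₁.base x₁)) = (e : WithBot ℕ∞) := by
    rw [Groth.Agent.Lib.Helper29.topologicalKrullDim_eq_iSup_localDim]
    apply le_antisymm
    · apply iSup_le
      intro z
      rw [localDim_fiber_eq_fibreDimAt f₁ _ _ (base_fiberι' f₁ _ z) z rfl, hfd₁]
    · refine le_trans ?_ (le_iSup _ (f₁.asFiber x₁))
      have := hfd₁ x₁
      unfold FlatMor.fibreDimAt at this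
      rw [this]
  obtain ⟨g₁, hg₁, hfin⟩ := Groth.Agent.S3394.result f₁ (f₁.base x₁) ⟨x₁, rfl⟩ e hdim
  obtain ⟨-, U₂, hU₂, hqf⟩ := Groth.Agent.S3395.result f₁ (f₁.base x₁) ⟨x₁, rfl⟩ e hdim g₁ hg₁ hfin
  have hx₁U₂ : x₁ ∈ U₂ := hU₂ rfl
  haveI : IsOpenImmersion (AffineSpace.map (ULift.{u} (Fin e)) V.ι) :=
    MorphismProperty.of_isPullback (P := @IsOpenImmersion)
      (AffineSpace.isPullback_map (n := ULift.{u} (Fin e)) V.ι).flip inferInstance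
  obtain ⟨Uf, hUf⟩ : ∃ Uf : X.Opens, Uf = U₁.ι ''ᵁ U₂ := ⟨_, rfl⟩
  have hUfU : Uf ≤ U := by
    rw [hUf]
    rintro _ ⟨a, -, rfl⟩
    exact hU₁U a.2
  have hxUf : x ∈ Uf := by rw [hUf]; exact ⟨x₁, hx₁U₂, rfl⟩
  obtain ⟨g, hg, hqfg⟩ : ∃ g : (Uf : Scheme.{u}) ⟶ 𝔸(ULift.{u} (Fin e); Y),
      g ≫ (𝔸(ULift.{u} (Fin e); Y) ↘ Y) = Uf.ι ≫ f ∧ LocallyQuasiFinite g := by
    subst hUf
    refine ⟨(U₁.ι.isoImage U₂).inv ≫ (U₂.ι ≫ g₁) ≫ AffineSpace.map _ V.ι, ?_, ?_⟩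
    · rw [Category.assoc, Category.assoc, Category.assoc, AffineSpace.map_over, reassoc_of% hg₁, hf₁,
        ← Category.assoc U₂.ι, ← Category.assoc, ← Category.assoc, Category.assoc _ U₂.ι,
        Scheme.Hom.isoImage_inv_ι]
    · haveI := hqf
      infer_instance
  haveI := hqfg
  exact ⟨e, Uf, g, hxUf, hg, hqfg,
    closure_image_mem_irreducibleComponents f e U (fun ξ hξ hmax => (hA ξ hξ hmax).1) hB Uf hUfU g hg⟩

/-- EGA IV 13.3.1 b) ⟹ a) (locally Noetherian base). -/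
theorem isEquidimAt_of_exists_quasiFinite [IsLocallyNoetherian Y] (f : X ⟶ Y)
    [LocallyOfFiniteType f] (x : X)
    (e : ℕ) (U : X.Opens) (g : (U : Scheme.{u}) ⟶ 𝔸(ULift.{u} (Fin e); Y)) (hxU : x ∈ U)
    (hg : g ≫ (𝔸(ULift.{u} (Fin e); Y) ↘ Y) = U.ι ≫ f) [LocallyQuasiFinite g]
    (hcomp : ∀ Z ∈ irreducibleComponents (↥U : Type u),
          closure (g.base '' Z) ∈ irreducibleComponents (↥𝔸(ULift.{u} (Fin e); Y) : Type u)) :
    EGA43.IsEquidimAt f x := by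
  obtain ⟨V', hyV', hV'⟩ := exists_open_forall_exists_specializes Y (f.base x)
  haveI : QuasiSober ↥U := U.isOpen.isOpenEmbedding_subtypeVal.quasiSober
  have hind : Topology.IsInducing (U.ι.base : ↥U → X) := U.ι.isEmbedding.isInducing
  have key : ∀ ξ : X, ∀ hξU : ξ ∈ U, (∀ ξ' : X, ξ' ⤳ ξ → ξ' = ξ) →
      ∃ ξs : ↥(U : Scheme.{u}), U.ι.base ξs = ξ ∧
        ∀ w' : 𝔸(ULift.{u} (Fin e); Y), w' ⤳ g.base ξs → w' = g.base ξs := by
    intro ξ hξU hξmax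
    let ξU : ↥U := ⟨ξ, hξU⟩
    have hξUmax : ∀ ξ'' : ↥U, ξ'' ⤳ ξU → ξ'' = ξU := by
      intro ξ'' hsp
      have : ξ''.1 ⤳ ξ := hind.specializes_iff.mpr hsp
      exact Subtype.ext (hξmax _ this)
    have hZ := closure_singleton_mem_irreducibleComponents_of_maximal ξU hξUmax
    have h1 := hcomp _ hZ
    obtain ⟨ξs, hξs⟩ : ∃ ξs : ↥(U : Scheme.{u}), ξs = ξU := ⟨ξU, rfl⟩
    have h2 : closure (g.base '' closure ({ξU} : Set ↥U)) = closure {g.base ξs} := by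
      have h1 := closure_image_closure (f := (g.base : ↥U → _)) (s := ({ξU} : Set ↥U)) g.continuous
      have h2 : (g.base : ↥U → _) '' ({ξU} : Set ↥U) = {g.base ξs} := by
        rw [hξs]; exact Set.image_singleton
      rw [h2] at h1
      exact h1
    have h3 : closure ({g.base ξs} : Set ↥𝔸(ULift.{u} (Fin e); Y)) ∈
        irreducibleComponents (↥𝔸(ULift.{u} (Fin e); Y) : Type u) := h2 ▸ h1
    refine ⟨ξs, by rw [hξs]; rfl, maximal_of_closure_singleton_mem_irreducibleComponents _ h3⟩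
  refine (isEquidimAt_iff' f x).2 ⟨e, U ⊓ f ⁻¹ᵁ V', ⟨hxU, hyV'⟩, ?_, ?_⟩
  · intro ξ hξ hξmax
    obtain ⟨ξs, hξs, hwmax⟩ := key ξ hξ.1 hξmax
    have hpg : (𝔸(ULift.{u} (Fin e); Y) ↘ Y).base (g.base ξs) = f.base (U.ι.base ξs) := by
      rw [← Scheme.Hom.comp_apply, ← Scheme.Hom.comp_apply, hg]
    have hmaxY := maximal_base_of_maximal (ULift.{u} (Fin e)) Y (g.base ξs) hwmax
    rw [hpg, hξs] at hmaxY
    refine ⟨hmaxY, ?_⟩
    obtain ⟨ζ, hζ1, hζ2⟩ := hV' _ hξ.2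
    rw [hmaxY ζ hζ1] at hζ2
    exact hζ2
  · intro z hz hzmax
    obtain ⟨m, hm⟩ := exists_trdeg_residueField_eq_nat' f z
    obtain ⟨zs, hzs⟩ : ∃ zs : ↥(U : Scheme.{u}), U.ι.base zs = z := ⟨⟨z, hz.1⟩, rfl⟩
    have hT := trdeg_eq_of_locallyQuasiFinite_to_affineSpace (ULift.{u} (Fin e)) Y f U g hg zs
    rw [trdeg_residueFieldMap_congr_pt f hzs, hm] at hT
    have hle := trdeg_le_card (ULift.{u} (Fin e)) Y (g.base zs) m hT
    rw [card_ulift_fin] at hle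
    obtain ⟨ξ, hξmax, hξz⟩ := exists_maximal_specializes z
    have hξU : ξ ∈ U := hξz.mem_open U.isOpen hz.1
    obtain ⟨ξs, hξs, hwmax⟩ := key ξ hξU hξmax
    have hT2 := trdeg_eq_of_locallyQuasiFinite_to_affineSpace (ULift.{u} (Fin e)) Y f U g hg ξs
    have h3 := trdeg_eq_card_of_maximal_in_fibre (ULift.{u} (Fin e)) Y (g.base ξs)
      (fun w' hsp _ => hwmax w' hsp)
    rw [hT2, card_ulift_fin, trdeg_residueFieldMap_congr_pt f hξs] at h3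
    have h4 := trdeg_le_fibreDimAt' f hξz e h3
    have h5 := fibreDimAt_eq_trdeg_of_maximal_in_fibre f z hzmax m hm
    rw [h5] at h4
    have hge : e ≤ m := by exact_mod_cast h4
    have hme : m = e := le_antisymm hle hge
    rw [hm, hme]

end Groth.Agent.Lib.Helper82.EquidimAff
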