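import Mathlib
import Groth.Agent.Lib.Helper82.EquidimAff
import Groth.Agent.Lib.Helper61.UnibranchUnivOpen
import Groth.Agent.Lib.Helper70.UnivOpenAt
import Groth.Agent.Lib.Helper96.UnivOpenAt
import Groth.Agent.Lib.Helper73.StalkChains
import Groth.Agent.Lib.Helper73.StalkQuot2
import Groth.Agent.S4936
import Groth.Agent.S2559
import Groth.Agent.Lib.Helper73.LocalFibreDim
import Groth.Agent.S4925
import Groth.Agent.S4926
import Groth.Prelude.Def_CAlg2
import Groth.Prelude.Def_EGA4b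

/-!
# Pointwise Chevalley criterion (EGA IV 14.4.4) and auxiliary lemmas for EGA IV 14.4.6
-/
set_option linter.style.haveILetI false
set_option autoImplicit false
universe u
open Cardinal CategoryTheory AlgebraicGeometry Limits

namespace Groth.Agent.Lib.Helper82.ChevalleyPt

open Groth.Agent.Lib.Helper73.DimFormula Groth.Agent.Lib.Helper73.RelHt
open Groth.Agent.Lib.Helper73.SchemeDim
open Groth.Agent.Lib.Helper82.EquidimBC Groth.Agent.Lib.Helper82.AffSpaceDim
open Groth.Agent.Lib.Helper82.EquidimAff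

variable {X Y : Scheme.{u}}

theorem isGeomUnibranch_stalk_congr {y₁ y₂ : Y} (e : y₁ = y₂)
    (h : CAlg2.IsGeomUnibranch (Y.presheaf.stalk y₁)) :
    CAlg2.IsGeomUnibranch (Y.presheaf.stalk y₂) := by
  subst e; exact h

/-- **pointwise Chevalley criterion** (EGA IV 14.4.4). -/
theorem isUnivOpenAt_of_isEquidimAt [IsLocallyNoetherian Y] (f : X ⟶ Y) [LocallyOfFiniteType f]
    (x : X) (hGU : CAlg2.IsGeomUnibranch (Y.presheaf.stalk (f.base x)))
    (h : EGA43.IsEquidimAt f x) : EGA43.IsUnivOpenAt f x := by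
  obtain ⟨e, U, g, hxU, hg, hqf, hcomp⟩ := exists_quasiFinite_of_isEquidimAt f x h
  haveI := hqf
  haveI : LocallyOfFiniteType (g ≫ (𝔸(ULift.{u} (Fin e); Y) ↘ Y)) := by rw [hg]; infer_instance
  haveI : LocallyOfFiniteType g := locallyOfFiniteType_of_comp g (𝔸(ULift.{u} (Fin e); Y) ↘ Y)
  haveI : IsLocallyNoetherian 𝔸(ULift.{u} (Fin e); Y) :=
    LocallyOfFiniteType.isLocallyNoetherian (𝔸(ULift.{u} (Fin e); Y) ↘ Y)
  obtain ⟨xU, hxU'⟩ : ∃ xU : ↥(U : Scheme.{u}), U.ι.base xU = x := ⟨⟨x, hxU⟩, rfl⟩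
  have hpg : (𝔸(ULift.{u} (Fin e); Y) ↘ Y).base (g.base xU) = f.base x := by
    rw [← Scheme.Hom.comp_apply, hg, Scheme.Hom.comp_apply, hxU']
  have hGU' : CAlg2.IsGeomUnibranch (𝔸(ULift.{u} (Fin e); Y).presheaf.stalk (g.base xU)) := by
    apply Groth.Agent.S4936.result
    exact isGeomUnibranch_stalk_congr hpg.symm hGU
  obtain ⟨x₀, hx₀max, hx₀⟩ := exists_maximal_specializes xU
  have hgx₀max : ∀ w' : 𝔸(ULift.{u} (Fin e); Y), w' ⤳ g.base x₀ → w' = g.base x₀ := by
    obtain ⟨x₀', hx₀'⟩ : ∃ x₀' : ↥U, x₀' = x₀ := ⟨x₀, rfl⟩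
    have hZ : closure ({x₀'} : Set ↥U) ∈ irreducibleComponents (↥U : Type u) := by
      haveI : QuasiSober ↥U := U.isOpen.isOpenEmbedding_subtypeVal.quasiSober
      apply closure_singleton_mem_irreducibleComponents_of_maximal
      intro a ha
      rw [hx₀']
      exact hx₀max a (by rw [← hx₀']; exact ha)
    have h1 := hcomp _ hZ
    have h2 : closure (g.base '' closure ({x₀'} : Set ↥U)) = closure {g.base x₀} := by
      have h1 := closure_image_closure (f := (g.base : ↥U → _)) (s := ({x₀'} : Set ↥U)) g.continuous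
      have h2 : (g.base : ↥U → _) '' ({x₀'} : Set ↥U) = {g.base x₀} := by
        rw [← hx₀']; exact Set.image_singleton
      rw [h2] at h1
      exact h1
    have h3 : closure ({g.base x₀} : Set ↥𝔸(ULift.{u} (Fin e); Y)) ∈
        irreducibleComponents (↥𝔸(ULift.{u} (Fin e); Y) : Type u) := h2 ▸ h1
    exact maximal_of_closure_singleton_mem_irreducibleComponents _ h3
  have h1 := Groth.Agent.Lib.Helper61.UnibranchUnivOpen.isUnivOpenAt_of_isGeomUnibranch g xU hGU'
    x₀ hx₀ hgx₀max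
  haveI : Flat (𝔸(ULift.{u} (Fin e); Y) ↘ Y) := flat_over _ _
  haveI : UniversallyOpen (𝔸(ULift.{u} (Fin e); Y) ↘ Y) := inferInstance
  have h2 := Groth.Agent.S4925.result g (𝔸(ULift.{u} (Fin e); Y) ↘ Y) xU h1
    (Groth.Agent.Lib.Helper70.UnivOpenAt.isUnivOpenAt_of_universallyOpen _ _)
  rw [hg] at h2
  have h3 := Groth.Agent.S4926.result U.ι f xU h2
  rwa [hxU'] at h3

/-- all points of the neighbourhood in the dictionary have local fibre dimension `e`. -/
theorem fibreDimAt_eq_of_data (f : X ⟶ Y) [LocallyOfFiniteType f] (e : ℕ) (U : X.Opens)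
    (hB : ∀ z : X, z ∈ U → (∀ z' : X, z' ⤳ z → f.base z' = f.base z → z' = z) →
      @Algebra.trdeg (Y.residueField (f.base z)) (X.residueField z) _ _
        (f.residueFieldMap z).hom.toAlgebra = e) (z : X) (hz : z ∈ U) :
    FlatMor.fibreDimAt f z = (e : WithBot ℕ∞) := by
  obtain ⟨ζ, m, hζsp, hζf, hζmax, hmζ, hF⟩ := exists_maximal_in_fibre_trdeg_eq_fibreDimAt f z
  have hζU : ζ ∈ U := hζsp.mem_open U.isOpen hz
  have h3 := hB ζ hζU hζmax
  have h4 : ((m : ℕ) : Cardinal.{u}) = e := by rw [← hmζ, ← h3]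
  have hne : m = e := by exact_mod_cast h4
  rw [hF, hne]

/-- restriction of the dictionary data of an equidimensional morphism to (the reduced subscheme on)
an irreducible component. -/
theorem data_component (f : X ⟶ Y) [LocallyOfFiniteType f] (e : ℕ) (U : X.Opens)
    (hA : ∀ ξ : X, ξ ∈ U → (∀ ξ' : X, ξ' ⤳ ξ → ξ' = ξ) →
      (∀ η' : Y, η' ⤳ f.base ξ → η' = f.base ξ))
    (hB : ∀ z : X, z ∈ U → (∀ z' : X, z' ⤳ z → f.base z' = f.base z → z' = z) →
      @Algebra.trdeg (Y.residueField (f.base z)) (X.residueField z) _ _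
        (f.residueFieldMap z).hom.toAlgebra = e)
    (ξ : X) (hξU : ξ ∈ U) (hξmax : ∀ ξ' : X, ξ' ⤳ ξ → ξ' = ξ)
    {Z : Scheme.{u}} (ι : Z ⟶ X) [IsClosedImmersion ι] (hrange : Set.range ι.base = closure {ξ}) :
    (∀ ζ : Z, ζ ∈ ι ⁻¹ᵁ U → (∀ ζ' : Z, ζ' ⤳ ζ → ζ' = ζ) →
      (∀ η' : Y, η' ⤳ (ι ≫ f).base ζ → η' = (ι ≫ f).base ζ) ∧ ∀ t : Z, ζ ⤳ t) ∧
    (∀ z : Z, z ∈ ι ⁻¹ᵁ U → (∀ z' : Z, z' ⤳ z → (ι ≫ f).base z' = (ι ≫ f).base z → z' = z) →
      @Algebra.trdeg (Y.residueField ((ι ≫ f).base z)) (Z.residueField z) _ _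
        ((ι ≫ f).residueFieldMap z).hom.toAlgebra = e) := by
  obtain ⟨ξ', hξ'⟩ : ξ ∈ Set.range ι.base := by rw [hrange]; exact subset_closure rfl
  have hgen : ∀ a : Z, ξ' ⤳ a := by
    intro a
    rw [← ι.isEmbedding.isInducing.specializes_iff, hξ', specializes_iff_mem_closure, ← hrange]
    exact Set.mem_range_self a
  constructor
  · intro ζ hζU hζmax
    have hζξ' : ζ = ξ' := (hζmax ξ' (hgen ζ)).symm
    subst hζξ'
    refine ⟨?_, hgen⟩
    have e1 : (ι ≫ f).base ζ = f.base ξ := by rw [Scheme.Hom.comp_apply, hξ']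
    rw [e1]
    exact hA ξ hξU hξmax
  · intro z hzU hzmax
    obtain ⟨m, hm⟩ := exists_trdeg_residueField_eq_nat' (ι ≫ f) z
    have hcomp := trdeg_residueFieldMap_comp ι f z
    have h1 : (m : WithBot ℕ∞) ≤ FlatMor.fibreDimAt f (ι.base z) :=
      trdeg_le_fibreDimAt' f (specializes_refl _) m (by rw [← hcomp]; exact hm)
    rw [fibreDimAt_eq_of_data f e U hB _ hzU] at h1
    have hle : m ≤ e := by exact_mod_cast h1
    have htrξ : @Algebra.trdeg (Y.residueField ((ι ≫ f).base ξ')) (Z.residueField ξ') _ _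
        ((ι ≫ f).residueFieldMap ξ').hom.toAlgebra = e := by
      rw [trdeg_residueFieldMap_comp ι f ξ', trdeg_residueFieldMap_congr_pt f hξ']
      exact hB ξ hξU (fun z' hsp _ => hξmax z' hsp)
    have h2 := trdeg_le_fibreDimAt' (ι ≫ f) (hgen z) e htrξ
    have h3 := fibreDimAt_eq_trdeg_of_maximal_in_fibre (ι ≫ f) z hzmax m hm
    rw [h3] at h2
    have hge : e ≤ m := by exact_mod_cast h2
    rw [hm, le_antisymm hle hge]

/-- for an embedding `ι : Z ⟶ X` whose image lies in the closure of the point of a prime `P` of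
`O_{X, ι w}`, `dim O_{Z,w} ≤ dim O_{X, ι w}/P`. -/
theorem ringKrullDim_stalk_le_quotient {Z : Scheme.{u}} (ι : Z ⟶ X) [IsPreimmersion ι] (w : Z)
    (P : PrimeSpectrum (X.presheaf.stalk (ι.base w)))
    (hP : ∀ t : Z, (X.fromSpecStalk (ι.base w)).base P ⤳ ι.base t) :
    ringKrullDim (Z.presheaf.stalk w) ≤ ringKrullDim (X.presheaf.stalk (ι.base w) ⧸ P.asIdeal) := by
  haveI : P.asIdeal.IsPrime := P.2
  have h1 : ringKrullDim (X.presheaf.stalk (ι.base w) ⧸ P.asIdeal) = Order.coheight P := by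
    rw [Order.coheight_eq_krullDim_Ici, ringKrullDim_quotient]
    congr 1
  rw [h1, AlgebraicGeometry.ringKrullDim_stalk_eq_coheight]
  have key : Order.coheight w ≤ Order.coheight P := by
    apply Order.coheight_le
    intro c hc
    have hmono : StrictMono (ι.base : Z → X) := by
      intro a b hab
      rw [lt_iff_le_not_ge] at hab ⊢
      exact ⟨ι.isEmbedding.isInducing.specializes_iff.mpr hab.1,
        fun h => hab.2 (ι.isEmbedding.isInducing.specializes_iff.mp h)⟩
    let d : LTSeries X := c.map ι.base hmono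
    have hdhead : d.head = ι.base w := by
      change ι.base c.head = ι.base w
      rw [hc]
    obtain ⟨l, hllen, hlhead, -, -⟩ := exists_ltSeries_primes_stalk (ι.base w) d (by rw [hdhead])
    have hPl : P ≤ l.head := by
      rw [← fromSpecStalk_specializes_iff, hlhead]
      exact hP c.last
    have h2 : (l.length : ℕ∞) ≤ Order.coheight P := Order.length_le_coheight hPl
    have h3 : d.length = c.length := LTSeries.map_length _ _ _
    rw [hllen, h3] at h2
    exact h2
  exact_mod_cast key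

theorem isOpenAt_of_isUnivOpenAt (f : X ⟶ Y) (x : X) (h : EGA43.IsUnivOpenAt f x) :
    EGA43.IsOpenAt f.base x :=
  Groth.Agent.Lib.Helper96.UnivOpenAt.isOpenAt_of_isPullback_of_isUnivOpenAt
    (IsPullback.id_horiz f) x h x rfl

theorem ringKrullDim_stalk_congr {y₁ y₂ : Y} (e : y₁ = y₂) :
    ringKrullDim (Y.presheaf.stalk y₁) = ringKrullDim (Y.presheaf.stalk y₂) := by
  subst e; rfl

/-- a local ring whose reduction is a domain is equidimensional. -/
theorem isEquidim_of_isDomain_red (A : Type u) [CommRing A] (h : IsDomain (A ⧸ nilradical A)) :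
    EGA4.IsEquidim A := by
  have hprime : (nilradical A).IsPrime := (Ideal.Quotient.isDomain_iff_prime _).mp h
  have hmin : ∀ p ∈ minimalPrimes A, p = nilradical A := by
    intro p hp
    have h1 : nilradical A ≤ p := by
      haveI := hp.1.1
      exact nilradical_le_prime p
    exact le_antisymm (hp.2 ⟨hprime, bot_le⟩ h1) h1
  intro p hp
  apply le_antisymm (ringKrullDim_quotient_le p)
  rw [ringKrullDim, Order.krullDim]
  apply iSup_le
  intro l
  obtain ⟨p₀, hp₀, hle⟩ := exists_minimalPrimes_length_le l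
  rw [hmin p₀ hp₀, ← hmin p hp] at hle
  exact hle

theorem isEquidim_of_isGeomUnibranch (A : Type u) [CommRing A] [IsLocalRing A]
    (h : CAlg2.IsGeomUnibranch A) : EGA4.IsEquidim A :=
  isEquidim_of_isDomain_red A h.1.1

/-- equidimensionality at `x` passes to generizations of `x` in the same fibre. -/
theorem isEquidimAt_of_specializes_of_eq (f : X ⟶ Y) [LocallyOfFiniteType f] (x z : X)
    (h : EGA43.IsEquidimAt f x) (hsp : z ⤳ x) (hf : f.base z = f.base x) :
    EGA43.IsEquidimAt f z := by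
  obtain ⟨e, U, hxU, hA, hB⟩ := (isEquidimAt_iff' f x).mp h
  refine (isEquidimAt_iff' f z).mpr ⟨e, U, hsp.mem_open U.isOpen hxU, ?_, hB⟩
  intro ξ hξU hξmax
  rw [hf]
  exact hA ξ hξU hξmax

theorem base_fiberι (f : X ⟶ Y) (y : Y) (z : ↥(f.fiber y)) :
    f.base ((f.fiberι y).base z) = y := (f.fiberHomeo y z).2

theorem fiberι_specializes (f : X ⟶ Y) (x : X) (z : ↥(f.fiber (f.base x)))
    (hz : f.asFiber x ∈ closure {z}) : (f.fiberι (f.base x)).base z ⤳ x := by
  have h1 : z ⤳ f.asFiber x := specializes_iff_mem_closure.mpr hz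
  have h2 := h1.map (f.fiberι (f.base x)).continuous
  rwa [Scheme.Hom.fiberι_asFiber] at h2

/-- EGA IV 14.4.6 a) ⟹ second half of c). -/
theorem isUnivOpenAt_fibre_generic [IsLocallyNoetherian Y] (f : X ⟶ Y) [LocallyOfFiniteType f]
    (x : X) (hGU : CAlg2.IsGeomUnibranch (Y.presheaf.stalk (f.base x)))
    (h : EGA43.IsEquidimAt f x) (z : ↥(f.fiber (f.base x))) (hz : f.asFiber x ∈ closure {z}) :
    EGA43.IsUnivOpenAt f ((f.fiberι (f.base x)).base z) := by
  have hf := base_fiberι f (f.base x) z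
  apply isUnivOpenAt_of_isEquidimAt f _ (isGeomUnibranch_stalk_congr hf.symm hGU)
  exact isEquidimAt_of_specializes_of_eq f x _ h (fiberι_specializes f x z hz) hf

/-- dimension formula at a point of equidimensionality over a geometrically unibranch point. -/
theorem ringKrullDim_stalk_add_trdeg [IsLocallyNoetherian Y] (f : X ⟶ Y) [LocallyOfFiniteType f]
    (x : X) (hGU : CAlg2.IsGeomUnibranch (Y.presheaf.stalk (f.base x)))
    (h : EGA43.IsEquidimAt f x) (e : ℕ) (U : X.Opens) (hxU : x ∈ U)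
    (hB : ∀ z : X, z ∈ U → (∀ z' : X, z' ⤳ z → f.base z' = f.base z → z' = z) →
      @Algebra.trdeg (Y.residueField (f.base z)) (X.residueField z) _ _
        (f.residueFieldMap z).hom.toAlgebra = e) (n : ℕ)
    (hn : @Algebra.trdeg (Y.residueField (f.base x)) (X.residueField x) _ _
        (f.residueFieldMap x).hom.toAlgebra = n) :
    ringKrullDim (X.presheaf.stalk x) + (n : WithBot ℕ∞) =
      ringKrullDim (Y.presheaf.stalk (f.base x)) + (e : WithBot ℕ∞) := by
  haveI : IsLocallyNoetherian X := LocallyOfFiniteType.isLocallyNoetherian f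
  have hopen : ∀ z : ↥(f.fiber (f.base x)), f.asFiber x ∈ closure {z} →
      (∀ z' : ↥(f.fiber (f.base x)), z ∈ closure {z'} → z' = z) →
      EGA43.IsOpenAt f.base ((f.fiberι (f.base x)).base z) := by
    intro z hz _
    apply isOpenAt_of_isUnivOpenAt
    exact isUnivOpenAt_fibre_generic f x hGU h z hz
  have h1 := Groth.Agent.S2559.result f x hopen
  have h2 := fibreDimAt_eq f x n hn
  have h3 := fibreDimAt_eq_of_data f e U hB x hxU
  rw [h1, add_assoc, ← h2, h3]

theorem ringKrullDim_stalk_le_quotient' {Z : Scheme.{u}} (ι : Z ⟶ X) [IsPreimmersion ι] (w : Z)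
    (x : X) (hx : ι.base w = x) (P : PrimeSpectrum (X.presheaf.stalk x))
    (hP : ∀ t : Z, (X.fromSpecStalk x).base P ⤳ ι.base t) :
    ringKrullDim (Z.presheaf.stalk w) ≤ ringKrullDim (X.presheaf.stalk x ⧸ P.asIdeal) := by
  subst hx
  exact ringKrullDim_stalk_le_quotient ι w P hP

/-- **EGA IV 14.4.6 a) ⟹ `O_{X,x}` equidimensional** (base point geometrically unibranch). -/
theorem isEquidim_stalk_of_isEquidimAt [IsLocallyNoetherian Y] (f : X ⟶ Y) [LocallyOfFiniteType f]
    (x : X) (hGU : CAlg2.IsGeomUnibranch (Y.presheaf.stalk (f.base x)))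
    (h : EGA43.IsEquidimAt f x) : EGA4.IsEquidim (X.presheaf.stalk x) := by
  obtain ⟨e, U, hxU, hA, hB⟩ := (isEquidimAt_iff' f x).mp h
  obtain ⟨nx, hnx⟩ := exists_trdeg_residueField_eq_nat' f x
  have htot := ringKrullDim_stalk_add_trdeg f x hGU h e U hxU hB nx hnx
  intro 𝔭 h𝔭
  apply le_antisymm (ringKrullDim_quotient_le 𝔭)
  have hp : 𝔭.IsPrime := h𝔭.1.1
  let P : PrimeSpectrum (X.presheaf.stalk x) := ⟨𝔭, hp⟩
  obtain ⟨ξ, hξ⟩ : ∃ ξ : X, ξ = (X.fromSpecStalk x).base P := ⟨_, rfl⟩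
  have hξmax : ∀ ξ' : X, ξ' ⤳ ξ → ξ' = ξ := by
    rw [hξ]; exact fromSpecStalk_maximal_of_mem_minimalPrimes x P h𝔭
  have hξx : ξ ⤳ x := by rw [hξ]; exact fromSpecStalk_specializes x P
  have hξU : ξ ∈ U := hξx.mem_open U.isOpen hxU
  let W : TopologicalSpace.Closeds X := ⟨closure {ξ}, isClosed_closure⟩
  let ι := (Scheme.IdealSheafData.vanishingIdeal W).subschemeι
  have hrange : Set.range ι.base = closure {ξ} := by
    rw [Scheme.IdealSheafData.range_subschemeι, Scheme.IdealSheafData.coe_support_vanishingIdeal]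
    rfl
  obtain ⟨w, hw⟩ : x ∈ Set.range ι.base := by
    rw [hrange]; exact specializes_iff_mem_closure.mp hξx
  obtain ⟨hA', hB'⟩ := data_component f e U (fun ξ hξU hξmax => (hA ξ hξU hξmax).1) hB ξ hξU hξmax
    ι hrange
  have hwU : w ∈ ι ⁻¹ᵁ U := by
    change ι.base w ∈ U
    rw [hw]; exact hxU
  have hhw : (ι ≫ f).base w = f.base x := by rw [Scheme.Hom.comp_apply, hw]
  have hEq : EGA43.IsEquidimAt (ι ≫ f) w := by
    refine (isEquidimAt_iff' (ι ≫ f) w).mpr ⟨e, ι ⁻¹ᵁ U, hwU, ?_, hB'⟩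
    intro ζ hζU hζmax
    obtain ⟨h1, h2⟩ := hA' ζ hζU hζmax
    exact ⟨h1, (h2 w).map (ι ≫ f).continuous⟩
  have hnw : @Algebra.trdeg (Y.residueField ((ι ≫ f).base w)) ((Scheme.IdealSheafData.vanishingIdeal W).subscheme.residueField w) _ _
      ((ι ≫ f).residueFieldMap w).hom.toAlgebra = nx := by
    rw [trdeg_residueFieldMap_comp ι f w, trdeg_residueFieldMap_congr_pt f hw]
    exact hnx
  have htot' := ringKrullDim_stalk_add_trdeg (ι ≫ f) w (isGeomUnibranch_stalk_congr hhw.symm hGU)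
    hEq e (ι ⁻¹ᵁ U) hwU hB' nx hnw
  rw [ringKrullDim_stalk_congr hhw, ← htot] at htot'
  have h5 := add_natCast_cancel nx htot'
  rw [← h5]
  refine ringKrullDim_stalk_le_quotient' ι w x hw P (fun t => ?_)
  rw [← hξ, specializes_iff_mem_closure, ← hrange]
  exact Set.mem_range_self t

end Groth.Agent.Lib.Helper82.ChevalleyPt
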