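import Mathlib
import Groth.Agent.Lib.Helper82.ChevalleyPt
import Groth.Agent.Lib.Helper73.ClosureFibreDim
import Groth.Agent.Lib.Helper73.FibreClosure
import Groth.Agent.S4919
import Groth.Agent.S4944

/-!
# Chevalley's criterion on an irreducible component, and pieces of EGA IV 14.4.9-type statements
(universal openness along a fibre over a geometrically unibranch point).
-/
set_option linter.style.haveILetI false
set_option autoImplicit false
universe u
open Cardinal CategoryTheory AlgebraicGeometry Limits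

namespace Groth.Agent.Lib.Helper82.ChevalleyComp

open Groth.Agent.Lib.Helper73.DimFormula Groth.Agent.Lib.Helper73.RelHt
open Groth.Agent.Lib.Helper73.SchemeDim
open Groth.Agent.Lib.Helper82.EquidimBC Groth.Agent.Lib.Helper82.AffSpaceDim
open Groth.Agent.Lib.Helper82.EquidimAff Groth.Agent.Lib.Helper82.ChevalleyPt

variable {X Y : Scheme.{u}}

/-- dictionary data for the restriction of `f` to the reduced closed subscheme `closure {ξ}`, when the
fibre dimensions of `f` on `U` are bounded by `e = trdeg κ(ξ)/κ(f ξ)`. -/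
theorem data_component' (f : X ⟶ Y) [LocallyOfFiniteType f] (e : ℕ) (U : X.Opens)
    (hle : ∀ z : X, z ∈ U → FlatMor.fibreDimAt f z ≤ (e : WithBot ℕ∞))
    (ξ : X) (hfξmax : ∀ η' : Y, η' ⤳ f.base ξ → η' = f.base ξ)
    (htrξ : @Algebra.trdeg (Y.residueField (f.base ξ)) (X.residueField ξ) _ _
        (f.residueFieldMap ξ).hom.toAlgebra = e)
    {Z : Scheme.{u}} (ι : Z ⟶ X) [IsClosedImmersion ι] (hrange : Set.range ι.base = closure {ξ}) :
    (∀ ζ : Z, ζ ∈ ι ⁻¹ᵁ U → (∀ ζ' : Z, ζ' ⤳ ζ → ζ' = ζ) →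
      (∀ η' : Y, η' ⤳ (ι ≫ f).base ζ → η' = (ι ≫ f).base ζ) ∧ ∀ t : Z, ζ ⤳ t) ∧
    (∀ z : Z, z ∈ ι ⁻¹ᵁ U → (∀ z' : Z, z' ⤳ z → (ι ≫ f).base z' = (ι ≫ f).base z → z' = z) →
      @Algebra.trdeg (Y.residueField ((ι ≫ f).base z)) (Z.residueField z) _ _
        ((ι ≫ f).residueFieldMap z).hom.toAlgebra = e) := by
  obtain ⟨ξ', hξ'⟩ : ξ ∈ Set.range ι.base := by rw [hrange]; exact subset_closure rfl
  have hgen : ∀ a : Z, ξ' ⤳ a := by
    intro a
    rw [← ι.isEmbedding.isInducing.specializes_iff, hξ', specializes_iff_mem_closure, ← hrange]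
    exact Set.mem_range_self a
  constructor
  · intro ζ hζU hζmax
    have hζξ' : ζ = ξ' := (hζmax ξ' (hgen ζ)).symm
    subst hζξ'
    refine ⟨?_, hgen⟩
    have e1 : (ι ≫ f).base ζ = f.base ξ := by rw [Scheme.Hom.comp_apply, hξ']
    rw [e1]
    exact hfξmax
  · intro z hzU hzmax
    obtain ⟨m, hm⟩ := exists_trdeg_residueField_eq_nat' (ι ≫ f) z
    have hcomp := trdeg_residueFieldMap_comp ι f z
    have h1 : (m : WithBot ℕ∞) ≤ FlatMor.fibreDimAt f (ι.base z) :=
      trdeg_le_fibreDimAt' f (specializes_refl _) m (by rw [← hcomp]; exact hm)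
    have h1' := h1.trans (hle _ hzU)
    have hle' : m ≤ e := by exact_mod_cast h1'
    have htrξ' : @Algebra.trdeg (Y.residueField ((ι ≫ f).base ξ')) (Z.residueField ξ') _ _
        ((ι ≫ f).residueFieldMap ξ').hom.toAlgebra = e := by
      rw [trdeg_residueFieldMap_comp ι f ξ', trdeg_residueFieldMap_congr_pt f hξ']
      exact htrξ
    have h2 := trdeg_le_fibreDimAt' (ι ≫ f) (hgen z) e htrξ'
    have h3 := fibreDimAt_eq_trdeg_of_maximal_in_fibre (ι ≫ f) z hzmax m hm
    rw [h3] at h2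
    have hge : e ≤ m := by exact_mod_cast h2
    rw [hm, le_antisymm hle' hge]

/-- the restriction of `f` to the reduced closed subscheme `closure {ξ}` is equidimensional at `x`
as soon as `f ξ` is a maximal point and `trdeg κ(ξ)/κ(f ξ) = dim_x X_{f x}`. -/
theorem isEquidimAt_component (f : X ⟶ Y) [LocallyOfFiniteType f] (x ξ : X)
    (hfξmax : ∀ η' : Y, η' ⤳ f.base ξ → η' = f.base ξ) (e : ℕ)
    (htrξ : @Algebra.trdeg (Y.residueField (f.base ξ)) (X.residueField ξ) _ _
        (f.residueFieldMap ξ).hom.toAlgebra = e)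
    (hfd : FlatMor.fibreDimAt f x = (e : WithBot ℕ∞))
    {Z : Scheme.{u}} (ι : Z ⟶ X) [IsClosedImmersion ι] (hrange : Set.range ι.base = closure {ξ})
    (w : Z) (hw : ι.base w = x) : EGA43.IsEquidimAt (ι ≫ f) w := by
  let U : X.Opens := ⟨{z | FlatMor.fibreDimAt f z ≤ (e : WithBot ℕ∞)},
    Groth.Agent.Lib.Helper73.SchemeDim.isOpen_setOf_fibreDimAt_le f e⟩
  have hxU : x ∈ U := hfd.le
  obtain ⟨hA', hB'⟩ := data_component' f e U (fun z hz => hz) ξ hfξmax htrξ ι hrange
  have hwU : w ∈ ι ⁻¹ᵁ U := by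
    change ι.base w ∈ U
    rw [hw]; exact hxU
  refine (isEquidimAt_iff' (ι ≫ f) w).mpr ⟨e, ι ⁻¹ᵁ U, hwU, ?_, hB'⟩
  intro ζ hζU hζmax
  obtain ⟨h1, h2⟩ := hA' ζ hζU hζmax
  exact ⟨h1, (h2 w).map (ι ≫ f).continuous⟩

/-- **Chevalley's criterion on a component**: if `x` has a generization `ξ` lying over a maximal
point of `Y` with `trdeg κ(ξ)/κ(f ξ) = dim_x X_{f x}`, and `f x` is geometrically unibranch, then `f`
is universally open at `x`. -/
theorem isUnivOpenAt_of_component [IsLocallyNoetherian Y] (f : X ⟶ Y) [LocallyOfFiniteType f]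
    (x : X) (hGU : CAlg2.IsGeomUnibranch (Y.presheaf.stalk (f.base x))) (ξ : X) (hξx : ξ ⤳ x)
    (hfξmax : ∀ η' : Y, η' ⤳ f.base ξ → η' = f.base ξ) (e : ℕ)
    (htrξ : @Algebra.trdeg (Y.residueField (f.base ξ)) (X.residueField ξ) _ _
        (f.residueFieldMap ξ).hom.toAlgebra = e)
    (hfd : FlatMor.fibreDimAt f x = (e : WithBot ℕ∞)) : EGA43.IsUnivOpenAt f x := by
  let W : TopologicalSpace.Closeds X := ⟨closure {ξ}, isClosed_closure⟩
  let ι := (Scheme.IdealSheafData.vanishingIdeal W).subschemeι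
  have hrange : Set.range ι.base = closure {ξ} := by
    rw [Scheme.IdealSheafData.range_subschemeι, Scheme.IdealSheafData.coe_support_vanishingIdeal]
    rfl
  obtain ⟨w, hw⟩ : x ∈ Set.range ι.base := by
    rw [hrange]; exact specializes_iff_mem_closure.mp hξx
  have hEq := isEquidimAt_component f x ξ hfξmax e htrξ hfd ι hrange w hw
  have hhw : (ι ≫ f).base w = f.base x := by rw [Scheme.Hom.comp_apply, hw]
  have hU := isUnivOpenAt_of_isEquidimAt (ι ≫ f) w (isGeomUnibranch_stalk_congr hhw.symm hGU) hEq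
  have h3 := Groth.Agent.S4926.result ι f w hU
  rwa [hw] at h3

/-- a point lying over a generic point of an irreducible target is mapped to a maximal point. -/
theorem maximal_of_eq_genericPoint [IrreducibleSpace Y] (η : Y) (h : η = genericPoint Y) :
    ∀ η' : Y, η' ⤳ η → η' = η := by
  intro η' hsp
  subst h
  exact (hsp.antisymm (genericPoint_specializes η')).eq

/-- condition c) of EGA IV 14.4.? in terms of points. -/
theorem exists_generization_of_component [IrreducibleSpace Y] [IsLocallyNoetherian Y] (f : X ⟶ Y)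
    [LocallyOfFiniteType f] (z : X) (y : Y) (hzy : f.base z = y)
    (hzmax : ∀ z' : X, f.base z' = y → z ∈ closure {z'} → z' = z)
    (Z : Set X) (hZ : Z ∈ irreducibleComponents (X : Type u)) (hz : z ∈ Z)
    (hdense : Dense (f.base '' Z))
    (hdim : FlatMor.localDim ↥(Z ∩ f.base ⁻¹' {y}) ⟨z, ⟨hz, hzy⟩⟩ =
      topologicalKrullDim ↥(Z ∩ f.base ⁻¹' {genericPoint Y})) :
    ∃ (ξ : X) (e : ℕ), ξ ⤳ z ∧ f.base ξ = genericPoint Y ∧
      @Algebra.trdeg (Y.residueField (f.base ξ)) (X.residueField ξ) _ _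
        (f.residueFieldMap ξ).hom.toAlgebra = e ∧
      @Algebra.trdeg (Y.residueField (f.base z)) (X.residueField z) _ _
        (f.residueFieldMap z).hom.toAlgebra = e := by
  subst hzy
  obtain ⟨ξ, hξmax, rfl⟩ := exists_maximal_closure_eq_of_mem_irreducibleComponents hZ
  have hξz : ξ ⤳ z := specializes_iff_mem_closure.mpr hz
  have hfξ : f.base ξ = genericPoint Y := by
    have h1 := hdense.closure_eq
    rw [closure_image_closure f.continuous, Set.image_singleton] at h1
    have h2 : IsGenericPoint (f.base ξ) (Set.univ : Set Y) := h1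
    exact h2.eq (genericPoint_spec Y)
  obtain ⟨nξ, hnξ⟩ := exists_trdeg_residueField_eq_nat' f ξ
  obtain ⟨e, he⟩ := exists_trdeg_residueField_eq_nat' f z
  have h1 : topologicalKrullDim ↥(closure ({ξ} : Set X) ∩ f.base ⁻¹' {genericPoint Y}) = nξ := by
    rw [← hfξ]; exact topologicalKrullDim_closure_inter_fibre f ξ nξ hnξ
  obtain ⟨-, t, k, -, htz, htf, hnt, hL⟩ :=
    localDim_closed_inter_fibre f (closure {ξ}) isClosed_closure z ⟨hz, rfl⟩
  have htzeq : t = z := hzmax t htf htz.mem_closure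
  have hke : k = e := by
    have h1 : @Algebra.trdeg (Y.residueField (f.base z)) (X.residueField z) _ _
        (f.residueFieldMap z).hom.toAlgebra = k := by
      rw [← trdeg_residueFieldMap_congr_pt f htzeq]; exact hnt
    have : ((k : ℕ) : Cardinal.{u}) = e := by rw [← h1, ← he]
    exact_mod_cast this
  rw [hL, h1, hke] at hdim
  have hene : e = nξ := by exact_mod_cast hdim
  exact ⟨ξ, e, hξz, hfξ, by rw [hene]; exact hnξ, he⟩

theorem isIrreducible_of_subset_closure {A : Type*} [TopologicalSpace A] (S₀ S : Set A)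
    (hS₀ : IsIrreducible S₀) (h1 : S₀ ⊆ S) (h2 : S ⊆ closure S₀) : IsIrreducible S := by
  refine ⟨hS₀.nonempty.mono h1, ?_⟩
  rintro U V hU hV ⟨a, haS, haU⟩ ⟨b, hbS, hbV⟩
  obtain ⟨a', ha'U, ha'S₀⟩ := mem_closure_iff.mp (h2 haS) U hU haU
  obtain ⟨b', hb'V, hb'S₀⟩ := mem_closure_iff.mp (h2 hbS) V hV hbV
  obtain ⟨c, hcS₀, hcUV⟩ := hS₀.isPreirreducible U V hU hV ⟨a', ha'S₀, ha'U⟩ ⟨b', hb'S₀, hb'V⟩
  exact ⟨c, h1 hcS₀, hcUV⟩

/-- b) ⟹ c): from S4919. -/
theorem component_of_isOpenAt [IrreducibleSpace Y] [IsLocallyNoetherian Y] (f : X ⟶ Y)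
    [LocallyOfFiniteType f] (y : Y) (hb : ∀ x : X, f.base x = y → EGA43.IsOpenAt f.base x)
    (z : X) (hzy : f.base z = y)
    (hzmax : ∀ z' : X, f.base z' = y → z ∈ closure {z'} → z' = z) :
    ∃ Z ∈ irreducibleComponents (X : Type u), ∃ hz : z ∈ Z, Dense (f.base '' Z) ∧
      FlatMor.localDim ↥(Z ∩ f.base ⁻¹' {y}) ⟨z, ⟨hz, hzy⟩⟩ =
        topologicalKrullDim ↥(Z ∩ f.base ⁻¹' {genericPoint Y}) := by
  have hzZ₀ : z ∈ closure ({z} : Set X) ∩ f.base ⁻¹' {y} := ⟨subset_closure rfl, hzy⟩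
  have hirr : IsIrreducible (closure ({z} : Set X) ∩ f.base ⁻¹' {y}) :=
    isIrreducible_of_subset_closure {z} _ isIrreducible_singleton
      (Set.singleton_subset_iff.mpr hzZ₀) Set.inter_subset_left
  have hmax : ∀ Z' : Set X, IsIrreducible Z' → Z' ⊆ f.base ⁻¹' {y} →
      closure ({z} : Set X) ∩ f.base ⁻¹' {y} ⊆ Z' → Z' = closure ({z} : Set X) ∩ f.base ⁻¹' {y} := by
    intro Z' hZ' hZ'y hsub
    apply le_antisymm _ hsub
    obtain ⟨ζ, hζ⟩ := QuasiSober.sober hZ'.closure isClosed_closure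
    have hζcl : closure ({ζ} : Set X) = closure Z' := hζ.def
    have hzZ' : z ∈ Z' := hsub hzZ₀
    have h1 : ζ ⤳ z := by
      rw [specializes_iff_mem_closure, hζcl]; exact subset_closure hzZ'
    have h2 : f.base ζ ⤳ y := by
      have := h1.map f.continuous
      rwa [hzy] at this
    have h3 : y ⤳ f.base ζ := by
      have hζmem : ζ ∈ closure Z' := by rw [← hζcl]; exact subset_closure rfl
      have : f.base ζ ∈ closure (f.base '' Z') :=
        image_closure_subset_closure_image f.continuous ⟨ζ, hζmem, rfl⟩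
      have hsub' : f.base '' Z' ⊆ {y} := by
        rintro _ ⟨a, ha, rfl⟩
        exact hZ'y ha
      exact specializes_iff_mem_closure.mpr (closure_mono hsub' this)
    have hfζ : f.base ζ = y := (h2.antisymm h3).eq
    have hζz : ζ = z := hzmax ζ hfζ h1.mem_closure
    intro a ha
    refine ⟨?_, hZ'y ha⟩
    rw [← hζz, hζcl]
    exact subset_closure ha
  obtain ⟨X', hX', hsub, hdense, hloc, hdim⟩ := Groth.Agent.S4919.result f y
    (closure ({z} : Set X) ∩ f.base ⁻¹' {y}) Set.inter_subset_right hirr hmax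
    (fun ζ hζ _ => hb ζ hζ.2)
  have hzX' : z ∈ X' := hsub hzZ₀
  refine ⟨X', hX', hzX', hdense, ?_⟩
  rw [← hdim]
  exact hloc z hzZ₀ Set.inter_subset_left ⟨hzX', hzy⟩

/-- every nonempty open subset of `X` meeting the fibre `X_y` contains a point closed in `X_y`. -/
theorem exists_closed_in_fibre_mem_open (f : X ⟶ Y) [LocallyOfFiniteType f] (y : Y) (U : Set X)
    (hU : IsOpen U) (x' : X) (hx'U : x' ∈ U) (hx'y : f.base x' = y) :
    ∃ x : X, x ∈ U ∧ f.base x = y ∧ ∀ x'' : X, f.base x'' = y → x ⤳ x'' → x'' = x := by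
  obtain ⟨p', hp'⟩ : x' ∈ Set.range (f.fiberι y).base := by
    rw [Scheme.Hom.range_fiberι]; exact hx'y
  have hne : ((f.fiberι y).base ⁻¹' U).Nonempty := ⟨p', by rw [Set.mem_preimage, hp']; exact hx'U⟩
  have hop : IsOpen ((f.fiberι y).base ⁻¹' U) := hU.preimage (f.fiberι y).continuous
  obtain ⟨p, hpU, hpcl⟩ := nonempty_inter_closedPoints hne hop.isLocallyClosed
  refine ⟨(f.fiberι y).base p, hpU, Groth.Agent.Lib.Helper82.ChevalleyPt.base_fiberι f y p, ?_⟩
  intro x'' hx''y hsp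
  obtain ⟨p'', hp''⟩ : x'' ∈ Set.range (f.fiberι y).base := by
    rw [Scheme.Hom.range_fiberι]; exact hx''y
  rw [← hp''] at hsp ⊢
  have h1 : p ⤳ p'' := (f.fiberι y).isEmbedding.isInducing.specializes_iff.mp hsp
  have h2 : IsClosed ({p} : Set ↥(f.fiber y)) := hpcl
  have h3 : p'' ∈ ({p} : Set ↥(f.fiber y)) := h1.mem_closed h2 rfl
  rw [Set.mem_singleton_iff.mp h3]

/-- d) ⟹ b). -/
theorem isOpenAt_of_quasiFinite_through_closed [IrreducibleSpace Y] [IsLocallyNoetherian Y]
    (f : X ⟶ Y) [LocallyOfFiniteType f] (y : Y) (hy : CAlg2.IsGeomUnibranch (Y.presheaf.stalk y))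
    (hd : ∀ x : X, f.base x = y → (∀ x' : X, f.base x' = y → x ⤳ x' → x' = x) →
        ∃ (T : Scheme.{u}) (i : T ⟶ X), IsImmersion i ∧ IrreducibleSpace ↥T ∧ IsReduced T ∧
        x ∈ Set.range i.base ∧
        LocallyOfFiniteType (i ≫ f) ∧ LocallyQuasiFinite (i ≫ f) ∧ QuasiCompact (i ≫ f) ∧
        IsDominant (i ≫ f)) :
    ∀ x : X, f.base x = y → EGA43.IsOpenAt f.base x := by
  intro x' hx'y U hU
  obtain ⟨U', hU'U, hU'o, hx'U'⟩ := mem_nhds_iff.mp hU
  obtain ⟨x, hxU', hxy, hxcl⟩ := exists_closed_in_fibre_mem_open f y U' hU'o x' hx'U' hx'y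
  obtain ⟨T, i, -, hTirr, -, ⟨t, ht⟩, hlft, hlqf, -, hdom⟩ := hd x hxy hxcl
  haveI := hTirr
  haveI := hlft
  haveI := hlqf
  haveI := hdom
  have hity : (i ≫ f).base t = y := by rw [Scheme.Hom.comp_apply, ht, hxy]
  have hgen : (i ≫ f).base (genericPoint T) = genericPoint Y := by
    have h1 : closure (Set.range (i ≫ f).base) = Set.univ := (i ≫ f).denseRange.closure_eq
    have h2 : Set.range (i ≫ f).base ⊆ closure {(i ≫ f).base (genericPoint T)} := by
      rintro _ ⟨a, rfl⟩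
      exact ((genericPoint_specializes a).map (i ≫ f).continuous).mem_closure
    have h3 : closure {(i ≫ f).base (genericPoint T)} = Set.univ := by
      apply Set.eq_univ_of_univ_subset
      rw [← h1]
      exact closure_minimal h2 isClosed_closure
    have h4 : IsGenericPoint ((i ≫ f).base (genericPoint T)) (Set.univ : Set Y) := h3
    exact h4.eq (genericPoint_spec Y)
  have hU1 := Groth.Agent.Lib.Helper61.UnibranchUnivOpen.isUnivOpenAt_of_isGeomUnibranch (i ≫ f) t
    (isGeomUnibranch_stalk_congr hity.symm hy) (genericPoint T) (genericPoint_specializes t)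
    (maximal_of_eq_genericPoint _ hgen)
  have hU2 := Groth.Agent.S4926.result i f t hU1
  rw [ht] at hU2
  have hO := isOpenAt_of_isUnivOpenAt f x hU2 U' (hU'o.mem_nhds hxU')
  rw [hxy] at hO
  rw [hx'y]
  exact Filter.mem_of_superset hO (Set.image_mono hU'U)

end Groth.Agent.Lib.Helper82.ChevalleyComp
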