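import Mathlib
import Groth.Agent.Lib.Helper82.ChevalleyComp
import Groth.Agent.Lib.Helper73.OpenAtPoint

/-!
# Openness ⟹ universal openness over geometrically unibranch points (EGA IV 14.4.8-9 material)
-/
set_option linter.style.haveILetI false
set_option autoImplicit false
universe u
open Cardinal CategoryTheory AlgebraicGeometry Limits

namespace Groth.Agent.Lib.Helper82.ChevalleyOpen

open Groth.Agent.Lib.Helper73.DimFormula Groth.Agent.Lib.Helper73.RelHt
open Groth.Agent.Lib.Helper73.SchemeDim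
open Groth.Agent.Lib.Helper82.EquidimBC Groth.Agent.Lib.Helper82.AffSpaceDim
open Groth.Agent.Lib.Helper82.EquidimAff Groth.Agent.Lib.Helper82.ChevalleyPt
open Groth.Agent.Lib.Helper82.ChevalleyComp

variable {X Y : Scheme.{u}}

/-- core of EGA IV 14.3.13 (after helper73's S4919): if `f` is open at a maximal point `ζ` of its
fibre, every maximal point `η` of `Y` above `f ζ` lifts to a maximal point `ξ` of `X` above `ζ` with
the same residue transcendence degree. -/
theorem exists_maximal_generization_of_isOpenAt [IsLocallyNoetherian Y] (f : X ⟶ Y)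
    [LocallyOfFiniteType f] (ζ : X)
    (hζmax : ∀ z' : X, z' ⤳ ζ → f.base z' = f.base ζ → z' = ζ) (e : ℕ)
    (he : @Algebra.trdeg (Y.residueField (f.base ζ)) (X.residueField ζ) _ _
      (f.residueFieldMap ζ).hom.toAlgebra = e)
    (hopen : EGA43.IsOpenAt f.base ζ) (η : Y) (hη : η ⤳ f.base ζ)
    (hηmax : ∀ t : Y, t ⤳ η → t = η) :
    ∃ ξ : X, ξ ⤳ ζ ∧ f.base ξ = η ∧ (∀ t : X, t ⤳ ξ → t = ξ) ∧
      @Algebra.trdeg (Y.residueField (f.base ξ)) (X.residueField ξ) _ _
        (f.residueFieldMap ξ).hom.toAlgebra = e := by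
  obtain ⟨r, hr⟩ := ENat.ne_top_iff_exists.mp (relHt_lt_top hη).ne
  obtain ⟨ξ₀, hξ₀ζ, hfξ₀, hξ₀F⟩ :=
    exists_specializes_fibreDimAt_of_isOpenAt f ζ e he hopen r _ hη hr.symm
  obtain ⟨ξ₁, m, hξ₁ξ₀, hξ₁f, hnξ₁, hFξ₀⟩ := exists_specializes_trdeg_eq_fibreDimAt f ξ₀
  have hem : e ≤ m := by
    rw [hFξ₀] at hξ₀F; exact_mod_cast hξ₀F
  obtain ⟨ξ, hξmax, hξξ₁⟩ := exists_maximal_specializes ξ₁
  have hfξ : f.base ξ = η := by
    apply hηmax
    rw [← hfξ₀, ← hξ₁f]; exact hξξ₁.map f.continuous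
  obtain ⟨nξ, hnξ⟩ := exists_trdeg_residueField_eq_nat' f ξ
  have hmnξ : m ≤ nξ := trdeg_le_trdeg_of_specializes_of_fibre' f hξξ₁
    (hfξ.trans (hξ₁f.trans hfξ₀).symm) nξ m hnξ hnξ₁
  have hξζ : ξ ⤳ ζ := hξξ₁.trans (hξ₁ξ₀.trans hξ₀ζ)
  have h1 := trdeg_le_fibreDimAt' f hξζ nξ hnξ
  rw [fibreDimAt_eq_trdeg_of_maximal_in_fibre f ζ hζmax e he] at h1
  have hnξe : nξ ≤ e := by exact_mod_cast h1
  have hnξeq : nξ = e := by omega
  exact ⟨ξ, hξζ, hfξ, hξmax, by rw [← hnξeq]; exact hnξ⟩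

/-- over a geometrically unibranch point, openness at a suitable maximal point of the fibre gives
universal openness. -/
theorem isUnivOpenAt_of_isOpenAt_generic [IsLocallyNoetherian Y] (f : X ⟶ Y)
    [LocallyOfFiniteType f] (x : X) (hGU : CAlg2.IsGeomUnibranch (Y.presheaf.stalk (f.base x)))
    (ζ : X) (hζx : ζ ⤳ x)
    (hζmax : ∀ z' : X, z' ⤳ ζ → f.base z' = f.base ζ → z' = ζ) (m : ℕ)
    (hm : @Algebra.trdeg (Y.residueField (f.base ζ)) (X.residueField ζ) _ _
      (f.residueFieldMap ζ).hom.toAlgebra = m)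
    (hfd : FlatMor.fibreDimAt f x = (m : WithBot ℕ∞))
    (hopen : EGA43.IsOpenAt f.base ζ) : EGA43.IsUnivOpenAt f x := by
  obtain ⟨η, hηmax, hη⟩ := exists_maximal_specializes (f.base ζ)
  obtain ⟨ξ, hξζ, hfξ, -, htrξ⟩ :=
    exists_maximal_generization_of_isOpenAt f ζ hζmax m hm hopen η hη hηmax
  exact isUnivOpenAt_of_component f x hGU ξ (hξζ.trans hζx) (by rw [hfξ]; exact hηmax) m htrξ hfd

/-- openness at all points of the fibre through `x` (over a geometrically unibranch point) gives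
universal openness at `x`. -/
theorem isUnivOpenAt_of_forall_isOpenAt [IsLocallyNoetherian Y] (f : X ⟶ Y)
    [LocallyOfFiniteType f] (x : X) (hGU : CAlg2.IsGeomUnibranch (Y.presheaf.stalk (f.base x)))
    (hopen : ∀ ζ : X, ζ ⤳ x → f.base ζ = f.base x → EGA43.IsOpenAt f.base ζ) :
    EGA43.IsUnivOpenAt f x := by
  obtain ⟨ζ, m, hζx, hζf, hζmax, hmζ, hfd⟩ := exists_maximal_in_fibre_trdeg_eq_fibreDimAt f x
  exact isUnivOpenAt_of_isOpenAt_generic f x hGU ζ hζx hζmax m hmζ hfd (hopen ζ hζx hζf)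

/-- condition b) of EGA IV 14.3.13/14.4.? at a maximal point of the fibre, in terms of points
(general base). -/
theorem exists_generization_of_component' [IsLocallyNoetherian Y] (f : X ⟶ Y)
    [LocallyOfFiniteType f] (x : X)
    (hxmax : ∀ x' : X, f.base x' = f.base x → x ∈ closure {x'} → x' = x)
    (Y₀ : Set Y) (hY₀ : Y₀ ∈ irreducibleComponents (Y : Type u))
    (Z : Set X) (hZ : Z ∈ irreducibleComponents (X : Type u)) (hx : x ∈ Z)
    (hcl : closure (f.base '' Z) = Y₀)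
    (hdim : ∀ η : Y, closure ({η} : Set Y) = Y₀ →
      FlatMor.localDim ↥(Z ∩ f.base ⁻¹' {f.base x}) ⟨x, ⟨hx, rfl⟩⟩ =
        topologicalKrullDim ↥(Z ∩ f.base ⁻¹' {η})) :
    ∃ (ξ : X) (e : ℕ), ξ ⤳ x ∧ (∀ η' : Y, η' ⤳ f.base ξ → η' = f.base ξ) ∧
      @Algebra.trdeg (Y.residueField (f.base ξ)) (X.residueField ξ) _ _
        (f.residueFieldMap ξ).hom.toAlgebra = e ∧
      @Algebra.trdeg (Y.residueField (f.base x)) (X.residueField x) _ _
        (f.residueFieldMap x).hom.toAlgebra = e := by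
  obtain ⟨ξ, hξmax, rfl⟩ := exists_maximal_closure_eq_of_mem_irreducibleComponents hZ
  have hξx : ξ ⤳ x := specializes_iff_mem_closure.mpr hx
  have hclξ : closure ({f.base ξ} : Set Y) = Y₀ := by
    rw [closure_image_closure f.continuous, Set.image_singleton] at hcl
    exact hcl
  have hfξmax : ∀ η' : Y, η' ⤳ f.base ξ → η' = f.base ξ := by
    apply maximal_of_closure_singleton_mem_irreducibleComponents
    rw [hclξ]; exact hY₀
  obtain ⟨nξ, hnξ⟩ := exists_trdeg_residueField_eq_nat' f ξ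
  obtain ⟨e, he⟩ := exists_trdeg_residueField_eq_nat' f x
  have hdim' := hdim (f.base ξ) hclξ
  rw [topologicalKrullDim_closure_inter_fibre f ξ nξ hnξ] at hdim'
  obtain ⟨-, t, k, -, htx, htf, hnt, hL⟩ :=
    localDim_closed_inter_fibre f (closure {ξ}) isClosed_closure x ⟨hx, rfl⟩
  have htxeq : t = x := hxmax t htf htx.mem_closure
  have hke : k = e := by
    have h1 : @Algebra.trdeg (Y.residueField (f.base x)) (X.residueField x) _ _
        (f.residueFieldMap x).hom.toAlgebra = k := by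
      rw [← trdeg_residueFieldMap_congr_pt f htxeq]; exact hnt
    have : ((k : ℕ) : Cardinal.{u}) = e := by rw [← h1, ← he]
    exact_mod_cast this
  rw [hL, hke] at hdim'
  have hene : e = nξ := by exact_mod_cast hdim'
  exact ⟨ξ, e, hξx, hfξmax, by rw [hene]; exact hnξ, he⟩

/-- a morphism universally open at every point is universally open. -/
theorem universallyOpen_of_forall_isUnivOpenAt (f : X ⟶ Y)
    (h : ∀ x : X, EGA43.IsUnivOpenAt f x) : UniversallyOpen f := by
  refine ⟨fun X' Y' i₁ i₂ f' hsq => ?_⟩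
  change IsOpenMap f'.base
  rw [isOpenMap_iff_nhds_le]
  intro a
  rw [Filter.le_map_iff]
  intro s hs
  exact Groth.Agent.Lib.Helper96.UnivOpenAt.isOpenAt_of_isPullback_of_isUnivOpenAt hsq.flip
    (i₁.base a) (h _) a rfl s hs

end Groth.Agent.Lib.Helper82.ChevalleyOpen
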