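import Mathlib
import Groth.Agent.Lib.Helper82.ChevalleyOpen
import Groth.Agent.Lib.Helper21.UnivOpenAtDim
import Groth.Agent.S4933

/-!
# Universal openness along a fibre over a geometrically unibranch point (EGA IV 14.4.8-type), general base
-/
set_option linter.style.haveILetI false
set_option autoImplicit false
universe u
open Cardinal CategoryTheory AlgebraicGeometry Limits

namespace Groth.Agent.Lib.Helper82.ChevalleyFibre

section copy

open CategoryTheory CategoryTheory.Limits AlgebraicGeometry TopologicalSpace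
open Groth.Agent.Lib.Helper21 Groth.Agent.Lib.Helper21.FieldDim
  Groth.Agent.Lib.Helper21.FibreClosureDim Groth.Agent.Lib.Helper21.UnivOpenAtDim
open Groth.Agent.Lib.Helper21.ValTrdeg Groth.Agent.Lib.Helper21.OpenGeneralizing
  Groth.Agent.Lib.Helper21.Chevalley Groth.Agent.Lib.Helper21.FlatFibreDim

/-- variant of helper21's `exists_maximal_of_dim_le` (same proof) using the dimension hypothesis only
for the given maximal point `η₀`. -/
theorem exists_maximal_of_dim_le' {X Y : Scheme.{u}} (f : X ⟶ Y) [LocallyOfFiniteType f] (x : X)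
    (hmax : ∀ x' : X, f x' = f x → x' ⤳ x → x' = x)
    (η₀ : Y) (hη₀max : ∀ t : Y, t ⤳ η₀ → t = η₀) (hη₀ : η₀ ⤳ f x)
    (hb : ∀ U : X.Opens, x ∈ U →
      FlatMor.fibreDimAt f x ≤ topologicalKrullDim ↥((U : Set X) ∩ f ⁻¹' {η₀})) :
    ∃ τ : X, τ ⤳ x ∧ f τ = η₀ ∧ (∀ t : X, t ⤳ τ → t = τ) ∧ tdR f τ = tdR f x := by
  set d := tdR f x with hd
  have hfd : FlatMor.fibreDimAt f x = ((d : ℕ) : WithBot ℕ∞) := by
    apply le_antisymm
    · rw [fibreDimAt_le_iff]
      intro ξ hξ hfξ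
      rw [hmax ξ hfξ hξ]
    · exact tdR_le_fibreDimAt f x
  obtain ⟨_, ⟨(V : Y.Opens), hV, rfl⟩, hfxV, -⟩ :=
    Y.isBasis_affineOpens.exists_subset_of_mem_open (Set.mem_univ (f x)) isOpen_univ
  obtain ⟨_, ⟨(U₀ : X.Opens), hU₀, rfl⟩, hxU₀, hU₀le⟩ :=
    X.isBasis_affineOpens.exists_subset_of_mem_open
      (show x ∈ ((f ⁻¹ᵁ V : X.Opens) : Set X) from hfxV) (f ⁻¹ᵁ V).isOpen
  have hle : U₀ ≤ f ⁻¹ᵁ V := hU₀le
  haveI : IsAffine ↑U₀ := hU₀
  haveI : IsAffine ↑V := hV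
  let f₀ : (U₀ : Scheme) ⟶ V := f.resLE V U₀ hle
  have hf₀ : f₀ ≫ V.ι = U₀.ι ≫ f := Scheme.Hom.resLE_comp_ι f hle
  haveI : CompactSpace ↥(U₀ : Scheme) := inferInstance
  haveI : QuasiSeparatedSpace ↥(V : Scheme) := inferInstance
  haveI : QuasiCompact f₀ := quasiCompact_of_compactSpace f₀
  let x₀ : ↥(U₀ : Scheme) := ⟨x, hxU₀⟩
  have hpt : ∀ z : ↥(U₀ : Scheme), V.ι (f₀ z) = f (U₀.ι z) := fun z =>
    congrArg (fun k : (U₀ : Scheme) ⟶ Y => k z) hf₀
  have htr : ∀ z : ↥(U₀ : Scheme), tdR f₀ z = tdR f (U₀.ι z) := by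
    intro z
    apply tdR_eq_of_trdegAt_eq
    rw [← trdegAt_of_isOpenImmersion_right f₀ V.ι z, trdegAt_congr hf₀,
      trdegAt_of_isOpenImmersion_left, trdegAt_eq_tdR]
  have hη₀V : η₀ ∈ V := hη₀.mem_open V.isOpen hfxV
  let η₀' : ↥(V : Scheme) := ⟨η₀, hη₀V⟩
  let G : Set ↥(U₀ : Scheme) := {p | f₀ p = η₀' ∧ d ≤ tdR f₀ p}
  have hx₀cl : x₀ ∈ closure G := by
    rw [mem_closure_iff]
    intro O hO hx₀O
    let O' : X.Opens := U₀.ι ''ᵁ ⟨O, hO⟩
    have hxO' : x ∈ O' := ⟨x₀, hx₀O, rfl⟩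
    have h1 := hb O' hxO'
    rw [hfd] at h1
    by_contra hcon
    have hall : ∀ p ∈ (O' : Set X), f p = η₀ → tdR f p < d := by
      rintro _ ⟨p₀, hp₀, rfl⟩ hfp
      by_contra hge
      rw [not_lt] at hge
      apply hcon
      refine ⟨p₀, hp₀, ?_, ?_⟩
      · apply V.ι.isOpenEmbedding.injective
        rw [hpt]
        exact hfp
      · rw [htr]; exact hge
    rcases Nat.eq_zero_or_pos d with hd0 | hdpos
    · have h2 : topologicalKrullDim ↥((O' : Set X) ∩ f ⁻¹' {η₀}) ≤ ⊥ := by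
        rw [dim_fibre_inter_le_iff' f η₀ _ O'.isOpen.isLocallyClosed]
        intro p hp hfp
        have := hall p hp hfp
        omega
      have h3 := h1.trans h2
      rw [hd0] at h3
      simp at h3
    · have h2 : topologicalKrullDim ↥((O' : Set X) ∩ f ⁻¹' {η₀}) ≤ ((d - 1 : ℕ) : WithBot ℕ∞) := by
        rw [dim_fibre_inter_le_iff' f η₀ _ O'.isOpen.isLocallyClosed]
        intro p hp hfp
        have := hall p hp hfp
        have : tdR f p ≤ d - 1 := by omega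
        exact_mod_cast this
      have h3 := h1.trans h2
      have h4 : d ≤ d - 1 := by exact_mod_cast h3
      omega
  obtain ⟨g, hgG, ζ₀, hζ₀sp, hζ₀g, hζ₀η⟩ :=
    exists_specializes_of_mem_closure_of_fibre' f₀ η₀' G (fun p hp => hp.1) x₀ hx₀cl
  obtain ⟨τ₀, hτ₀sp, hτ₀f, hτ₀max⟩ := exists_maximal_in_fibre f₀ ζ₀
  have hτ₀η : f₀ τ₀ = η₀' := hτ₀f.trans hζ₀η
  have h1 : tdR f₀ g ≤ tdR f₀ ζ₀ := tdR_le_of_specializes f₀ hζ₀g (hζ₀η.trans hgG.1.symm)
  have h2 : tdR f₀ ζ₀ ≤ tdR f₀ τ₀ := tdR_le_of_specializes f₀ hτ₀sp hτ₀f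
  have hτd : d ≤ tdR f (U₀.ι τ₀) := by
    rw [← htr]; exact hgG.2.trans (h1.trans h2)
  have hfτ : f (U₀.ι τ₀) = η₀ := by
    rw [← hpt, hτ₀η]; rfl
  have hτx : U₀.ι τ₀ ⤳ x := (hτ₀sp.trans hζ₀sp).map U₀.ι.continuous
  refine ⟨U₀.ι τ₀, hτx, hfτ, ?_, ?_⟩
  · intro t ht
    have htU₀ : t ∈ U₀ := ht.mem_open U₀.isOpen τ₀.2
    let t₀ : ↥(U₀ : Scheme) := ⟨t, htU₀⟩
    have ht₀ : t₀ ⤳ τ₀ := U₀.ι.isOpenEmbedding.isInducing.specializes_iff.mp ht
    have hft : f t = η₀ := by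
      apply hη₀max
      rw [← hfτ]
      exact ht.map f.continuous
    have hft₀ : f₀ t₀ = f₀ τ₀ := by
      apply V.ι.isOpenEmbedding.injective
      rw [hpt, hpt]
      exact hft.trans hfτ.symm
    exact congrArg Subtype.val (hτ₀max t₀ ht₀ hft₀)
  · apply le_antisymm _ hτd
    have hO := Groth.Agent.S0402.result f d
    have hτmem : FlatMor.fibreDimAt f (U₀.ι τ₀) ≤ d := hτx.mem_open hO hfd.le
    have := (tdR_le_fibreDimAt f (U₀.ι τ₀)).trans hτmem
    exact_mod_cast this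

end copy

open Groth.Agent.Lib.Helper73.DimFormula Groth.Agent.Lib.Helper73.RelHt
open Groth.Agent.Lib.Helper73.SchemeDim
open Groth.Agent.Lib.Helper82.EquidimBC Groth.Agent.Lib.Helper82.AffSpaceDim
open Groth.Agent.Lib.Helper82.EquidimAff Groth.Agent.Lib.Helper82.ChevalleyPt
open Groth.Agent.Lib.Helper82.ChevalleyComp Groth.Agent.Lib.Helper82.ChevalleyOpen

variable {X Y : Scheme.{u}}

/-- a morphism from an irreducible scheme whose generic point lies over a maximal point of `Y` is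
equidimensional at every point where the local fibre dimension is at most the generic one. -/
theorem isEquidimAt_of_irreducible (h : X ⟶ Y) [LocallyOfFiniteType h] (ξ : X)
    (hgen : ∀ a : X, ξ ⤳ a) (hξmax : ∀ η' : Y, η' ⤳ h.base ξ → η' = h.base ξ) (e : ℕ)
    (htrξ : @Algebra.trdeg (Y.residueField (h.base ξ)) (X.residueField ξ) _ _
        (h.residueFieldMap ξ).hom.toAlgebra = e)
    (w : X) (hw : FlatMor.fibreDimAt h w ≤ (e : WithBot ℕ∞)) : EGA43.IsEquidimAt h w := by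
  let U : X.Opens := ⟨{z | FlatMor.fibreDimAt h z ≤ (e : WithBot ℕ∞)},
    Groth.Agent.Lib.Helper73.SchemeDim.isOpen_setOf_fibreDimAt_le h e⟩
  refine (isEquidimAt_iff' h w).mpr ⟨e, U, hw, ?_, ?_⟩
  · intro ζ _ hζmax
    have hζξ : ζ = ξ := (hζmax ξ (hgen ζ)).symm
    subst hζξ
    exact ⟨hξmax, (hgen w).map h.continuous⟩
  · intro z hzU hzmax
    obtain ⟨m, hm⟩ := exists_trdeg_residueField_eq_nat' h z
    have h3 := fibreDimAt_eq_trdeg_of_maximal_in_fibre h z hzmax m hm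
    have h1 : FlatMor.fibreDimAt h z ≤ (e : WithBot ℕ∞) := hzU
    have h2 := trdeg_le_fibreDimAt' h (hgen z) e htrξ
    rw [h3] at h1 h2
    have hle : m ≤ e := by exact_mod_cast h1
    have hge : e ≤ m := by exact_mod_cast h2
    rw [hm, le_antisymm hle hge]

/-- **Chevalley's criterion on a component**, local-dimension form: if `x` has a generization `ξ`
over a maximal point of `Y` such that all generizations of `x` in `closure {ξ} ∩ X_{f x}` have residue
transcendence degree at most `e = trdeg κ(ξ)/κ(f ξ)`, and `f x` is geometrically unibranch, then `f` is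
universally open at `x`. -/
theorem isUnivOpenAt_of_component' [IsLocallyNoetherian Y] (f : X ⟶ Y) [LocallyOfFiniteType f]
    (x : X) (hGU : CAlg2.IsGeomUnibranch (Y.presheaf.stalk (f.base x))) (ξ : X) (hξx : ξ ⤳ x)
    (hfξmax : ∀ η' : Y, η' ⤳ f.base ξ → η' = f.base ξ) (e : ℕ)
    (htrξ : @Algebra.trdeg (Y.residueField (f.base ξ)) (X.residueField ξ) _ _
        (f.residueFieldMap ξ).hom.toAlgebra = e)
    (hle : ∀ ζ : X, ξ ⤳ ζ → ζ ⤳ x → f.base ζ = f.base x → ∀ n : ℕ,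
      @Algebra.trdeg (Y.residueField (f.base ζ)) (X.residueField ζ) _ _
        (f.residueFieldMap ζ).hom.toAlgebra = n → n ≤ e) : EGA43.IsUnivOpenAt f x := by
  let W : TopologicalSpace.Closeds X := ⟨closure {ξ}, isClosed_closure⟩
  let ι := (Scheme.IdealSheafData.vanishingIdeal W).subschemeι
  have hrange : Set.range ι.base = closure {ξ} := by
    rw [Scheme.IdealSheafData.range_subschemeι, Scheme.IdealSheafData.coe_support_vanishingIdeal]
    rfl
  obtain ⟨w, hw⟩ : x ∈ Set.range ι.base := by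
    rw [hrange]; exact specializes_iff_mem_closure.mp hξx
  obtain ⟨ξ', hξ'⟩ : ξ ∈ Set.range ι.base := by rw [hrange]; exact subset_closure rfl
  have hgen : ∀ a : ↥(Scheme.IdealSheafData.vanishingIdeal W).subscheme, ξ' ⤳ a := by
    intro a
    rw [← ι.isEmbedding.isInducing.specializes_iff, hξ', specializes_iff_mem_closure, ← hrange]
    exact Set.mem_range_self a
  have hhξ' : (ι ≫ f).base ξ' = f.base ξ := by rw [Scheme.Hom.comp_apply, hξ']
  have htrξ' : @Algebra.trdeg (Y.residueField ((ι ≫ f).base ξ'))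
      ((Scheme.IdealSheafData.vanishingIdeal W).subscheme.residueField ξ') _ _
      ((ι ≫ f).residueFieldMap ξ').hom.toAlgebra = e := by
    rw [trdeg_residueFieldMap_comp ι f ξ', trdeg_residueFieldMap_congr_pt f hξ']
    exact htrξ
  have hfdw : FlatMor.fibreDimAt (ι ≫ f) w ≤ (e : WithBot ℕ∞) := by
    obtain ⟨ζ', m, hζ'w, hζ'f, -, hmζ', hfd⟩ :=
      exists_maximal_in_fibre_trdeg_eq_fibreDimAt (ι ≫ f) w
    rw [hfd]
    have h1 : ξ ⤳ ι.base ζ' := by
      rw [specializes_iff_mem_closure, ← hrange]; exact Set.mem_range_self ζ'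
    have h2 : ι.base ζ' ⤳ x := by rw [← hw]; exact hζ'w.map ι.continuous
    have h3 : f.base (ι.base ζ') = f.base x := by
      rw [← hw, ← Scheme.Hom.comp_apply, ← Scheme.Hom.comp_apply]; exact hζ'f
    have h4 := hle (ι.base ζ') h1 h2 h3 m (by rw [← trdeg_residueFieldMap_comp ι f ζ']; exact hmζ')
    exact_mod_cast h4
  have hEq := isEquidimAt_of_irreducible (ι ≫ f) ξ' hgen (by rw [hhξ']; exact hfξmax) e htrξ' w hfdw
  have hhw : (ι ≫ f).base w = f.base x := by rw [Scheme.Hom.comp_apply, hw]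
  have hU := isUnivOpenAt_of_isEquidimAt (ι ≫ f) w (isGeomUnibranch_stalk_congr hhw.symm hGU) hEq
  have h3 := Groth.Agent.S4926.result ι f w hU
  rwa [hw] at h3

/-- a) ⟹ b) of EGA IV 14.4.? (fibre form). -/
theorem component_of_isUnivOpenAt (f : X ⟶ Y) [LocallyOfFiniteType f] (y : Y)
    (ha : ∀ x : X, f.base x = y → EGA43.IsUnivOpenAt f x) :
    ∀ x : X, f.base x = y → ∀ Y₀ ∈ irreducibleComponents (Y : Type u), y ∈ Y₀ →
      ∃ Z ∈ irreducibleComponents (X : Type u), ∃ hx : x ∈ Z, closure (f.base '' Z) = Y₀ ∧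
        ∀ η : Y, closure ({η} : Set Y) = Y₀ →
          FlatMor.localDim ↥(Z ∩ f.base ⁻¹' {f.base x}) ⟨x, ⟨hx, rfl⟩⟩ =
            topologicalKrullDim ↥(Z ∩ f.base ⁻¹' {η}) := by
  intro x hxy Y₀ hY₀ hyY₀
  obtain ⟨ζ, m, hζx, hζf, hζmax, hmζ, hfd⟩ := exists_maximal_in_fibre_trdeg_eq_fibreDimAt f x
  have hζy : f.base ζ = y := hζf.trans hxy
  have hmaxζ' : ∀ x' : X, f.base x' = f.base ζ → ζ ∈ closure {x'} → x' = ζ := fun x' hf hmem =>
    hζmax x' (specializes_iff_mem_closure.mpr hmem) hf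
  have hb' := (Groth.Agent.S4933.result f ζ hmaxζ').1 (ha ζ hζy)
  obtain ⟨Z, hZ, hζZ, hcl, hη⟩ := (Groth.Agent.S4933.result f ζ hmaxζ').2 hb' Y₀ hY₀
    (by rw [hζy]; exact hyY₀)
  have hclosed : IsClosed Z := isClosed_of_mem_irreducibleComponents Z hZ
  have hxZ : x ∈ Z := hζx.mem_closed hclosed hζZ
  refine ⟨Z, hZ, hxZ, hcl, ?_⟩
  intro η hηY₀
  obtain ⟨h1, h2⟩ := hη η hηY₀
  rw [← h2, ← h1, fibreDimAt_eq_trdeg_of_maximal_in_fibre f ζ hζmax m hmζ]
  apply le_antisymm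
  · obtain ⟨-, ζ', n, -, hζ'x, -, hn, hL⟩ :=
      localDim_closed_inter_fibre f Z hclosed x ⟨hxZ, rfl⟩
    rw [hL, ← hfd]
    exact trdeg_le_fibreDimAt' f hζ'x n hn
  · exact (localDim_closed_inter_fibre f Z hclosed x ⟨hxZ, rfl⟩).1 ζ hζZ hζx hζf m hmζ

/-- b) ⟹ a) of EGA IV 14.4.? (fibre form). -/
theorem isUnivOpenAt_of_component_fibre [IsLocallyNoetherian Y] (f : X ⟶ Y)
    [LocallyOfFiniteType f] (x : X) (hGU : CAlg2.IsGeomUnibranch (Y.presheaf.stalk (f.base x)))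
    (Y₀ : Set Y) (hY₀ : Y₀ ∈ irreducibleComponents (Y : Type u))
    (Z : Set X) (hZ : Z ∈ irreducibleComponents (X : Type u)) (hx : x ∈ Z)
    (hcl : closure (f.base '' Z) = Y₀)
    (hdim : ∀ η : Y, closure ({η} : Set Y) = Y₀ →
      FlatMor.localDim ↥(Z ∩ f.base ⁻¹' {f.base x}) ⟨x, ⟨hx, rfl⟩⟩ =
        topologicalKrullDim ↥(Z ∩ f.base ⁻¹' {η})) : EGA43.IsUnivOpenAt f x := by
  obtain ⟨ξ, hξmax, rfl⟩ := exists_maximal_closure_eq_of_mem_irreducibleComponents hZ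
  have hξx : ξ ⤳ x := specializes_iff_mem_closure.mpr hx
  have hclξ : closure ({f.base ξ} : Set Y) = Y₀ := by
    rw [closure_image_closure f.continuous, Set.image_singleton] at hcl
    exact hcl
  have hfξmax : ∀ η' : Y, η' ⤳ f.base ξ → η' = f.base ξ := by
    apply maximal_of_closure_singleton_mem_irreducibleComponents
    rw [hclξ]; exact hY₀
  obtain ⟨nξ, hnξ⟩ := exists_trdeg_residueField_eq_nat' f ξ
  have hdim' := hdim (f.base ξ) hclξ
  rw [topologicalKrullDim_closure_inter_fibre f ξ nξ hnξ] at hdim'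
  apply isUnivOpenAt_of_component' f x hGU ξ hξx hfξmax nξ hnξ
  intro ζ hξζ hζx hζf n hn
  have h1 := (localDim_closed_inter_fibre f (closure {ξ}) isClosed_closure x ⟨hx, rfl⟩).1 ζ
    hξζ.mem_closure hζx hζf n hn
  rw [hdim'] at h1
  exact_mod_cast h1

end Groth.Agent.Lib.Helper82.ChevalleyFibre
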