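import Mathlib
import Groth.Agent.Lib.Helper82.ChevalleyFibre

/-!
# a) ⟺ b'') for universal openness along a fibre (EGA IV 14.4.8-type)
-/
set_option linter.style.haveILetI false
set_option autoImplicit false
universe u
open Cardinal CategoryTheory AlgebraicGeometry Limits

namespace Groth.Agent.Lib.Helper82.ChevalleyFibre2

open Groth.Agent.Lib.Helper21 Groth.Agent.Lib.Helper21.FieldDim
  Groth.Agent.Lib.Helper21.FibreClosureDim Groth.Agent.Lib.Helper21.UnivOpenAtDim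
open Groth.Agent.Lib.Helper82.ChevalleyPt Groth.Agent.Lib.Helper82.ChevalleyComp
open Groth.Agent.Lib.Helper82.ChevalleyOpen Groth.Agent.Lib.Helper82.ChevalleyFibre

variable {X Y : Scheme.{u}}

/-- a) ⟹ b'') -/
theorem dim_fibre_le_of_isUnivOpenAt (f : X ⟶ Y) [LocallyOfFiniteType f] (y : Y)
    (ha : ∀ x : X, f.base x = y → EGA43.IsUnivOpenAt f x) (U : X.Opens) (η : Y) (hη : η ⤳ y) :
    topologicalKrullDim ↥((U : Set X) ∩ f.base ⁻¹' {y}) ≤
      topologicalKrullDim ↥((U : Set X) ∩ f.base ⁻¹' {η}) := by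
  rw [dim_fibre_inter_le_iff' f y U U.isOpen.isLocallyClosed]
  intro x hxU hxy
  obtain ⟨ζ, hζx, hζf, hζmax⟩ := Groth.Agent.Lib.Helper21.FlatFibreDim.exists_maximal_in_fibre f x
  have hζU : ζ ∈ U := hζx.mem_open U.isOpen hxU
  have hζy : f.base ζ = y := hζf.trans hxy
  have h1 := dim_le_of_isUnivOpenAt f ζ (fun x' hf hsp => hζmax x' hsp hf) (ha ζ hζy) U hζU η
    (by rw [hζy]; exact hη)
  have h2 : tdR f x ≤ tdR f ζ := tdR_le_of_specializes f hζx hζf
  have h3 : ((tdR f x : ℕ) : WithBot ℕ∞) ≤ ((tdR f ζ : ℕ) : WithBot ℕ∞) := by exact_mod_cast h2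
  exact h3.trans ((tdR_le_fibreDimAt f ζ).trans h1)

/-- b'') ⟹ a) -/
theorem isUnivOpenAt_of_dim_fibre_le [IsLocallyNoetherian Y] (f : X ⟶ Y) [LocallyOfFiniteType f]
    (x : X) (hGU : CAlg2.IsGeomUnibranch (Y.presheaf.stalk (f.base x)))
    (η₀ : Y) (hη₀max : ∀ t : Y, t ⤳ η₀ → t = η₀) (hη₀ : η₀ ⤳ f.base x)
    (hb : ∀ U : X.Opens, topologicalKrullDim ↥((U : Set X) ∩ f.base ⁻¹' {f.base x}) ≤
      topologicalKrullDim ↥((U : Set X) ∩ f.base ⁻¹' {η₀})) : EGA43.IsUnivOpenAt f x := by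
  obtain ⟨ζ, m, hζx, hζf, hζmax, hmζ, hfd⟩ :=
    Groth.Agent.Lib.Helper73.SchemeDim.exists_maximal_in_fibre_trdeg_eq_fibreDimAt f x
  have htdζ : tdR f ζ = m := tdR_eq_of_trdegAt_eq f hmζ
  have hfdζ : FlatMor.fibreDimAt f ζ = (m : WithBot ℕ∞) :=
    Groth.Agent.Lib.Helper73.SchemeDim.fibreDimAt_eq_trdeg_of_maximal_in_fibre f ζ hζmax m hmζ
  obtain ⟨τ, hτζ, hfτ, -, htd⟩ := exists_maximal_of_dim_le' f ζ (fun x' hf hsp => hζmax x' hsp hf)
    η₀ hη₀max (by rw [hζf]; exact hη₀) (by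
      intro U hζU
      have h1 := (dim_fibre_inter_le_iff' f (f.base x) U U.isOpen.isLocallyClosed _).mp le_rfl ζ
        hζU hζf
      rw [hfdζ, ← htdζ]
      exact h1.trans (hb U))
  have htrτ : @Algebra.trdeg (Y.residueField (f.base τ)) (X.residueField τ) _ _
      (f.residueFieldMap τ).hom.toAlgebra = m := by
    have := trdegAt_eq_tdR f τ
    rw [htd, htdζ] at this
    exact this
  exact isUnivOpenAt_of_component f x hGU τ (hτζ.trans hζx) (by rw [hfτ]; exact hη₀max) m htrτ hfd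

end Groth.Agent.Lib.Helper82.ChevalleyFibre2
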