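import Mathlib
import Groth.Agent.Lib.QCoh.Helper18_StructureAss2
import Groth.Agent.Lib.QCoh.Helper74_TorsionFreeDimOne

/-!
# Flatness over a Dedekind scheme (helper82)

`Y` integral with regular local rings and `topologicalKrullDim Y ≤ 1` (no Noetherian hypothesis).
* `flat_iff_weakAss` : `f : X ⟶ Y` is flat iff every weakly associated point of `O_X` maps to the
  generic point of `Y` (any `X`).
* `map_eq_genericPoint_of_flat` : the forward direction for any integral `Y`.
* `flat_appLE_of_weakAss` : affine-local form of the converse.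
* `forall_irreducibleComponents_dense_iff` : topological bridge between irreducible components
  and points without proper generization.
-/

set_option linter.style.haveILetI false
universe u
open CategoryTheory AlgebraicGeometry TopologicalSpace Opposite IsLocalRing
open Groth.Agent.Lib.QCoh Groth.Agent.Lib.Helper18

namespace Groth.Agent.Lib.Helper82.FlatDedekind


/-- A point of an integral scheme whose stalk has trivial maximal ideal is the generic point. -/
theorem eq_genericPoint_of_maximalIdeal_eq_bot {Y : Scheme.{u}} [IsIntegral Y] (y : Y)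
    (h : maximalIdeal (Y.presheaf.stalk y) = ⊥) : y = genericPoint Y := by
  have hη : genericPoint Y ⤳ y := (genericPoint_spec Y).specializes (by simp)
  have hr : genericPoint Y ∈ Set.range (Y.fromSpecStalk y) := by
    rw [Scheme.range_fromSpecStalk]; exact hη
  obtain ⟨P, hP⟩ := hr
  have hPc : P = closedPoint (Y.presheaf.stalk y) := by
    apply PrimeSpectrum.ext
    apply le_antisymm
    · exact IsLocalRing.le_maximalIdeal P.isPrime.ne_top
    · change maximalIdeal _ ≤ _
      rw [h]; exact bot_le
  rw [← hP, hPc]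
  exact Scheme.fromSpecStalk_closedPoint.symm

theorem map_eq_genericPoint_of_flat {X Y : Scheme.{u}} (f : X ⟶ Y) [IsIntegral Y] [Flat f] (x : X)
    (hx : Curv2.IsWeakAssPoint (Coh.structureModule X) x) : f.base x = genericPoint Y := by
  obtain ⟨g, hg⟩ := (isWeakAssPoint_structureModule_iff_stalk x).1 hx
  apply eq_genericPoint_of_maximalIdeal_eq_bot
  rw [eq_bot_iff]
  intro b hb
  rw [Ideal.mem_bot]
  by_contra hb0
  have hflat := Flat.stalkMap f x
  have hφb : (f.stalkMap x).hom b ∈ maximalIdeal (X.presheaf.stalk x) := by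
    rw [mem_maximalIdeal, mem_nonunits_iff] at hb ⊢
    intro hu; exact hb (isUnit_of_map_unit (f.stalkMap x).hom b hu)
  rw [← hg] at hφb
  obtain ⟨n, hn⟩ := hφb
  rw [WeakAss.mem_ann, smul_eq_mul] at hn
  letI := (f.stalkMap x).hom.toAlgebra
  haveI : Module.Flat (Y.presheaf.stalk (f.base x)) (X.presheaf.stalk x) := hflat
  have hreg : IsSMulRegular (X.presheaf.stalk x) (b ^ n) :=
    Module.Flat.isSMulRegular_of_nonZeroDivisors
      (mem_nonZeroDivisors_of_ne_zero (pow_ne_zero n hb0))
  have hg0 : g = 0 := by
    apply hreg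
    simp only [smul_zero]
    rw [Algebra.smul_def, RingHom.algebraMap_toAlgebra, map_pow]
    exact hn
  have htop : WeakAss.ann (X.presheaf.stalk x) g = ⊤ := by
    rw [hg0]; ext r; simp [WeakAss.mem_ann]
  rw [htop, Ideal.radical_top] at hg
  exact (IsLocalRing.maximalIdeal.isMaximal _).ne_top hg.symm



theorem valuationRing_of_ringEquiv {A B : Type*} [CommRing A] [IsDomain A] [CommRing B] [IsDomain B]
    (e : A ≃+* B) [ValuationRing B] : ValuationRing A := by
  refine { toPreValuationRing := ⟨?_⟩ }
  intro a b
  obtain ⟨c, hc⟩ := ValuationRing.cond (e a) (e b)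
  refine ⟨e.symm c, ?_⟩
  rcases hc with hc | hc
  · left
    apply e.injective
    rw [map_mul, e.apply_symm_apply, hc]
  · right
    apply e.injective
    rw [map_mul, e.apply_symm_apply, hc]

theorem valuationRing_localization_of_regular {Y : Scheme.{u}} [IsIntegral Y]
    (hreg : ∀ y : Y, IsRegularLocalRing (Y.presheaf.stalk y)) (hY : topologicalKrullDim Y ≤ 1)
    {U : Y.Opens} (hU : IsAffineOpen U) [Nonempty U] (P : Ideal Γ(Y, U)) [hP : P.IsPrime] :
    ValuationRing (Localization P.primeCompl) := by
  set y : PrimeSpectrum Γ(Y, U) := ⟨P, hP⟩ with hy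
  have hyU := fromSpec_mem hU y
  letI : Algebra Γ(Y, U) (Y.presheaf.stalk (hU.fromSpec y)) :=
    TopCat.Presheaf.algebra_section_stalk Y.presheaf ⟨hU.fromSpec y, hyU⟩
  haveI : IsLocalization.AtPrime (Y.presheaf.stalk (hU.fromSpec y)) P :=
    hU.isLocalization_stalk' y hyU
  haveI := hreg (hU.fromSpec y)
  haveI : IsPrincipalIdealRing (Y.presheaf.stalk (hU.fromSpec y)) :=
    TFDimOne74.isPrincipalIdealRing_of_isRegularLocalRing _
      ((TFDimOne74.ringKrullDim_stalk_le Y _).trans hY)
  haveI : ValuationRing (Y.presheaf.stalk (hU.fromSpec y)) := inferInstance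
  exact valuationRing_of_ringEquiv
    (IsLocalization.algEquiv P.primeCompl (Localization P.primeCompl)
      (Y.presheaf.stalk (hU.fromSpec y))).toRingEquiv



theorem mem_primeIdealOf_iff {X : Scheme.{u}} {V : X.Opens} (hV : IsAffineOpen V) (x : X)
    (hx : x ∈ V) (s : Γ(X, V)) :
    s ∈ (hV.primeIdealOf ⟨x, hx⟩).asIdeal ↔ ¬ IsUnit (X.presheaf.germ V x hx s) := by
  rw [hV.primeIdealOf_eq_map_closedPoint ⟨x, hx⟩]
  change (X.presheaf.germ V x hx).hom s ∈ maximalIdeal _ ↔ _
  rw [mem_maximalIdeal, mem_nonunits_iff]

theorem flat_appLE_of_weakAss {X Y : Scheme.{u}} (f : X ⟶ Y) [IsIntegral Y]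
    (hreg : ∀ y : Y, IsRegularLocalRing (Y.presheaf.stalk y)) (hY : topologicalKrullDim Y ≤ 1)
    (h : ∀ x : X, Curv2.IsWeakAssPoint (Coh.structureModule X) x → f.base x = genericPoint Y)
    (U : Y.Opens) (hU : IsAffineOpen U) (V : X.Opens) (hV : IsAffineOpen V) (e : V ≤ f ⁻¹ᵁ U) :
    (f.appLE U V e).hom.Flat := by
  by_cases hne : Nonempty V
  swap
  · have hsub : Subsingleton Γ(X, V) := by
      have hV0 : V = ⊥ := by
        ext x
        simp only [Opens.coe_bot, Set.mem_empty_iff_false, iff_false]
        intro hx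
        exact hne ⟨⟨x, hx⟩⟩
      subst hV0
      infer_instance
    letI := (f.appLE U V e).hom.toAlgebra
    show Module.Flat Γ(Y, U) Γ(X, V)
    infer_instance
  obtain ⟨⟨x0, hx0⟩⟩ := hne
  haveI : Nonempty U := ⟨⟨f.base x0, e hx0⟩⟩
  letI := (f.appLE U V e).hom.toAlgebra
  show Module.Flat Γ(Y, U) Γ(X, V)
  rw [Module.Flat.flat_iff_torsion_eq_bot_of_valuationRing_localization_isMaximal
    (fun P _ => valuationRing_localization_of_regular hreg hY hU P)]
  rw [Submodule.eq_bot_iff]
  intro a ha
  rw [Submodule.mem_torsion_iff] at ha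
  obtain ⟨⟨b, hb⟩, hba⟩ := ha
  have hb0 : b ≠ 0 := nonZeroDivisors.ne_zero hb
  by_contra ha0
  obtain ⟨x', hx'V, hx'w, hgerm⟩ := exists_isWeakAssPoint_structureModule_of_ne_zero hV a ha0
  have hfx : f.base x' = genericPoint Y := h x' hx'w
  have hmul : (f.appLE U V e).hom b * a = 0 := by
    have := hba
    simpa [Algebra.smul_def, RingHom.algebraMap_toAlgebra] using this
  have hmem : (f.appLE U V e).hom b ∈ (hV.primeIdealOf ⟨x', hx'V⟩).asIdeal := by
    rw [mem_primeIdealOf_iff]
    intro hu
    apply hgerm
    have h1 : X.presheaf.germ V x' hx'V ((f.appLE U V e).hom b) * X.presheaf.germ V x' hx'V a = 0 := by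
      rw [← map_mul, hmul, map_zero]
    exact (hu.mul_right_eq_zero).1 h1
  have hcomap := IsAffineOpen.comap_primeIdealOf_appLE (f := f) (x := x') U hU V hV e hx'V
  have hb1 : b ∈ (hU.primeIdealOf ⟨f.base x', e hx'V⟩).asIdeal := by
    rw [← hcomap]
    exact hmem
  have hηU : genericPoint Y ∈ U := hfx ▸ e hx'V
  have hP2 : hU.primeIdealOf ⟨f.base x', e hx'V⟩ = hU.primeIdealOf ⟨genericPoint Y, hηU⟩ := by
    congr 1
    exact Subtype.ext hfx
  rw [hP2, hU.primeIdealOf_genericPoint, genericPoint_eq_bot_of_affine] at hb1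
  exact hb0 (by simpa using hb1)



/-- In a quasi-sober T0 space, the irreducible components are the closures of the points without
proper generization; density of images of components in an irreducible target with generic point. -/
theorem forall_irreducibleComponents_dense_iff {X Y : Type*} [TopologicalSpace X]
    [TopologicalSpace Y] [QuasiSober X] [T0Space X] [T0Space Y] (f : X → Y) (hf : Continuous f)
    (η : Y) (hη : IsGenericPoint η (Set.univ : Set Y)) :
    (∀ Z ∈ irreducibleComponents X, Dense (f '' Z)) ↔
      ∀ x : X, (∀ y : X, y ⤳ x → y = x) → f x = η := by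
  constructor
  · intro h x hx
    obtain ⟨Z, hZirr, hxZ, hZmax⟩ := exists_preirreducible (closure {x})
      (isIrreducible_singleton.closure).isPreirreducible
    have hZne : Z.Nonempty := ⟨x, hxZ (subset_closure rfl)⟩
    have hZc : Z ∈ irreducibleComponents X := by
      refine ⟨⟨hZne, hZirr⟩, ?_⟩
      intro W hW hZW
      exact (hZmax W hW.2 hZW).le
    have hZclosed : IsClosed Z := isClosed_of_mem_irreducibleComponents Z hZc
    obtain ⟨z, hz⟩ := QuasiSober.sober ⟨hZne, hZirr⟩ hZclosed
    have hzx : z ⤳ x := by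
      rw [specializes_iff_mem_closure]
      rw [hz.def]
      exact hxZ (subset_closure rfl)
    have hzeq : z = x := hx z hzx
    have hZeq : Z = closure {x} := by rw [← hzeq, hz.def]
    have hd := h Z hZc
    have hsub : f '' Z ⊆ closure {f x} := by
      rw [hZeq]
      calc f '' closure {x} ⊆ closure (f '' {x}) := image_closure_subset_closure_image hf
        _ = closure {f x} := by rw [Set.image_singleton]
    have hcl : closure {f x} = Set.univ := by
      apply Set.eq_univ_of_univ_subset
      calc Set.univ = closure (f '' Z) := hd.closure_eq.symm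
        _ ⊆ closure {f x} := closure_minimal hsub isClosed_closure
    have hgen : IsGenericPoint (f x) (Set.univ : Set Y) := hcl
    exact hgen.eq hη
  · intro h Z hZ
    have hZclosed : IsClosed Z := isClosed_of_mem_irreducibleComponents Z hZ
    obtain ⟨z, hz⟩ := QuasiSober.sober hZ.1 hZclosed
    have hzmax : ∀ y : X, y ⤳ z → y = z := by
      intro y hy
      have hsub : Z ⊆ closure {y} := by
        rw [← hz.def]
        exact closure_minimal (Set.singleton_subset_iff.2 (specializes_iff_mem_closure.1 hy))
          isClosed_closure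
      have heq : Z = closure {y} :=
        le_antisymm hsub (hZ.2 (isIrreducible_singleton.closure) hsub)
      have : closure {y} = closure {z} := by rw [← heq, hz.def]
      exact ((specializes_iff_closure_subset.2 this.ge).antisymm
        (specializes_iff_closure_subset.2 this.le)).eq
    have hfz : f z = η := h z hzmax
    have hzZ : z ∈ Z := by rw [← hz.def]; exact subset_closure rfl
    have : η ∈ f '' Z := ⟨z, hzZ, hfz⟩
    rw [dense_iff_closure_eq]
    apply Set.eq_univ_of_univ_subset
    rw [← hη.def]
    exact closure_minimal (Set.singleton_subset_iff.2 (subset_closure this)) isClosed_closure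


theorem flat_iff_weakAss {X Y : Scheme.{u}} (f : X ⟶ Y) [IsIntegral Y]
    (hreg : ∀ y : Y, IsRegularLocalRing (Y.presheaf.stalk y)) (hY : topologicalKrullDim Y ≤ 1) :
    Flat f ↔
      ∀ x : X, Curv2.IsWeakAssPoint (Coh.structureModule X) x → f.base x = genericPoint Y := by
  constructor
  · intro hf x hx
    exact map_eq_genericPoint_of_flat f x hx
  · intro h
    rw [HasRingHomProperty.iff_appLE (P := @Flat)]
    intro U V e
    exact flat_appLE_of_weakAss f hreg hY h U.1 U.2 V.1 V.2 e

end Groth.Agent.Lib.Helper82.FlatDedekind
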