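import Mathlib
import Groth.Agent.Lib.Helper82.CurveThrough
import Groth.Agent.Lib.Helper82.FlatDedekind
import Groth.Agent.Lib.Helper21.RedSubscheme

set_option linter.style.haveILetI false
universe u
open CategoryTheory AlgebraicGeometry TopologicalSpace IsLocalRing
open Groth.Agent.Lib.Helper82.CurveThrough Groth.Agent.Lib.Helper82.FlatDedekind
open Groth.Agent.Lib.QCoh Groth.Agent.Lib.Helper21.RedSubscheme

namespace Groth.Agent.Lib.Helper82.CurveThrough2

/-- point-level form of the existence of a curve through `w` transversal to the fibre -/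
theorem exists_curve_point {W Y : Scheme.{u}} [IsIntegral W] [IsLocallyNoetherian W] [IsIntegral Y]
    (hreg : ∀ y : Y, IsRegularLocalRing (Y.presheaf.stalk y))
    (hdim : ∀ y : Y, ringKrullDim (Y.presheaf.stalk y) ≤ 1)
    (g : W ⟶ Y) (hdom : g (genericPoint W) = genericPoint Y) (w : W) :
    ∃ ξ : W, ξ ⤳ w ∧ g ξ = genericPoint Y ∧
      ∀ t : W, ξ ⤳ t → t ⤳ w → g t = g w → t = w := by
  by_cases hgw : g w = genericPoint Y
  · exact ⟨w, specializes_rfl, hgw, fun t h1 h2 _ => (h2.antisymm h1).eq⟩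
  -- the maximal ideal of `O_{Y, g w}` is nonzero
  have hm : maximalIdeal (Y.presheaf.stalk (g w)) ≠ ⊥ :=
    fun h => hgw (eq_genericPoint_of_maximalIdeal_eq_bot (g w) h)
  obtain ⟨π, hπm, hπ0⟩ := Submodule.exists_mem_ne_zero_of_ne_bot hm
  haveI := hreg (g w)
  haveI : IsPrincipalIdealRing (Y.presheaf.stalk (g w)) :=
    TFDimOne74.isPrincipalIdealRing_of_isRegularLocalRing _ (hdim _)
  -- the image of `π` in `O_{W, w}`
  obtain ⟨a, ha⟩ : ∃ a : W.presheaf.stalk w, a = (g.stalkMap w).hom π := ⟨_, rfl⟩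
  have ham : a ∈ maximalIdeal (W.presheaf.stalk w) := by
    rw [ha]
    exact _root_.map_nonunit (g.stalkMap w).hom π hπm
  -- key: for a prime `Q` of `O_{W,w}`, the image of the corresponding point
  have hkey : ∀ Q : Spec (W.presheaf.stalk w),
      g (W.fromSpecStalk w Q) = Y.fromSpecStalk (g w) (Spec.map (g.stalkMap w) Q) :=
    fun Q => map_fromSpecStalk g w Q
  have hcomap : ∀ Q : Spec (W.presheaf.stalk w),
      (π ∈ (Spec.map (g.stalkMap w) Q).asIdeal ↔ a ∈ Q.asIdeal) := by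
    intro Q
    rw [ha]
    exact Iff.rfl
  have ha0 : a ≠ 0 := by
    intro h0
    obtain ⟨P₀, hP₀⟩ : ∃ P₀ : Spec (W.presheaf.stalk w), P₀.asIdeal = ⊥ :=
      ⟨(⟨⊥, Ideal.isPrime_bot⟩ : PrimeSpectrum (W.presheaf.stalk w)), rfl⟩
    have h1 := hkey P₀
    rw [fromSpecStalk_eq_genericPoint w P₀ hP₀, hdom] at h1
    obtain ⟨P₁, hP₁⟩ : ∃ P₁ : Spec (Y.presheaf.stalk (g w)), P₁.asIdeal = ⊥ :=
      ⟨(⟨⊥, Ideal.isPrime_bot⟩ : PrimeSpectrum (Y.presheaf.stalk (g w))), rfl⟩
    rw [← fromSpecStalk_eq_genericPoint (g w) P₁ hP₁, fromSpecStalk_eq_iff] at h1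
    have h2 : π ∈ (Spec.map (g.stalkMap w) P₀).asIdeal := by
      rw [hcomap, hP₀, h0]
      exact Ideal.zero_mem _
    rw [← h1, hP₁] at h2
    exact hπ0 (by simpa using h2)
  obtain ⟨P, hPprime, haP, hPiso⟩ := exists_prime_isolated a ha0 ham
  obtain ⟨P', hP'⟩ : ∃ P' : Spec (W.presheaf.stalk w), P'.asIdeal = P :=
    ⟨(⟨P, hPprime⟩ : PrimeSpectrum (W.presheaf.stalk w)), rfl⟩
  refine ⟨W.fromSpecStalk w P', fromSpecStalk_specializes w P', ?_, ?_⟩
  · rw [hkey]
    apply fromSpecStalk_eq_genericPoint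
    by_contra hne
    haveI := (Spec.map (g.stalkMap w) P').isPrime
    have hmax : (Spec.map (g.stalkMap w) P').asIdeal.IsMaximal :=
      IsPrime.to_maximal_ideal hne
    have : (Spec.map (g.stalkMap w) P').asIdeal = maximalIdeal _ :=
      IsLocalRing.eq_maximalIdeal hmax
    have h3 : π ∈ (Spec.map (g.stalkMap w) P').asIdeal := this ▸ hπm
    rw [hcomap, hP'] at h3
    exact haP h3
  · intro t ht1 ht2 htg
    obtain ⟨Q, rfl⟩ := exists_fromSpecStalk_eq w t ht2
    rw [fromSpecStalk_specializes_iff, hP'] at ht1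
    rw [hkey] at htg
    have hcp : Y.fromSpecStalk (g w) (closedPoint (Y.presheaf.stalk (g w))) = g w :=
      Scheme.fromSpecStalk_closedPoint
    have htg := (Y.fromSpecStalk (g w)).isEmbedding.injective (htg.trans hcp.symm)
    have h3 : π ∈ (Spec.map (g.stalkMap w) Q).asIdeal := by
      rw [htg]
      exact hπm
    rw [hcomap] at h3
    have hQ := hPiso Q.asIdeal Q.isPrime ht1 h3
    have : Q = closedPoint (W.presheaf.stalk w) := PrimeSpectrum.ext hQ
    rw [this]
    exact Scheme.fromSpecStalk_closedPoint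

/-- a closed subset of `X` meeting the fibre of `f` over `y` contains a point closed in the
fibre -/
theorem exists_mem_closed_in_fibre {X Y : Scheme.{u}} (f : X ⟶ Y) [LocallyOfFiniteType f] (y : Y)
    (Z : Set X) (hZ : IsClosed Z) (hne : (Z ∩ f ⁻¹' {y}).Nonempty) :
    ∃ x ∈ Z, f x = y ∧ ∀ x' : X, f x' = y → x ⤳ x' → x' = x := by
  obtain ⟨x₀, hx₀Z, hx₀y⟩ := hne
  have hx₀r : x₀ ∈ Set.range (f.fiberι y) := by rw [f.range_fiberι]; exact hx₀y
  obtain ⟨p₀, hp₀⟩ := hx₀r
  have hC : IsClosed ((f.fiberι y) ⁻¹' Z) := hZ.preimage (f.fiberι y).continuous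
  have hp₀C : p₀ ∈ (f.fiberι y) ⁻¹' Z := by
    show f.fiberι y p₀ ∈ Z
    rw [hp₀]; exact hx₀Z
  have hne : ((f.fiberι y) ⁻¹' Z ∩ closedPoints (f.fiber y)).Nonempty := by
    by_contra h
    rw [Set.not_nonempty_iff_eq_empty] at h
    have h1 := closure_inter_closedPoints hC
    rw [h, closure_empty] at h1
    rw [← h1] at hp₀C
    exact hp₀C
  obtain ⟨p, hpZ, hpcl⟩ := hne
  refine ⟨f.fiberι y p, hpZ, ?_, ?_⟩
  · have : f.fiberι y p ∈ f ⁻¹' {y} := by rw [← f.range_fiberι]; exact ⟨p, rfl⟩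
    exact this
  · intro x' hx' hs
    have : x' ∈ Set.range (f.fiberι y) := by rw [f.range_fiberι]; exact hx'
    obtain ⟨p', rfl⟩ := this
    rw [(f.fiberι y).isEmbedding.specializes_iff] at hs
    have h2 : p' ∈ closure {p} := specializes_iff_mem_closure.1 hs
    rw [(mem_closedPoints_iff.1 hpcl).closure_eq] at h2
    rw [Set.mem_singleton_iff.1 h2]

/-- scheme-level form: through a point `w`, closed in its fibre, of an integral scheme `W`
dominating the Dedekind-like scheme `Y` there passes an integral subscheme `T`, immersed in `W`,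
quasi-finite and dominant over `Y` -/
theorem exists_curve_scheme {W Y : Scheme.{u}} [IsIntegral W] [IsLocallyNoetherian W]
    [IsIntegral Y] [IsLocallyNoetherian Y]
    (hreg : ∀ y : Y, IsRegularLocalRing (Y.presheaf.stalk y))
    (hdim : ∀ y : Y, ringKrullDim (Y.presheaf.stalk y) ≤ 1)
    (g : W ⟶ Y) [LocallyOfFiniteType g] (hdom : g (genericPoint W) = genericPoint Y) (w : W)
    (hcl : ∀ w' : W, g w' = g w → w ⤳ w' → w' = w) :
    ∃ (T : Scheme.{u}) (i : T ⟶ W), IsImmersion i ∧ IsIntegral T ∧ w ∈ Set.range i ∧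
      LocallyOfFiniteType (i ≫ g) ∧ LocallyQuasiFinite (i ≫ g) ∧ QuasiCompact (i ≫ g) ∧
      IsDominant (i ≫ g) := by
  obtain ⟨ξ, hξw, hgξ, hiso⟩ := exists_curve_point hreg hdim g hdom w
  obtain ⟨Z, hZ⟩ : ∃ Z : Closeds W, (Z : Set W) = closure {ξ} := ⟨⟨_, isClosed_closure⟩, rfl⟩
  have hZirr : IsIrreducible (Z : Set W) := hZ ▸ isIrreducible_singleton.closure
  haveI : IsIntegral (Scheme.IdealSheafData.vanishingIdeal Z).subscheme :=
    isIntegral_vanishingIdeal_subscheme Z hZirr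
  obtain ⟨j, hj⟩ : ∃ j : (Scheme.IdealSheafData.vanishingIdeal Z).subscheme ⟶ W,
      j = (Scheme.IdealSheafData.vanishingIdeal Z).subschemeι := ⟨_, rfl⟩
  haveI : IsClosedImmersion j := hj ▸ inferInstance
  have hrange : Set.range j = closure {ξ} := by
    rw [hj, range_subschemeι_vanishingIdeal, hZ]
  have hjinj : Function.Injective j := j.isEmbedding.injective
  -- the points over `w` and `ξ`
  obtain ⟨t₀, ht₀⟩ : w ∈ Set.range j := by
    rw [hrange]
    exact specializes_iff_mem_closure.1 hξw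
  obtain ⟨ξ₀, hξ₀⟩ : ξ ∈ Set.range j := by
    rw [hrange]
    exact subset_closure rfl
  have hmem : ∀ t, ξ ⤳ j t := fun t => by
    rw [specializes_iff_mem_closure, ← hrange]
    exact ⟨t, rfl⟩
  -- quasi-finiteness at `t₀`
  have hqf : (j ≫ g).QuasiFiniteAt t₀ := by
    apply quasiFiniteAt_of_closed_of_generic
    · intro t' hgt' hs
      apply hjinj
      rw [ht₀]
      apply hcl
      · simpa [Scheme.Hom.comp_apply, ht₀] using hgt'
      · rw [← ht₀]
        exact hs.map j.continuous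
    · intro t' hgt' hs
      apply hjinj
      rw [ht₀]
      apply hiso _ (hmem t')
      · rw [← ht₀]
        exact hs.map j.continuous
      · simpa [Scheme.Hom.comp_apply, ht₀] using hgt'
  -- an affine open neighbourhood inside the quasi-finite locus
  obtain ⟨U, hU0, ht₀U, hUle⟩ : ∃ U : (Scheme.IdealSheafData.vanishingIdeal Z).subscheme.Opens,
      U ∈ (Scheme.IdealSheafData.vanishingIdeal Z).subscheme.affineOpens ∧ t₀ ∈ U ∧
        U ≤ (j ≫ g).quasiFiniteLocus := Opens.isBasis_iff_nbhd.1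
    ((Scheme.IdealSheafData.vanishingIdeal Z).subscheme.isBasis_affineOpens)
    (show t₀ ∈ (j ≫ g).quasiFiniteLocus from hqf)
  have hU : IsAffineOpen U := hU0
  haveI : IsAffine U := hU
  haveI : Nonempty U := ⟨⟨t₀, ht₀U⟩⟩
  refine ⟨U, U.ι ≫ j, inferInstance, inferInstance, ?_, ?_, ?_, ?_, ?_⟩
  · refine ⟨⟨t₀, ht₀U⟩, ?_⟩
    show j (U.ι ⟨t₀, ht₀U⟩) = w
    exact ht₀
  · rw [Category.assoc]
    infer_instance
  · rw [Category.assoc, ← Scheme.Hom.quasiFiniteLocus_eq_top_iff, Scheme.Hom.quasiFiniteLocus_comp]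
    rw [eq_top_iff]
    intro u _
    exact hUle u.2
  · infer_instance
  · constructor
    have hξ₀U : ξ₀ ∈ U := by
      have : ξ₀ ⤳ t₀ := by
        rw [← j.isEmbedding.specializes_iff, hξ₀, ht₀]
        exact hξw
      exact this.mem_open U.2 ht₀U
    have hη : genericPoint Y ∈ Set.range (U.ι ≫ j ≫ g) := by
      refine ⟨⟨ξ₀, hξ₀U⟩, ?_⟩
      show g (j (U.ι ⟨ξ₀, hξ₀U⟩)) = genericPoint Y
      rw [← hgξ, ← hξ₀]
      rfl
    rw [Category.assoc]
    intro z
    have h1 : z ∈ closure ({genericPoint Y} : Set Y) := by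
      rw [(genericPoint_spec Y).def]; trivial
    exact closure_mono (Set.singleton_subset_iff.2 hη) h1

end Groth.Agent.Lib.Helper82.CurveThrough2
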