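import Mathlib
import Groth.Agent.Lib.Helper82.CurveThrough3
import Groth.Agent.Lib.Helper21.RedSubscheme
import Groth.Agent.Lib.Helper73.QFAt
import Groth.Agent.Lib.Helper73.LocalDimHomeo
import Groth.Agent.S4943

/-!
helper82: EGA IV 14.5.3 with an affine integral quasi-section (strengthening of S4944).
-/

set_option linter.style.haveILetI false
set_option autoImplicit false
universe u
open CategoryTheory AlgebraicGeometry TopologicalSpace IsLocalRing
open Groth.Agent.Lib.Helper82.CurveThrough Groth.Agent.Lib.Helper82.CurveThrough3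
open Groth.Agent.Lib.Helper21.RedSubscheme

namespace Groth.Agent.Lib.Helper82.CurveThrough4

/-- EGA IV 14.5.3: through a point `x`, closed in its fibre, at which `f` is equidimensional, there
passes an affine integral scheme `T` immersed in `X`, quasi-finite and dominant over `Y`. -/
theorem exists_quasiSection_affine {X Y : Scheme.{u}} [IrreducibleSpace Y]
    [IsLocallyNoetherian Y] (f : X ⟶ Y) [LocallyOfFiniteType f] (x : X) (hf : EGA43.IsEquidimAt f x)
    (hcl : ∀ x' : X, f.base x' = f.base x → x ⤳ x' → x' = x) :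
    ∃ (T : Scheme.{u}) (i : T ⟶ X) (t : T), IsImmersion i ∧ IsIntegral T ∧ IsAffine T ∧ i t = x ∧
        LocallyOfFiniteType (i ≫ f) ∧ LocallyQuasiFinite (i ≫ f) ∧ QuasiCompact (i ≫ f) ∧
        IsDominant (i ≫ f) := by
  haveI : IsLocallyNoetherian X := LocallyOfFiniteType.isLocallyNoetherian f
  obtain ⟨x', n, hx'x, hcodim, hn, hiso⟩ := exists_generization_isolated f x
  obtain ⟨Z, hZ⟩ : ∃ Z : Closeds X, (Z : Set X) = closure {x'} := ⟨⟨_, isClosed_closure⟩, rfl⟩
  have hZirr : IsIrreducible (Z : Set X) := hZ ▸ isIrreducible_singleton.closure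
  haveI : IsIntegral (Scheme.IdealSheafData.vanishingIdeal Z).subscheme :=
    isIntegral_vanishingIdeal_subscheme Z hZirr
  obtain ⟨j, hj⟩ : ∃ j : (Scheme.IdealSheafData.vanishingIdeal Z).subscheme ⟶ X,
      j = (Scheme.IdealSheafData.vanishingIdeal Z).subschemeι := ⟨_, rfl⟩
  haveI : IsClosedImmersion j := hj ▸ inferInstance
  have hrange : Set.range j = (Z : Set X) := by
    rw [hj, range_subschemeι_vanishingIdeal]
  have hjinj : Function.Injective j := j.isEmbedding.injective
  have hxZ : x ∈ Z := by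
    show x ∈ (Z : Set X)
    rw [hZ]
    exact specializes_iff_mem_closure.1 hx'x
  obtain ⟨w, hw⟩ : x ∈ Set.range j := by
    rw [hrange]
    exact hxZ
  have hmem : ∀ t, x' ⤳ j t := fun t => by
    rw [specializes_iff_mem_closure, ← hZ, ← hrange]
    exact ⟨t, rfl⟩
  -- quasi-finiteness at `w`
  have hqf : (j ≫ f).QuasiFiniteAt w := by
    apply quasiFiniteAt_of_closed_of_generic
    · intro t' hgt' hs
      apply hjinj
      rw [hw]
      apply hcl
      · have : f.base (j t') = f.base (j w) := hgt'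
        rw [this, hw]
      · rw [← hw]
        exact hs.map j.continuous
    · intro t' hgt' hs
      apply hjinj
      rw [hw]
      apply hiso _ (hmem t')
      · rw [← hw]
        exact hs.map j.continuous
      · have : f.base (j t') = f.base (j w) := hgt'
        rw [this, hw]
  -- the dimension hypothesis of S4943
  have hdim : FlatMor.localDim ↥((Z : Set X) ∩ f.base ⁻¹' {f.base x}) ⟨x, ⟨hxZ, rfl⟩⟩ + n ≤
      FlatMor.fibreDimAt f x := by
    have h0 : FlatMor.fibreDimAt (j ≫ f) w = 0 :=
      (Groth.Agent.Lib.Helper73.QFAt.quasiFiniteAt_iff_fibreDimAt_eq_zero (j ≫ f) w).1 hqf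
    have key : ∀ (x₁ : X) (hx₁ : x₁ = j w) (hm : x₁ ∈ (Z : Set X) ∩ f.base ⁻¹' {f.base x₁}),
        FlatMor.localDim ↥((Z : Set X) ∩ f.base ⁻¹' {f.base x₁}) ⟨x₁, hm⟩ = 0 := by
      intro x₁ hx₁ hm
      subst hx₁
      rw [← Groth.Agent.Lib.Helper73.SchemeDim.fibreDimAt_comp_preimm j f w (Z : Set X) hrange hm]
      exact h0
    rw [key x hw.symm ⟨hxZ, rfl⟩, zero_add]
    exact hn
  obtain ⟨-, -, h3⟩ := Groth.Agent.S4943.result f x hf Z x' hZ.symm hxZ n hcodim hdim
  have h4 := h3 w (hj ▸ hw)
  rw [← hj] at h4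
  obtain ⟨e', U, hwU, hcomp, -⟩ := h4
  -- dominance
  haveI : Nonempty U := ⟨⟨w, hwU⟩⟩
  have hdom : closure {(j ≫ f) (genericPoint (Scheme.IdealSheafData.vanishingIdeal Z).subscheme)} =
      Set.univ := by
    haveI : IrreducibleSpace ↥U := inferInstanceAs (IrreducibleSpace (U : Scheme.{u}))
    have huniv : (Set.univ : Set U) ∈ irreducibleComponents (↥U : Type u) := by
      rw [irreducibleComponents_eq_singleton]
      rfl
    obtain ⟨W', hW', -, hcl'⟩ := hcomp Set.univ huniv
    rw [irreducibleComponents_eq_singleton] at hW'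
    have hW'u : W' = Set.univ := hW'
    rw [hW'u] at hcl'
    rw [Set.eq_univ_iff_forall]
    intro z
    have h1 : (j ≫ f) '' closure {genericPoint (Scheme.IdealSheafData.vanishingIdeal Z).subscheme}
        ⊆ closure {(j ≫ f) (genericPoint (Scheme.IdealSheafData.vanishingIdeal Z).subscheme)} := by
      have := image_closure_subset_closure_image
        (s := {genericPoint (Scheme.IdealSheafData.vanishingIdeal Z).subscheme})
        (j ≫ f).continuous
      rwa [Set.image_singleton] at this
    rw [(genericPoint_spec (Scheme.IdealSheafData.vanishingIdeal Z).subscheme).def,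
      Set.image_univ] at h1
    have h2 : (U.ι ≫ j ≫ f) '' Set.univ ⊆ Set.range (j ≫ f) := by
      rintro _ ⟨u, -, rfl⟩
      exact ⟨U.ι u, rfl⟩
    have hz : z ∈ closure ((U.ι ≫ j ≫ f) '' Set.univ) := Set.eq_univ_iff_forall.1 hcl' z
    exact closure_minimal (h2.trans h1) isClosed_closure hz
  obtain ⟨U₂, hU₂, hwU₂, hlqf, hqc, hdomU⟩ := exists_open_of_quasiFiniteAt (j ≫ f) hdom w hqf
  haveI : Nonempty U₂ := ⟨⟨w, hwU₂⟩⟩
  haveI : IsAffine U₂ := hU₂
  refine ⟨U₂, U₂.ι ≫ j, ⟨w, hwU₂⟩, inferInstance, inferInstance, inferInstance, ?_, ?_, ?_, ?_, ?_⟩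
  · show j (U₂.ι ⟨w, hwU₂⟩) = x
    exact hw
  · rw [Category.assoc]
    infer_instance
  · rw [Category.assoc]; exact hlqf
  · rw [Category.assoc]; exact hqc
  · rw [Category.assoc]; exact hdomU

end Groth.Agent.Lib.Helper82.CurveThrough4
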