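import Mathlib
import Groth.Prelude.Def_W4c3irrattreebunCvg

/-!
# Covering gonality does not change when passing to the field of constants (helper82)
-/

set_option autoImplicit false
universe u

namespace Groth.Agent.Lib.Helper82.Cvg

open W4c3irrattreebun

variable (k K : Type u) [Field k] [Field K] [Algebra k K]

/-- restriction of scalars of a covering diagram from the field of constants to `k` -/
theorem restrict_exists {e : ℕ} (D : CovDiag.{u} (algebraicClosure k K) K e) :
    ∃ D' : CovDiag.{u} k K e, (Algebra.IsSeparable K D.KC → Algebra.IsSeparable K D'.KC) := by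
  obtain @⟨KC, KB, iFC, iFB, aKC, akC, tK, akB, aBC, tB, fK, t, transc, fT, fr⟩ := D
  let algkC : Algebra k KC :=
    ((@algebraMap (algebraicClosure k K) KC _ _ akC).comp
      (algebraMap k (algebraicClosure k K))).toAlgebra
  let algkB : Algebra k KB :=
    ((@algebraMap (algebraicClosure k K) KB _ _ akB).comp
      (algebraMap k (algebraicClosure k K))).toAlgebra
  have towerK : IsScalarTower k K KC := IsScalarTower.of_algebraMap_eq (fun x => by
    show @algebraMap (algebraicClosure k K) KC _ _ akC (algebraMap k (algebraicClosure k K) x) = _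
    rw [@IsScalarTower.algebraMap_apply (algebraicClosure k K) K KC _ _ _ _ aKC akC tK]
    rfl)
  have towerB : IsScalarTower k KB KC := IsScalarTower.of_algebraMap_eq (fun x => by
    show @algebraMap (algebraicClosure k K) KC _ _ akC (algebraMap k (algebraicClosure k K) x) = _
    rw [@IsScalarTower.algebraMap_apply (algebraicClosure k K) KB KC _ _ _ akB aBC akC tB]
    rfl)
  exact ⟨{ KC := KC
           KB := KB
           instFieldC := iFC
           instFieldB := iFB
           algKC := aKC
           algkC := algkC
           towerK := towerK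
           algkB := algkB
           algBC := aBC
           towerB := towerB
           finiteK := fK
           t := t
           transc := transc
           finiteT := fT
           finrank_eq := fr }, fun h => h⟩

theorem finrank_adjoin_le {KB KC : Type u} [Field KB] [Field KC] [Algebra KB KC]
    (KB' : IntermediateField KB KC) (t : KC)
    [hfin : Module.Finite (IntermediateField.adjoin KB ({t} : Set KC)) KC] :
    Module.Finite (IntermediateField.adjoin KB' ({t} : Set KC)) KC ∧
      Module.finrank (IntermediateField.adjoin KB' ({t} : Set KC)) KC ≤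
        Module.finrank (IntermediateField.adjoin KB ({t} : Set KC)) KC := by
  have hFF' : ∀ x : KC, x ∈ IntermediateField.adjoin KB ({t} : Set KC) →
      x ∈ IntermediateField.adjoin KB' ({t} : Set KC) := by
    intro x hx
    have h1 : IntermediateField.adjoin KB ({t} : Set KC) ≤
        (IntermediateField.adjoin KB' ({t} : Set KC)).restrictScalars KB := by
      rw [IntermediateField.adjoin_le_iff]
      intro y hy
      rw [Set.mem_singleton_iff] at hy
      rw [hy]
      exact IntermediateField.subset_adjoin KB' ({t} : Set KC) (Set.mem_singleton t)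
    exact h1 hx
  let ι : IntermediateField.adjoin KB ({t} : Set KC) →+*
      IntermediateField.adjoin KB' ({t} : Set KC) :=
    { toFun := fun x => ⟨x.1, hFF' x.1 x.2⟩
      map_one' := rfl
      map_mul' := fun _ _ => rfl
      map_zero' := rfl
      map_add' := fun _ _ => rfl }
  letI : Algebra (IntermediateField.adjoin KB ({t} : Set KC))
      (IntermediateField.adjoin KB' ({t} : Set KC)) := ι.toAlgebra
  haveI : IsScalarTower (IntermediateField.adjoin KB ({t} : Set KC))
      (IntermediateField.adjoin KB' ({t} : Set KC)) KC :=
    IsScalarTower.of_algebraMap_eq (fun x => rfl)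
  haveI finT' : Module.Finite (IntermediateField.adjoin KB' ({t} : Set KC)) KC :=
    Module.Finite.of_restrictScalars_finite (IntermediateField.adjoin KB ({t} : Set KC)) _ KC
  haveI : Module.Free (IntermediateField.adjoin KB' ({t} : Set KC)) KC :=
    Module.Free.of_divisionRing _ _
  haveI : Module.Free (IntermediateField.adjoin KB ({t} : Set KC))
      (IntermediateField.adjoin KB' ({t} : Set KC)) := Module.Free.of_divisionRing _ _
  have hmul := Module.finrank_mul_finrank (IntermediateField.adjoin KB ({t} : Set KC))
    (IntermediateField.adjoin KB' ({t} : Set KC)) KC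
  have hpos : 0 < Module.finrank (IntermediateField.adjoin KB ({t} : Set KC)) KC :=
    Module.finrank_pos
  refine ⟨finT', Nat.le_of_dvd hpos ⟨_, by rw [← hmul, mul_comm]⟩⟩

/-- extension of scalars of a covering diagram to the field of constants; the degree can only
drop -/
theorem extend_exists {e : ℕ} (D : CovDiag.{u} k K e) :
    ∃ e' : ℕ, e' ≤ e ∧ ∃ D' : CovDiag.{u} (algebraicClosure k K) K e',
      (Algebra.IsSeparable K D.KC → Algebra.IsSeparable K D'.KC) := by
  obtain @⟨KC, KB, iFC, iFB, aKC, akC, tK, akB, aBC, tB, fK, t, transc, fT, fr⟩ := D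
  let KB' : IntermediateField KB KC :=
    IntermediateField.adjoin KB (Set.range (algebraMap (algebraicClosure k K) KC))
  have hsub : ∀ x : algebraicClosure k K, algebraMap (algebraicClosure k K) KC x ∈ KB' :=
    fun x => IntermediateField.subset_adjoin _ _ ⟨x, rfl⟩
  let algk'B' : Algebra (algebraicClosure k K) KB' :=
    ((algebraMap (algebraicClosure k K) KC).codRestrict KB' hsub).toAlgebra
  have towerB' : IsScalarTower (algebraicClosure k K) KB' KC :=
    IsScalarTower.of_algebraMap_eq (fun x => rfl)
  have halg : Algebra.IsAlgebraic KB KB' := by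
    apply IntermediateField.isAlgebraic_adjoin
    rintro _ ⟨y, rfl⟩
    have h1 : IsIntegral k (y : K) := by
      have := y.2
      rw [mem_algebraicClosure_iff] at this
      exact this.isIntegral
    have h2 : IsIntegral k (algebraMap K KC (y : K)) := h1.algebraMap
    exact h2.tower_top
  have transc' : Transcendental KB' t := by
    intro h
    exact transc (h.restrictScalars KB)
  obtain ⟨finT', hle⟩ := finrank_adjoin_le KB' t
  rw [fr] at hle
  exact ⟨Module.finrank (IntermediateField.adjoin KB' ({t} : Set KC)) KC, hle,
    { KC := KC
      KB := KB'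
      instFieldC := iFC
      instFieldB := inferInstance
      algKC := aKC
      algkC := inferInstance
      towerK := inferInstance
      algkB := algk'B'
      algBC := inferInstance
      towerB := towerB'
      finiteK := fK
      t := t
      transc := transc'
      finiteT := finT'
      finrank_eq := rfl }, fun h => h⟩

lemma sInf_eq_of {S S' : Set ℕ} (h1 : S' ⊆ S) (h2 : ∀ e ∈ S, ∃ e' ∈ S', e' ≤ e) :
    sInf S = sInf S' := by
  rcases S.eq_empty_or_nonempty with hS | hS
  · have : S' = ∅ := Set.subset_eq_empty h1 hS
    rw [hS, this]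
  · obtain ⟨e', he', hle⟩ := h2 _ (Nat.sInf_mem hS)
    have hS' : S'.Nonempty := ⟨e', he'⟩
    apply le_antisymm
    · exact Nat.sInf_le (h1 (Nat.sInf_mem hS'))
    · exact (Nat.sInf_le he').trans hle

theorem cvg_eq : cvg k K = cvg (algebraicClosure k K) K := by
  unfold cvg
  apply sInf_eq_of
  · rintro e ⟨D⟩
    obtain ⟨D', -⟩ := restrict_exists k K D
    exact ⟨D'⟩
  · rintro e ⟨D⟩
    obtain ⟨e', hle, D', -⟩ := extend_exists k K D
    exact ⟨e', ⟨D'⟩, hle⟩

theorem scvg_eq : scvg k K = scvg (algebraicClosure k K) K := by
  unfold scvg
  apply sInf_eq_of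
  · rintro e ⟨D, hD⟩
    obtain ⟨D', h⟩ := restrict_exists k K D
    exact ⟨D', h hD⟩
  · rintro e ⟨D, hD⟩
    obtain ⟨e', hle, D', h⟩ := extend_exists k K D
    exact ⟨e', ⟨D', h hD⟩, hle⟩

end Groth.Agent.Lib.Helper82.Cvg
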