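import Mathlib

/-!
# Element-wise criteria for mono/epi of homology maps of complexes of modules (helper82)
-/

set_option autoImplicit false
universe u v
open CategoryTheory

namespace Groth.Agent.Lib.Helper82.ModHomology

section SC
variable {R : Type u} [Ring R] {S₁ S₂ : ShortComplex (ModuleCat.{v} R)} (φ : S₁ ⟶ S₂)

lemma g_tau (x : S₁.X₂) : S₂.g.hom (φ.τ₂.hom x) = φ.τ₃.hom (S₁.g.hom x) := by
  have h := congrArg (fun ψ => ψ.hom x) φ.comm₂₃
  simpa using h

lemma tau_f (x : S₁.X₁) : φ.τ₂.hom (S₁.f.hom x) = S₂.f.hom (φ.τ₁.hom x) := by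
  have h := congrArg (fun ψ => ψ.hom x) φ.comm₁₂
  simpa using h.symm

/-- the concrete map on cycles -/
def kerMap : LinearMap.ker S₁.g.hom →ₗ[R] LinearMap.ker S₂.g.hom :=
  (φ.τ₂.hom.comp (LinearMap.ker S₁.g.hom).subtype).codRestrict (LinearMap.ker S₂.g.hom)
    (fun x => by
      rw [LinearMap.mem_ker, LinearMap.comp_apply, Submodule.subtype_apply, g_tau, x.2, map_zero])

@[simp] lemma kerMap_val (x : LinearMap.ker S₁.g.hom) : (kerMap φ x : S₂.X₂) = φ.τ₂.hom x.1 := rfl

lemma range_le : LinearMap.range S₁.moduleCatToCycles ≤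
    (LinearMap.range S₂.moduleCatToCycles).comap (kerMap φ) := by
  rintro _ ⟨x, rfl⟩
  refine ⟨φ.τ₁.hom x, Subtype.ext ?_⟩
  show S₂.f.hom (φ.τ₁.hom x) = φ.τ₂.hom (S₁.f.hom x)
  rw [tau_f]

/-- the concrete map on homology -/
def hMap : (LinearMap.ker S₁.g.hom ⧸ LinearMap.range S₁.moduleCatToCycles) →ₗ[R]
    (LinearMap.ker S₂.g.hom ⧸ LinearMap.range S₂.moduleCatToCycles) :=
  Submodule.mapQ _ _ (kerMap φ) (range_le φ)

@[simp] lemma hMap_mk (x : LinearMap.ker S₁.g.hom) :
    hMap φ (Submodule.Quotient.mk x) = Submodule.Quotient.mk (kerMap φ x) := rfl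

/-- the map data -/
noncomputable def mapData :
    ShortComplex.LeftHomologyMapData φ S₁.moduleCatLeftHomologyData
      S₂.moduleCatLeftHomologyData where
  φK := ModuleCat.ofHom (kerMap φ)
  φH := ModuleCat.ofHom (hMap φ)
  commi := by
    ext x
    rfl
  commf' := by
    ext x
    apply Subtype.ext
    show φ.τ₂.hom (S₁.f.hom x) = S₂.f.hom (φ.τ₁.hom x)
    exact tau_f φ x
  commπ := by
    ext x
    rfl

/-- the arrow iso between the abstract and the concrete homology map -/
noncomputable def arrowIso :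
    Arrow.mk (ShortComplex.homologyMap φ) ≅
      Arrow.mk (ModuleCat.ofHom (hMap φ) :
        S₁.moduleCatLeftHomologyData.H ⟶ S₂.moduleCatLeftHomologyData.H) :=
  Arrow.isoMk S₁.moduleCatLeftHomologyData.homologyIso S₂.moduleCatLeftHomologyData.homologyIso
    ((mapData φ).homologyMap_comm).symm

lemma mono_homologyMap_iff_hm :
    Mono (ShortComplex.homologyMap φ) ↔ Function.Injective (hMap φ) := by
  rw [← MorphismProperty.monomorphisms.iff,
    (MorphismProperty.monomorphisms _).arrow_mk_iso_iff (arrowIso φ),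
    MorphismProperty.monomorphisms.iff, ModuleCat.mono_iff_injective]
  rfl

lemma epi_homologyMap_iff_hm :
    Epi (ShortComplex.homologyMap φ) ↔ Function.Surjective (hMap φ) := by
  rw [← MorphismProperty.epimorphisms.iff,
    (MorphismProperty.epimorphisms _).arrow_mk_iso_iff (arrowIso φ),
    MorphismProperty.epimorphisms.iff, ModuleCat.epi_iff_surjective]
  rfl

theorem mono_homologyMap_iff :
    Mono (ShortComplex.homologyMap φ) ↔
      ∀ x : S₁.X₂, S₁.g.hom x = 0 → (∃ y : S₂.X₁, S₂.f.hom y = φ.τ₂.hom x) →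
        ∃ z : S₁.X₁, S₁.f.hom z = x := by
  rw [mono_homologyMap_iff_hm, injective_iff_map_eq_zero]
  constructor
  · intro H x hx ⟨y, hy⟩
    have h1 := H (Submodule.Quotient.mk ⟨x, hx⟩) (by
      rw [hMap_mk, Submodule.Quotient.mk_eq_zero]
      exact ⟨y, Subtype.ext hy⟩)
    rw [Submodule.Quotient.mk_eq_zero] at h1
    obtain ⟨z, hz⟩ := h1
    exact ⟨z, congrArg Subtype.val hz⟩
  · intro H q hq
    induction q using Submodule.Quotient.induction_on with
    | H x =>
      rw [hMap_mk, Submodule.Quotient.mk_eq_zero] at hq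
      obtain ⟨y, hy⟩ := hq
      have hy' := congrArg Subtype.val hy
      obtain ⟨z, hz⟩ := H x.1 x.2 ⟨y, hy'⟩
      rw [Submodule.Quotient.mk_eq_zero]
      exact ⟨z, Subtype.ext hz⟩

theorem epi_homologyMap_iff :
    Epi (ShortComplex.homologyMap φ) ↔
      ∀ y : S₂.X₂, S₂.g.hom y = 0 →
        ∃ x : S₁.X₂, S₁.g.hom x = 0 ∧ ∃ w : S₂.X₁, φ.τ₂.hom x - y = S₂.f.hom w := by
  rw [epi_homologyMap_iff_hm]
  constructor
  · intro H y hy
    obtain ⟨q, hq⟩ := H (Submodule.Quotient.mk ⟨y, hy⟩)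
    induction q using Submodule.Quotient.induction_on with
    | H x =>
      rw [hMap_mk, Submodule.Quotient.eq] at hq
      obtain ⟨w, hw⟩ := hq
      have hw' := congrArg Subtype.val hw
      exact ⟨x.1, x.2, w, hw'.symm⟩
  · intro H q
    induction q using Submodule.Quotient.induction_on with
    | H y =>
      obtain ⟨x, hx, w, hw⟩ := H y.1 y.2
      refine ⟨Submodule.Quotient.mk ⟨x, hx⟩, ?_⟩
      rw [hMap_mk, Submodule.Quotient.eq]
      exact ⟨w, Subtype.ext hw.symm⟩

end SC

section HC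
variable {R : Type u} [Ring R] {ι : Type*} {c : ComplexShape ι}
  {C D : HomologicalComplex (ModuleCat.{v} R) c} (f : C ⟶ D)

theorem mono_homologyMap_iff' (i j k : ι) (hj : c.prev i = j) (hk : c.next i = k) :
    Mono (HomologicalComplex.homologyMap f i) ↔
      ∀ x : C.X i, (C.d i k).hom x = 0 → (∃ y : D.X j, (D.d j i).hom y = (f.f i).hom x) →
        ∃ z : C.X j, (C.d j i).hom z = x := by
  subst hj hk
  exact mono_homologyMap_iff ((HomologicalComplex.shortComplexFunctor _ c i).map f)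

theorem epi_homologyMap_iff' (i j k : ι) (hj : c.prev i = j) (hk : c.next i = k) :
    Epi (HomologicalComplex.homologyMap f i) ↔
      ∀ y : D.X i, (D.d i k).hom y = 0 →
        ∃ x : C.X i, (C.d i k).hom x = 0 ∧ ∃ w : D.X j, (f.f i).hom x - y = (D.d j i).hom w := by
  subst hj hk
  exact epi_homologyMap_iff ((HomologicalComplex.shortComplexFunctor _ c i).map f)

end HC

end Groth.Agent.Lib.Helper82.ModHomology
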