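import Mathlib
import Groth.Prelude.Def_W4c3biextchowCx
import Groth.Agent.Lib.Helper82.ModHomology

/-!
# The groupoid of a chain complex: element-wise homology criteria (helper82)
-/

set_option autoImplicit false
universe u v
open CategoryTheory

namespace Groth.Agent.Lib.Helper82.CxGroupoid

open Groth.Agent.Lib.Helper82.ModHomology W4c3biextchow

variable {R : Type u} [Ring R] {C D : ChainComplex (ModuleCat.{v} R) ℕ} (f : C ⟶ D)

lemma d00 (C : ChainComplex (ModuleCat.{v} R) ℕ) (x : C.X 0) : (C.d 0 0).hom x = 0 := by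
  rw [C.shape 0 0 (by simp)]
  rfl

theorem mono_H1_iff :
    Mono (HomologicalComplex.homologyMap f 1) ↔
      ∀ x : C.X 1, (C.d 1 0).hom x = 0 → (∃ y : D.X 2, (D.d 2 1).hom y = (f.f 1).hom x) →
        ∃ z : C.X 2, (C.d 2 1).hom z = x :=
  mono_homologyMap_iff' f 1 2 0 (by simp) (by simp)

theorem epi_H1_iff :
    Epi (HomologicalComplex.homologyMap f 1) ↔
      ∀ y : D.X 1, (D.d 1 0).hom y = 0 →
        ∃ x : C.X 1, (C.d 1 0).hom x = 0 ∧ ∃ w : D.X 2, (f.f 1).hom x - y = (D.d 2 1).hom w :=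
  epi_homologyMap_iff' f 1 2 0 (by simp) (by simp)

theorem mono_H0_iff :
    Mono (HomologicalComplex.homologyMap f 0) ↔
      ∀ x : C.X 0, (∃ y : D.X 1, (D.d 1 0).hom y = (f.f 0).hom x) →
        ∃ z : C.X 1, (C.d 1 0).hom z = x := by
  rw [mono_homologyMap_iff' f 0 1 0 (by simp) (by simp)]
  exact ⟨fun H x hx => H x (d00 C x) hx, fun H x _ hx => H x hx⟩

theorem epi_H0_iff :
    Epi (HomologicalComplex.homologyMap f 0) ↔
      ∀ y : D.X 0, ∃ x : C.X 0, ∃ w : D.X 1, (f.f 0).hom x - y = (D.d 1 0).hom w := by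
  rw [epi_homologyMap_iff' f 0 1 0 (by simp) (by simp)]
  constructor
  · intro H y
    obtain ⟨x, _, w, hw⟩ := H y (d00 D y)
    exact ⟨x, w, hw⟩
  · intro H y _
    obtain ⟨x, w, hw⟩ := H y
    exact ⟨x, d00 C x, w, hw⟩

/-- the class of `x` in `Q1` vanishes iff `x` is a boundary -/
lemma mk_eq_zero_iff (C : ChainComplex (ModuleCat.{v} R) ℕ) (x : C.X 1) :
    (Submodule.Quotient.mk x : Q1 C) = 0 ↔ ∃ z : C.X 2, (C.d 2 1).hom z = x := by
  rw [Submodule.Quotient.mk_eq_zero]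
  rfl

/-- inverse morphism in the groupoid -/
def invHom {a b : Obj C} (φ : a ⟶ b) : b ⟶ a :=
  (⟨-(φ : Hom C a b).cl, by rw [map_neg, (φ : Hom C a b).delta_cl]; abel⟩ : Hom C b a)

/-- every morphism of the groupoid is an isomorphism -/
def isoOfHom {a b : Obj C} (φ : a ⟶ b) : a ≅ b where
  hom := φ
  inv := invHom φ
  hom_inv_id := Hom.ext (by show (φ : Hom C a b).cl + -(φ : Hom C a b).cl = 0; abel)
  inv_hom_id := Hom.ext (by show -(φ : Hom C a b).cl + (φ : Hom C a b).cl = 0; abel)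

end Groth.Agent.Lib.Helper82.CxGroupoid
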