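import Mathlib
import Groth.Agent.Lib.Helper82.FlatDedekind
import Groth.Agent.Lib.Helper35.FiberStalk

/-!
# Schemes over a discrete valuation ring: closed fibre reduced (helper82)

`f : X ⟶ Spec R`, `R` a DVR with uniformizer `ϖ`.
* `tSec f ϖ : Γ(X, ⊤)` the pulled back uniformizer, `piV f ϖ V` its restriction to `V`;
  `map_eq_genericPoint_iff` : `f x = η ↔ x ∈ X.basicOpen (tSec f ϖ)`.
* `mem_span_germ_of_sq_mem`, `mem_span_piV_of_sq_mem` : if the closed fibre is reduced then
  `(ϖ)` is a radical ideal in the stalks at points of the closed fibre / in `Γ(X, V)`, `V` affine.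
* `eq_zero_of_mul_eq_zero_of_radical` (pure algebra).
* `flat_iff_weakAss_Spec` : flatness over a Dedekind domain via weakly associated points.
* `flat_of_isReduced_fiber_of_dense` : EGA-style flatness criterion (S10880).
-/

set_option linter.style.haveILetI false
set_option linter.unusedSectionVars false
universe u
open CategoryTheory AlgebraicGeometry TopologicalSpace Opposite IsLocalRing
open Groth.Agent.Lib.QCoh Groth.Agent.Lib.Helper82.FlatDedekind Groth.Agent.Lib.Helper18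

namespace Groth.Agent.Lib.Helper82.DVRFibre


variable {R : Type u} [CommRing R] [IsDomain R] [IsDiscreteValuationRing R]

/-- The global section of `X` pulled back from `ϖ ∈ R`. -/
noncomputable def tSec {X : Scheme.{u}} (f : X ⟶ Spec (CommRingCat.of R)) (ϖ : R) : Γ(X, ⊤) :=
  f.appTop ((Scheme.ΓSpecIso (CommRingCat.of R)).inv ϖ)

theorem preimage_basicOpen_eq {X : Scheme.{u}} (f : X ⟶ Spec (CommRingCat.of R)) (ϖ : R) :
    f ⁻¹ᵁ (PrimeSpectrum.basicOpen ϖ) = X.basicOpen (tSec f ϖ) := by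
  rw [← basicOpen_eq_of_affine (R := CommRingCat.of R) ϖ, Scheme.preimage_basicOpen_top]
  rfl

theorem mem_basicOpen_iff_eq_genericPoint {ϖ : R} (hϖ : Irreducible ϖ)
    (p : Spec (CommRingCat.of R)) :
    p ∈ PrimeSpectrum.basicOpen ϖ ↔ p = genericPoint (Spec (CommRingCat.of R)) := by
  rw [genericPoint_eq_bot_of_affine]
  constructor
  · intro hp
    have hp' : ϖ ∉ p.asIdeal := hp
    apply PrimeSpectrum.ext
    change p.asIdeal = ⊥
    by_contra hne
    have hmax : p.asIdeal.IsMaximal := Ring.DimensionLEOne.maximalOfPrime hne p.isPrime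
    have : p.asIdeal = maximalIdeal R := IsLocalRing.eq_maximalIdeal hmax
    rw [this, hϖ.maximalIdeal_eq] at hp'
    exact hp' (Ideal.mem_span_singleton_self ϖ)
  · rintro rfl
    change ϖ ∉ (⊥ : Ideal R)
    rw [Ideal.mem_bot]
    exact hϖ.ne_zero

theorem map_eq_genericPoint_iff {X : Scheme.{u}} (f : X ⟶ Spec (CommRingCat.of R)) {ϖ : R}
    (hϖ : Irreducible ϖ) (x : X) :
    f.base x = genericPoint (Spec (CommRingCat.of R)) ↔ x ∈ X.basicOpen (tSec f ϖ) := by
  rw [← preimage_basicOpen_eq, ← mem_basicOpen_iff_eq_genericPoint hϖ]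
  rfl

theorem eq_closedPoint_of_ne_genericPoint (p : Spec (CommRingCat.of R))
    (hp : p ≠ genericPoint (Spec (CommRingCat.of R))) : p = closedPoint R := by
  rw [genericPoint_eq_bot_of_affine] at hp
  have hne : p.asIdeal ≠ ⊥ := fun h => hp (PrimeSpectrum.ext h)
  have hmax : p.asIdeal.IsMaximal := Ring.DimensionLEOne.maximalOfPrime hne p.isPrime
  apply PrimeSpectrum.ext
  exact IsLocalRing.eq_maximalIdeal hmax


theorem germ_tSec_eq {X : Scheme.{u}} (f : X ⟶ Spec (CommRingCat.of R)) (ϖ : R) (y : X) :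
    X.presheaf.germ ⊤ y trivial (tSec f ϖ) =
      (f.stalkMap y).hom (@algebraMap R ((Spec (CommRingCat.of R)).presheaf.stalk (f.base y)) _ _
        (StructureSheaf.stalkAlgebra R (f.base y)) ϖ) := by
  have h := Scheme.Hom.germ_stalkMap_apply f ⊤ y trivial
    ((Scheme.ΓSpecIso (CommRingCat.of R)).inv ϖ)
  exact h.symm

/-- the maximal ideal of the stalk of `Spec R` at the closed point is generated by `ϖ`. -/
theorem maximalIdeal_stalk_eq {ϖ : R} (hϖ : Irreducible ϖ) (p : Spec (CommRingCat.of R))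
    (hp : p = closedPoint R) :
    maximalIdeal ((Spec (CommRingCat.of R)).presheaf.stalk p) =
      Ideal.span {@algebraMap R ((Spec (CommRingCat.of R)).presheaf.stalk p) _ _
        (StructureSheaf.stalkAlgebra R p) ϖ} := by
  letI alg : Algebra R ((Spec (CommRingCat.of R)).presheaf.stalk p) :=
    StructureSheaf.stalkAlgebra R p
  haveI := p.isPrime
  haveI hloc : IsLocalization.AtPrime ((Spec (CommRingCat.of R)).presheaf.stalk p) p.asIdeal :=
    StructureSheaf.IsLocalization.to_stalk R p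
  rw [← IsLocalization.AtPrime.map_eq_maximalIdeal p.asIdeal
    ((Spec (CommRingCat.of R)).presheaf.stalk p)]
  have h0 : p.asIdeal = Ideal.span {ϖ} := by
    rw [hp]
    exact hϖ.maximalIdeal_eq
  rw [h0, Ideal.map_span, Set.image_singleton]
  rfl

/-- Stalk-level: at a point of the closed fibre, `(germ t)` is a radical ideal of `O_{X,y}` when the
closed fibre is reduced. -/
theorem mem_span_germ_of_sq_mem {X : Scheme.{u}} (f : X ⟶ Spec (CommRingCat.of R)) {ϖ : R}
    (hϖ : Irreducible ϖ) (hred : IsReduced (f.fiber (closedPoint R))) (y : X)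
    (hy : y ∉ X.basicOpen (tSec f ϖ)) (c : X.presheaf.stalk y)
    (hc : c ^ 2 ∈ Ideal.span {X.presheaf.germ ⊤ y trivial (tSec f ϖ)}) :
    c ∈ Ideal.span {X.presheaf.germ ⊤ y trivial (tSec f ϖ)} := by
  have hfy : f.base y = closedPoint R := by
    apply eq_closedPoint_of_ne_genericPoint
    intro h
    exact hy ((map_eq_genericPoint_iff f hϖ y).1 h)
  have hyr : y ∈ Set.range (f.fiberι (closedPoint R)) :=
    (Set.ext_iff.1 (Scheme.Hom.range_fiberι f (closedPoint R)) y).2 hfy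
  obtain ⟨y', rfl⟩ := hyr
  have hker := Groth.Agent.Lib.Helper35.FiberStalk.ker_stalkMap_fiberι f (closedPoint R) y'
  rw [maximalIdeal_stalk_eq hϖ _ hfy, Ideal.map_span, Set.image_singleton, ← germ_tSec_eq] at hker
  rw [← hker, RingHom.mem_ker] at hc ⊢
  rw [map_pow] at hc
  exact IsReduced.eq_zero _ ⟨2, hc⟩


/-- restriction of `tSec` to an open. -/
noncomputable def piV {X : Scheme.{u}} (f : X ⟶ Spec (CommRingCat.of R)) (ϖ : R) (V : X.Opens) :
    Γ(X, V) :=
  X.presheaf.map (homOfLE (le_top : V ≤ ⊤)).op (tSec f ϖ)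

theorem germ_piV {X : Scheme.{u}} (f : X ⟶ Spec (CommRingCat.of R)) (ϖ : R) (V : X.Opens) (y : X)
    (hy : y ∈ V) :
    X.presheaf.germ V y hy (piV f ϖ V) = X.presheaf.germ ⊤ y trivial (tSec f ϖ) :=
  TopCat.Presheaf.germ_res_apply X.presheaf (homOfLE (le_top : V ≤ ⊤)) y hy (tSec f ϖ)

theorem basicOpen_piV {X : Scheme.{u}} (f : X ⟶ Spec (CommRingCat.of R)) (ϖ : R) (V : X.Opens) :
    X.basicOpen (piV f ϖ V) = V ⊓ X.basicOpen (tSec f ϖ) :=
  Scheme.basicOpen_res _ _ _

theorem mem_span_piV_of_sq_mem {X : Scheme.{u}} (f : X ⟶ Spec (CommRingCat.of R)) {ϖ : R}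
    (hϖ : Irreducible ϖ) (hred : IsReduced (f.fiber (closedPoint R))) {V : X.Opens}
    (hV : IsAffineOpen V) (b : Γ(X, V)) (hb : b ^ 2 ∈ Ideal.span {piV f ϖ V}) :
    b ∈ Ideal.span {piV f ϖ V} := by
  by_contra hb'
  obtain ⟨I, hI⟩ : ∃ I : Ideal Γ(X, V), I = (Ideal.span {piV f ϖ V}).colon {b} :=
    ⟨_, rfl⟩
  have hmemI : ∀ t : Γ(X, V), t ∈ I ↔ t * b ∈ Ideal.span {piV f ϖ V} := by
    intro t
    rw [hI, Submodule.mem_colon_singleton, smul_eq_mul]
  have hIne : I ≠ ⊤ := by
    intro h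
    have h1 : (1 : Γ(X, V)) ∈ I := h ▸ Submodule.mem_top
    rw [hmemI, one_mul] at h1
    exact hb' h1
  obtain ⟨P, hPmax, hIP⟩ := Ideal.exists_le_maximal I hIne
  have hPprime : P.IsPrime := hPmax.isPrime
  obtain ⟨Q, hQ⟩ : ∃ Q : PrimeSpectrum Γ(X, V), Q = ⟨P, hPprime⟩ := ⟨_, rfl⟩
  obtain ⟨y, hyV, hPy⟩ : ∃ (y : X) (hyV : y ∈ V), hV.primeIdealOf ⟨y, hyV⟩ = Q :=
    ⟨hV.fromSpec Q, fromSpec_mem hV Q, primeIdealOf_fromSpec hV Q⟩
  have hπI : piV f ϖ V ∈ I := by
    rw [hmemI]
    exact Ideal.mul_mem_right _ _ (Ideal.mem_span_singleton_self _)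
  have hπP : piV f ϖ V ∈ (hV.primeIdealOf ⟨y, hyV⟩).asIdeal := by
    rw [hPy, hQ]; exact hIP hπI
  have hynot : y ∉ X.basicOpen (tSec f ϖ) := by
    intro hmem
    rw [mem_primeIdealOf_iff, germ_piV] at hπP
    exact hπP ((Scheme.mem_basicOpen_top _ _ _).1 hmem)
  letI : Algebra Γ(X, V) (X.presheaf.stalk y) :=
    TopCat.Presheaf.algebra_section_stalk X.presheaf ⟨y, hyV⟩
  haveI hloc : IsLocalization.AtPrime (X.presheaf.stalk y) (hV.primeIdealOf ⟨y, hyV⟩).asIdeal :=
    hV.isLocalization_stalk ⟨y, hyV⟩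
  have hgerm : ∀ s : Γ(X, V), algebraMap Γ(X, V) (X.presheaf.stalk y) s =
      X.presheaf.germ V y hyV s := fun s => rfl
  have hc2 : (X.presheaf.germ V y hyV b) ^ 2 ∈
      Ideal.span {X.presheaf.germ ⊤ y trivial (tSec f ϖ)} := by
    rw [← map_pow, ← germ_piV f ϖ V y hyV]
    obtain ⟨a, ha⟩ := Ideal.mem_span_singleton'.1 hb
    rw [← ha, map_mul]
    exact Ideal.mul_mem_left _ _ (Ideal.mem_span_singleton_self _)
  have hc := mem_span_germ_of_sq_mem f hϖ hred y hynot _ hc2
  obtain ⟨c', hc'⟩ := Ideal.mem_span_singleton'.1 hc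
  obtain ⟨a, s, rfl⟩ := IsLocalization.exists_mk'_eq
    (hV.primeIdealOf ⟨y, hyV⟩).asIdeal.primeCompl c'
  -- germ b * germ s = germ a * germ π
  have h1 : algebraMap Γ(X, V) (X.presheaf.stalk y) (s.1 * b) =
      algebraMap Γ(X, V) (X.presheaf.stalk y) (a * piV f ϖ V) := by
    rw [map_mul, map_mul, hgerm b, ← hc', hgerm (piV f ϖ V), germ_piV, ← mul_assoc,
      IsLocalization.mk'_spec']
  obtain ⟨t, ht⟩ := (IsLocalization.eq_iff_exists
    (hV.primeIdealOf ⟨y, hyV⟩).asIdeal.primeCompl (X.presheaf.stalk y)).1 h1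
  have hts : t.1 * s.1 ∈ I := by
    rw [hmemI, mul_assoc, ht, ← mul_assoc]
    exact Ideal.mul_mem_left _ _ (Ideal.mem_span_singleton_self _)
  have hPeq : (hV.primeIdealOf ⟨y, hyV⟩).asIdeal = P := by rw [hPy, hQ]
  have htsP : t.1 * s.1 ∈ (hV.primeIdealOf ⟨y, hyV⟩).asIdeal := by
    have h2 := hIP hts
    rwa [← hPeq] at h2
  rcases (hV.primeIdealOf ⟨y, hyV⟩).isPrime.mem_or_mem htsP with h | h
  · exact t.2 h
  · exact s.2 h




theorem mem_span_of_pow_mem {B : Type*} [CommRing B] (π : B)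
    (hrad : ∀ b : B, b ^ 2 ∈ Ideal.span {π} → b ∈ Ideal.span {π}) (t : B) (k : ℕ)
    (ht : t ^ k ∈ Ideal.span {π}) : t ∈ Ideal.span {π} := by
  have key : ∀ m : ℕ, t ^ (2 ^ m) ∈ Ideal.span {π} → t ∈ Ideal.span {π} := by
    intro m
    induction m with
    | zero => intro h; simpa using h
    | succ m ih =>
      intro h
      apply ih
      apply hrad
      rw [← pow_mul, ← pow_succ]
      exact h
  apply key k
  have hk : k ≤ 2 ^ k := Nat.lt_two_pow_self.le
  obtain ⟨d, hd⟩ := Nat.exists_eq_add_of_le hk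
  rw [hd, pow_add]
  exact Ideal.mul_mem_right _ _ ht

theorem eq_zero_of_mul_eq_zero_of_radical {B : Type*} [CommRing B] [IsNoetherianRing B] (π : B)
    (hrad : ∀ b : B, b ^ 2 ∈ Ideal.span {π} → b ∈ Ideal.span {π})
    (hnil : ∀ b : B, IsNilpotent (π * b) → IsNilpotent b) (b : B) (hb : π * b = 0) : b = 0 := by
  -- the π-power torsion ideal
  let T : Ideal B :=
    { carrier := {t | ∃ n : ℕ, π ^ n * t = 0}
      add_mem' := by
        rintro a c ⟨n, hn⟩ ⟨m, hm⟩
        refine ⟨n + m, ?_⟩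
        calc π ^ (n + m) * (a + c) = π ^ m * (π ^ n * a) + π ^ n * (π ^ m * c) := by ring
          _ = 0 := by rw [hn, hm]; simp
      zero_mem' := ⟨0, by simp⟩
      smul_mem' := by
        rintro c a ⟨n, hn⟩
        refine ⟨n, ?_⟩
        rw [smul_eq_mul, mul_left_comm, hn, mul_zero] }
  have hTmem : ∀ t : B, t ∈ T ↔ ∃ n : ℕ, π ^ n * t = 0 := fun t => Iff.rfl
  have hTnil : ∀ t ∈ T, IsNilpotent t := by
    rintro t ⟨n, hn⟩
    induction n generalizing t with
    | zero => rw [pow_zero, one_mul] at hn; rw [hn]; exact IsNilpotent.zero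
    | succ n ih =>
      apply hnil
      apply ih
      rw [← mul_assoc, ← pow_succ]
      exact hn
  have hTle : T ≤ Ideal.span {π} • T := by
    intro t ht
    obtain ⟨k, hk⟩ := hTnil t ht
    have h1 : t ∈ Ideal.span {π} :=
      mem_span_of_pow_mem π hrad t k (by rw [hk]; exact Ideal.zero_mem _)
    obtain ⟨t', rfl⟩ := Ideal.mem_span_singleton'.1 h1
    have ht' : t' ∈ T := by
      obtain ⟨n, hn⟩ := ht
      refine ⟨n + 1, ?_⟩
      rw [pow_succ, mul_assoc, mul_comm π t']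
      exact hn
    rw [mul_comm]
    exact Submodule.smul_mem_smul (Ideal.mem_span_singleton_self π) ht'
  obtain ⟨r, hr1, hr⟩ := Submodule.exists_sub_one_mem_and_smul_eq_zero_of_fg_of_le_smul
    (Ideal.span {π}) T (IsNoetherian.noetherian T) hTle
  obtain ⟨c, hc⟩ := Ideal.mem_span_singleton'.1 hr1
  have hbT : b ∈ T := ⟨1, by rw [pow_one]; exact hb⟩
  have h2 : r * b = 0 := hr b hbT
  have h3 : r = 1 + c * π := by rw [hc]; ring
  rw [h3, add_mul, one_mul, mul_assoc, hb, mul_zero, add_zero] at h2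
  exact h2




theorem isRegularLocalRing_stalk_Spec (R : Type u) [CommRing R] [IsDomain R] [IsDedekindDomain R]
    (p : Spec (CommRingCat.of R)) :
    IsRegularLocalRing ((Spec (CommRingCat.of R)).presheaf.stalk p) := by
  letI alg : Algebra R ((Spec (CommRingCat.of R)).presheaf.stalk p) :=
    StructureSheaf.stalkAlgebra R p
  haveI := p.isPrime
  haveI hloc : IsLocalization.AtPrime ((Spec (CommRingCat.of R)).presheaf.stalk p) p.asIdeal :=
    StructureSheaf.IsLocalization.to_stalk R p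
  haveI : IsRegularLocalRing (Localization.AtPrime p.asIdeal) := inferInstance
  exact IsRegularLocalRing.of_ringEquiv
    (IsLocalization.algEquiv p.asIdeal.primeCompl (Localization.AtPrime p.asIdeal)
      ((Spec (CommRingCat.of R)).presheaf.stalk p)).toRingEquiv

theorem topologicalKrullDim_Spec_le_one (R : Type u) [CommRing R] [IsDomain R]
    [IsDedekindDomain R] : topologicalKrullDim (Spec (CommRingCat.of R)) ≤ 1 := by
  have h1 : ringKrullDim R ≤ 1 := by
    have : Ring.KrullDimLE 1 R := inferInstance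
    exact Ring.krullDimLE_iff.1 this
  have h2 := PrimeSpectrum.topologicalKrullDim_eq_ringKrullDim R
  exact h2 ▸ h1

theorem flat_iff_weakAss_Spec {R : Type u} [CommRing R] [IsDomain R] [IsDedekindDomain R]
    {X : Scheme.{u}} (f : X ⟶ Spec (CommRingCat.of R)) :
    Flat f ↔ ∀ x : X, Curv2.IsWeakAssPoint (Coh.structureModule X) x →
      f.base x = genericPoint (Spec (CommRingCat.of R)) :=
  flat_iff_weakAss f (isRegularLocalRing_stalk_Spec R) (topologicalKrullDim_Spec_le_one R)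


variable {R : Type u} [CommRing R] [IsDomain R] [IsDiscreteValuationRing R]

theorem isNilpotent_of_isNilpotent_piV_mul {X : Scheme.{u}} (f : X ⟶ Spec (CommRingCat.of R))
    {ϖ : R} (hϖ : Irreducible ϖ)
    (hdense : Dense (f.base ⁻¹' {genericPoint (Spec (CommRingCat.of R))})) {V : X.Opens}
    (hV : IsAffineOpen V) (b : Γ(X, V)) (hb : IsNilpotent (piV f ϖ V * b)) : IsNilpotent b := by
  rw [Scheme.isNilpotent_iff_basicOpen_eq_bot_of_isCompact hV.isCompact]
  by_contra hne
  have hne' : (X.basicOpen b : Set X).Nonempty := by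
    rw [Set.nonempty_iff_ne_empty]
    intro h
    apply hne
    ext y
    simp only [Opens.coe_bot, Set.mem_empty_iff_false, iff_false]
    intro hy
    have : y ∈ (X.basicOpen b : Set X) := hy
    rw [h] at this
    exact this
  obtain ⟨y, hyb, hyη⟩ := hdense.inter_open_nonempty _ (X.basicOpen b).isOpen hne'
  have hyη' : f.base y = genericPoint (Spec (CommRingCat.of R)) := hyη
  rw [map_eq_genericPoint_iff f hϖ] at hyη'
  have hyV : y ∈ V := X.basicOpen_le b hyb
  have h1 : y ∈ X.basicOpen (piV f ϖ V * b) := by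
    rw [Scheme.basicOpen_mul, basicOpen_piV]
    exact ⟨⟨hyV, hyη'⟩, hyb⟩
  rw [show X.basicOpen (piV f ϖ V * b) = ⊥ from X.basicOpen_eq_bot_of_isNilpotent V _ hb] at h1
  exact h1

theorem flat_of_isReduced_fiber_of_dense {X : Scheme.{u}} (f : X ⟶ Spec (CommRingCat.of R))
    [IsLocallyNoetherian X] (hred : IsReduced (f.fiber (closedPoint R)))
    (hdense : Dense (f.base ⁻¹' {genericPoint (Spec (CommRingCat.of R))})) : Flat f := by
  obtain ⟨ϖ, hϖ⟩ := IsDiscreteValuationRing.exists_irreducible R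
  rw [flat_iff_weakAss_Spec]
  intro x hx
  by_contra hne
  obtain ⟨V, hV0, hxV, -⟩ := Opens.isBasis_iff_nbhd.1 (X.isBasis_affineOpens)
    (show x ∈ (⊤ : X.Opens) from trivial)
  have hV : IsAffineOpen V := hV0
  haveI : IsNoetherianRing Γ(X, V) := IsLocallyNoetherian.component_noetherian ⟨V, hV⟩
  obtain ⟨a, ha⟩ := (isWeakAssPoint_structureModule_iff hV x hxV).1 hx
  have hπP : piV f ϖ V ∈ (hV.primeIdealOf ⟨x, hxV⟩).asIdeal := by
    rw [mem_primeIdealOf_iff, germ_piV]
    intro hu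
    apply hne
    rw [map_eq_genericPoint_iff f hϖ]
    exact (Scheme.mem_basicOpen_top _ _ _).2 hu
  obtain ⟨c, hc1, hc2⟩ := Ideal.exists_mul_mem_of_mem_minimalPrimes ha hπP
  rw [WeakAss.mem_ann, smul_eq_mul] at hc1 hc2
  apply hc1
  apply eq_zero_of_mul_eq_zero_of_radical (piV f ϖ V)
    (fun b hb => mem_span_piV_of_sq_mem f hϖ hred hV b hb)
    (fun b hb => isNilpotent_of_isNilpotent_piV_mul f hϖ hdense hV b hb)
  rw [← mul_assoc]
  exact hc2

end Groth.Agent.Lib.Helper82.DVRFibre
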