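import Mathlib
import Groth.Agent.Lib.Helper82.DVRFibre
import Groth.Agent.Lib.QCoh.Helper18_IntegralSpec

/-!
# Connectedness of the generic fibre over a DVR (helper82)

`f : X ⟶ Spec R` flat, `R` a DVR, closed fibre reduced, `X` connected ⟹ generic fibre connected.
* `mem_range_of_isIdempotentElem` : idempotents of `B[1/π]` come from `B` (`π` regular, `(π)` radical).
* `exists_elem_of_disjoint_cover` : a disjoint open cover of `D(π)` in `Spec B` is cut out by `e`, `1 - e`.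
* `isPreconnected_basicOpen_tSec`, `connectedSpace_fiber_generic`.
-/

set_option linter.style.haveILetI false
set_option linter.unusedSectionVars false
universe u
open CategoryTheory AlgebraicGeometry TopologicalSpace Opposite IsLocalRing
open Groth.Agent.Lib.QCoh Groth.Agent.Lib.Helper82.FlatDedekind Groth.Agent.Lib.Helper18
open Groth.Agent.Lib.Helper82.DVRFibre

namespace Groth.Agent.Lib.Helper82.DVRConn

section algebra
open PrimeSpectrum



/-- An idempotent of `B[1/π]` comes from `B` when `π` is a nonzerodivisor and `(π)` is radical. -/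
theorem mem_range_of_isIdempotentElem {B S : Type*} [CommRing B] [CommRing S] [Algebra B S] (π : B)
    [IsLocalization.Away π S] (hreg : ∀ b : B, π * b = 0 → b = 0)
    (hrad : ∀ b : B, b ^ 2 ∈ Ideal.span {π} → b ∈ Ideal.span {π}) (ε : S)
    (hε : IsIdempotentElem ε) : ∃ e : B, algebraMap B S e = ε := by
  have hpow : ∀ (n : ℕ) (z : B), z * π ^ n = 0 → z = 0 := by
    intro n
    induction n with
    | zero => intro z hz; simpa using hz
    | succ n ih =>
      intro z hz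
      apply ih
      apply hreg
      rw [← hz, pow_succ]; ring
  have hinj : Function.Injective (algebraMap B S) := by
    apply IsLocalization.injective S (M := Submonoid.powers π)
    rintro x ⟨n, rfl⟩
    rw [mem_nonZeroDivisors_iff_right]
    intro z hz
    exact hpow n z hz
  have hunit : IsUnit (algebraMap B S π) := IsLocalization.Away.algebraMap_isUnit π
  have key : ∀ (n : ℕ) (b : B), ε * algebraMap B S π ^ n = algebraMap B S b →
      ∃ e : B, algebraMap B S e = ε := by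
    intro n
    induction n with
    | zero => intro b hb; exact ⟨b, by rw [← hb, pow_zero, mul_one]⟩
    | succ n ih =>
      intro b hb
      have h1 : algebraMap B S (b ^ 2) = algebraMap B S (b * π ^ (n + 1)) := by
        rw [map_pow, ← hb, map_mul, ← hb, map_pow]
        have : ε * ε = ε := hε
        calc (ε * algebraMap B S π ^ (n + 1)) ^ 2
            = (ε * ε) * algebraMap B S π ^ (n + 1) * algebraMap B S π ^ (n + 1) := by ring
          _ = ε * algebraMap B S π ^ (n + 1) * algebraMap B S π ^ (n + 1) := by rw [this]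
      have h2 : b ^ 2 = b * π ^ (n + 1) := hinj h1
      have h3 : b ∈ Ideal.span {π} := by
        apply hrad
        rw [h2, pow_succ, ← mul_assoc]
        exact Ideal.mul_mem_left _ _ (Ideal.mem_span_singleton_self π)
      obtain ⟨b', rfl⟩ := Ideal.mem_span_singleton'.1 h3
      apply ih b'
      apply hunit.mul_right_cancel
      rw [mul_assoc, ← pow_succ, hb, map_mul]
  obtain ⟨⟨b, ⟨_, n, rfl⟩⟩, hb⟩ := IsLocalization.surj (Submonoid.powers π) ε
  exact key n b (by simpa using hb)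


theorem exists_elem_of_disjoint_cover {B : Type*} [CommRing B] (π : B)
    (hreg : ∀ b : B, π * b = 0 → b = 0)
    (hrad : ∀ b : B, b ^ 2 ∈ Ideal.span {π} → b ∈ Ideal.span {π})
    (W1 W2 : Set (PrimeSpectrum B)) (h1 : IsOpen W1) (h2 : IsOpen W2) (hdisj : Disjoint W1 W2)
    (hcov : W1 ∪ W2 = (basicOpen π : Set (PrimeSpectrum B))) :
    ∃ e : B, (∀ P : PrimeSpectrum B, e ∉ P.asIdeal → π ∉ P.asIdeal → P ∈ W1) ∧
      (∀ P : PrimeSpectrum B, (1 - e) ∉ P.asIdeal → π ∉ P.asIdeal → P ∈ W2) := by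
  obtain ⟨S, _, _, _⟩ : ∃ (S : Type _) (_ : CommRing S) (_ : Algebra B S),
      IsLocalization.Away π S := ⟨Localization.Away π, inferInstance, inferInstance, inferInstance⟩
  have hc : Continuous (comap (algebraMap B S)) := continuous_comap (algebraMap B S)
  have hrange : Set.range (comap (algebraMap B S)) = (basicOpen π : Set (PrimeSpectrum B)) :=
    localization_away_comap_range S π
  obtain ⟨Z1, hZ1⟩ : ∃ Z1 : Set (PrimeSpectrum S), Z1 = comap (algebraMap B S) ⁻¹' W1 := ⟨_, rfl⟩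
  obtain ⟨Z2, hZ2⟩ : ∃ Z2 : Set (PrimeSpectrum S), Z2 = comap (algebraMap B S) ⁻¹' W2 := ⟨_, rfl⟩
  have hZ1o : IsOpen Z1 := hZ1 ▸ h1.preimage hc
  have hZ2o : IsOpen Z2 := hZ2 ▸ h2.preimage hc
  have hZcov : ∀ Q : PrimeSpectrum S, Q ∈ Z1 ∨ Q ∈ Z2 := by
    intro Q
    have : comap (algebraMap B S) Q ∈ W1 ∪ W2 := by
      rw [hcov, ← hrange]; exact ⟨Q, rfl⟩
    rcases this with h | h
    · left; rw [hZ1]; exact h
    · right; rw [hZ2]; exact h
  have hZdisj : ∀ Q : PrimeSpectrum S, Q ∈ Z1 → Q ∈ Z2 → False := by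
    intro Q hQ1 hQ2
    rw [hZ1] at hQ1; rw [hZ2] at hQ2
    exact Set.disjoint_left.1 hdisj hQ1 hQ2
  have hZ1c : IsClosed Z1 := by
    have : Z1 = Z2ᶜ := by
      ext Q
      constructor
      · intro h h'; exact hZdisj Q h h'
      · intro h; exact (hZcov Q).resolve_right h
    rw [this]; exact hZ2o.isClosed_compl
  obtain ⟨ε, hε, hZε⟩ := PrimeSpectrum.isClopen_iff.1 ⟨hZ1c, hZ1o⟩
  obtain ⟨e, he⟩ := mem_range_of_isIdempotentElem (S := S) π hreg hrad ε hε
  refine ⟨e, ?_, ?_⟩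
  · intro P heP hπP
    have hP : P ∈ Set.range (comap (algebraMap B S)) := by rw [hrange]; exact hπP
    obtain ⟨Q, rfl⟩ := hP
    have hQ : Q ∈ Z1 := by
      rw [hZε]
      change ε ∉ Q.asIdeal
      rw [← he]; exact heP
    rw [hZ1] at hQ; exact hQ
  · intro P heP hπP
    have hP : P ∈ Set.range (comap (algebraMap B S)) := by rw [hrange]; exact hπP
    obtain ⟨Q, rfl⟩ := hP
    have h1ε : (1 - ε) ∉ Q.asIdeal := by
      have : algebraMap B S (1 - e) = 1 - ε := by rw [map_sub, map_one, he]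
      rw [← this]; exact heP
    have hεQ : ε ∈ Q.asIdeal := by
      have h0 : ε * (1 - ε) ∈ Q.asIdeal := by
        have : ε * (1 - ε) = 0 := by rw [mul_sub, mul_one, hε.eq, sub_self]
        rw [this]; exact Q.asIdeal.zero_mem
      exact (Q.isPrime.mem_or_mem h0).resolve_right h1ε
    have hQ1 : Q ∉ Z1 := by
      rw [hZε]
      intro h
      exact h hεQ
    have hQ2 : Q ∈ Z2 := (hZcov Q).resolve_left hQ1
    rw [hZ2] at hQ2; exact hQ2


end algebra

variable {R : Type u} [CommRing R] [IsDomain R] [IsDiscreteValuationRing R]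

theorem piV_regular {X : Scheme.{u}} (f : X ⟶ Spec (CommRingCat.of R)) [Flat f] {ϖ : R}
    (hϖ : Irreducible ϖ) {V : X.Opens} (hV : IsAffineOpen V) (b : Γ(X, V))
    (hb : piV f ϖ V * b = 0) : b = 0 := by
  by_contra hb0
  obtain ⟨y, hyV, hyw, hgerm⟩ := exists_isWeakAssPoint_structureModule_of_ne_zero hV b hb0
  have hfy := map_eq_genericPoint_of_flat f y hyw
  rw [map_eq_genericPoint_iff f hϖ] at hfy
  have hu : IsUnit (X.presheaf.germ V y hyV (piV f ϖ V)) := by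
    rw [germ_piV]; exact (Scheme.mem_basicOpen_top _ _ _).1 hfy
  apply hgerm
  have h1 : X.presheaf.germ V y hyV (piV f ϖ V) * X.presheaf.germ V y hyV b = 0 := by
    rw [← map_mul, hb, map_zero]
  exact (hu.mul_right_eq_zero).1 h1

/-- every point has a generization in the generic fibre (flatness). -/
theorem exists_specializes_mem_basicOpen {X : Scheme.{u}} (f : X ⟶ Spec (CommRingCat.of R))
    [Flat f] {ϖ : R} (hϖ : Irreducible ϖ) (x : X) :
    ∃ y : X, y ⤳ x ∧ y ∈ X.basicOpen (tSec f ϖ) := by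
  obtain ⟨V, hV0, hxV, -⟩ := Opens.isBasis_iff_nbhd.1 (X.isBasis_affineOpens)
    (show x ∈ (⊤ : X.Opens) from trivial)
  have hV : IsAffineOpen V := hV0
  haveI := (hV.primeIdealOf ⟨x, hxV⟩).isPrime
  obtain ⟨p, hp, hple⟩ := Ideal.exists_minimalPrimes_le
    (show (⊥ : Ideal Γ(X, V)) ≤ (hV.primeIdealOf ⟨x, hxV⟩).asIdeal from bot_le)
  obtain ⟨Q, hQ⟩ : ∃ Q : PrimeSpectrum Γ(X, V), Q = ⟨p, hp.1.1⟩ := ⟨_, rfl⟩
  obtain ⟨y, hyV, hPy⟩ : ∃ (y : X) (hyV : y ∈ V), hV.primeIdealOf ⟨y, hyV⟩ = Q :=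
    ⟨hV.fromSpec Q, fromSpec_mem hV Q, primeIdealOf_fromSpec hV Q⟩
  refine ⟨y, ?_, ?_⟩
  · rw [specializes_iff_primeIdealOf_le hV hxV hyV, hPy, hQ]
    exact hple
  · rw [← map_eq_genericPoint_iff f hϖ]
    apply map_eq_genericPoint_of_flat f y
    apply isWeakAssPoint_structureModule_of_minimalPrimes hV y hyV
    rw [hPy, hQ]
    exact hp

theorem exists_section_of_disjoint_cover {X : Scheme.{u}} (f : X ⟶ Spec (CommRingCat.of R))
    [Flat f] {ϖ : R} (hϖ : Irreducible ϖ) (hred : IsReduced (f.fiber (closedPoint R)))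
    {V : X.Opens} (hV : IsAffineOpen V) (W1 W2 : X.Opens)
    (hdisj : Disjoint (W1 : Set X) (W2 : Set X))
    (hcov : (W1 : Set X) ∪ (W2 : Set X) = (X.basicOpen (tSec f ϖ) : Set X)) :
    ∃ e : Γ(X, V), X.basicOpen e ⊓ X.basicOpen (tSec f ϖ) ≤ W1 ∧
      X.basicOpen (1 - e) ⊓ X.basicOpen (tSec f ϖ) ≤ W2 := by
  have hpre : ∀ P : PrimeSpectrum Γ(X, V),
      (piV f ϖ V ∉ P.asIdeal ↔ hV.fromSpec P ∈ X.basicOpen (tSec f ϖ)) := by
    intro P
    have h1 : P ∈ (hV.fromSpec ⁻¹ᵁ X.basicOpen (piV f ϖ V)) ↔ piV f ϖ V ∉ P.asIdeal := by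
      rw [hV.fromSpec_preimage_basicOpen]; rfl
    rw [← h1]
    change hV.fromSpec P ∈ X.basicOpen (piV f ϖ V) ↔ _
    rw [basicOpen_piV]
    exact ⟨fun h => h.2, fun h => ⟨fromSpec_mem hV P, h⟩⟩
  obtain ⟨e, he1, he2⟩ := exists_elem_of_disjoint_cover (piV f ϖ V)
    (fun b hb => piV_regular f hϖ hV b hb)
    (fun b hb => mem_span_piV_of_sq_mem f hϖ hred hV b hb)
    (hV.fromSpec ⁻¹' (W1 : Set X)) (hV.fromSpec ⁻¹' (W2 : Set X))
    (W1.isOpen.preimage hV.fromSpec.continuous) (W2.isOpen.preimage hV.fromSpec.continuous)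
    (hdisj.preimage _)
    (by
      ext P
      change (hV.fromSpec P ∈ (W1 : Set X) ∨ hV.fromSpec P ∈ (W2 : Set X)) ↔
        piV f ϖ V ∉ P.asIdeal
      rw [hpre P]
      exact Set.ext_iff.1 hcov (hV.fromSpec P))
  have hmain : ∀ (g : Γ(X, V)) (W : X.Opens),
      (∀ P : PrimeSpectrum Γ(X, V), g ∉ P.asIdeal → piV f ϖ V ∉ P.asIdeal →
        P ∈ hV.fromSpec ⁻¹' (W : Set X)) → X.basicOpen g ⊓ X.basicOpen (tSec f ϖ) ≤ W := by
    intro g W hg x hx
    have hxV : x ∈ V := X.basicOpen_le g hx.1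
    have hfx : hV.fromSpec (hV.primeIdealOf ⟨x, hxV⟩) = x := hV.fromSpec_primeIdealOf ⟨x, hxV⟩
    have h1 : g ∉ (hV.primeIdealOf ⟨x, hxV⟩).asIdeal := by
      rw [mem_primeIdealOf_iff, not_not]
      exact (X.mem_basicOpen g x hxV).1 hx.1
    have h2 : piV f ϖ V ∉ (hV.primeIdealOf ⟨x, hxV⟩).asIdeal := by
      rw [hpre, hfx]; exact hx.2
    have := hg _ h1 h2
    change hV.fromSpec (hV.primeIdealOf ⟨x, hxV⟩) ∈ W at this
    rwa [hfx] at this
  exact ⟨e, hmain e W1 he1, hmain (1 - e) W2 he2⟩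


theorem isPreconnected_basicOpen_tSec {X : Scheme.{u}} (f : X ⟶ Spec (CommRingCat.of R))
    [Flat f] [PreconnectedSpace X] {ϖ : R} (hϖ : Irreducible ϖ)
    (hred : IsReduced (f.fiber (closedPoint R))) :
    _root_.IsPreconnected (X.basicOpen (tSec f ϖ) : Set X) := by
  intro u v hu hv hsub hsu hsv
  by_contra hempty
  rw [Set.not_nonempty_iff_eq_empty] at hempty
  obtain ⟨s, hs⟩ : ∃ s : X.Opens, s = X.basicOpen (tSec f ϖ) := ⟨_, rfl⟩
  rw [← hs] at hsub hsu hsv hempty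
  obtain ⟨W1, hW1⟩ : ∃ W1 : X.Opens, W1 = s ⊓ ⟨u, hu⟩ := ⟨_, rfl⟩
  obtain ⟨W2, hW2⟩ : ∃ W2 : X.Opens, W2 = s ⊓ ⟨v, hv⟩ := ⟨_, rfl⟩
  have hmemW1 : ∀ z : X, z ∈ W1 ↔ z ∈ s ∧ z ∈ u := fun z => by rw [hW1]; rfl
  have hmemW2 : ∀ z : X, z ∈ W2 ↔ z ∈ s ∧ z ∈ v := fun z => by rw [hW2]; rfl
  have hW12 : ∀ z : X, z ∈ W1 → z ∈ W2 → False := by
    intro z h1 h2
    rw [hmemW1] at h1; rw [hmemW2] at h2
    have : z ∈ (s : Set X) ∩ (u ∩ v) := ⟨h1.1, h1.2, h2.2⟩
    rw [hempty] at this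
    exact this
  have hdisj : Disjoint (W1 : Set X) (W2 : Set X) := by
    rw [Set.disjoint_left]
    intro z h1 h2
    exact hW12 z h1 h2
  have hcov : (W1 : Set X) ∪ (W2 : Set X) = (X.basicOpen (tSec f ϖ) : Set X) := by
    rw [← hs]
    ext z
    constructor
    · rintro (h | h)
      · exact ((hmemW1 z).1 h).1
      · exact ((hmemW2 z).1 h).1
    · intro hz
      rcases hsub hz with h | h
      · left; exact (hmemW1 z).2 ⟨hz, h⟩
      · right; exact (hmemW2 z).2 ⟨hz, h⟩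
  -- the two open sets
  obtain ⟨U1, hU1⟩ : ∃ U1 : Set X, U1 = {x | ∃ (V : X.Opens) (_ : IsAffineOpen V) (e : Γ(X, V)),
      x ∈ X.basicOpen e ∧ X.basicOpen e ⊓ s ≤ W1} := ⟨_, rfl⟩
  obtain ⟨U2, hU2⟩ : ∃ U2 : Set X, U2 = {x | ∃ (V : X.Opens) (_ : IsAffineOpen V) (e : Γ(X, V)),
      x ∈ X.basicOpen e ∧ X.basicOpen e ⊓ s ≤ W2} := ⟨_, rfl⟩
  have hU1o : IsOpen U1 := by
    rw [isOpen_iff_forall_mem_open]
    intro x hx
    rw [hU1] at hx
    obtain ⟨V, hV, e, hxe, hle⟩ := hx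
    refine ⟨X.basicOpen e, ?_, (X.basicOpen e).isOpen, hxe⟩
    intro z hz
    rw [hU1]
    exact ⟨V, hV, e, hz, hle⟩
  have hU2o : IsOpen U2 := by
    rw [isOpen_iff_forall_mem_open]
    intro x hx
    rw [hU2] at hx
    obtain ⟨V, hV, e, hxe, hle⟩ := hx
    refine ⟨X.basicOpen e, ?_, (X.basicOpen e).isOpen, hxe⟩
    intro z hz
    rw [hU2]
    exact ⟨V, hV, e, hz, hle⟩
  have hUcov : ∀ x : X, x ∈ U1 ∨ x ∈ U2 := by
    intro x
    obtain ⟨V, hV0, hxV, -⟩ := Opens.isBasis_iff_nbhd.1 (X.isBasis_affineOpens)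
      (show x ∈ (⊤ : X.Opens) from trivial)
    have hV : IsAffineOpen V := hV0
    obtain ⟨e, he1, he2⟩ := exists_section_of_disjoint_cover f hϖ hred hV W1 W2 hdisj hcov
    rw [← hs] at he1 he2
    have hsum : X.presheaf.germ V x hxV e + X.presheaf.germ V x hxV (1 - e) = 1 := by
      rw [← map_add, add_sub_cancel, map_one]
    rcases IsLocalRing.isUnit_or_isUnit_of_add_one hsum with h | h
    · left
      rw [hU1]
      exact ⟨V, hV, e, (X.mem_basicOpen e x hxV).2 h, he1⟩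
    · right
      rw [hU2]
      exact ⟨V, hV, 1 - e, (X.mem_basicOpen (1 - e) x hxV).2 h, he2⟩
  have hUdisj : ∀ x : X, x ∈ U1 → x ∈ U2 → False := by
    intro x h1 h2
    rw [hU1] at h1; rw [hU2] at h2
    obtain ⟨V, hV, e, hxe, hle⟩ := h1
    obtain ⟨V', hV', e', hxe', hle'⟩ := h2
    obtain ⟨y, hyx, hys⟩ := exists_specializes_mem_basicOpen f hϖ x
    rw [← hs] at hys
    have hy1 : y ∈ X.basicOpen e := hyx.mem_open (X.basicOpen e).isOpen hxe
    have hy2 : y ∈ X.basicOpen e' := hyx.mem_open (X.basicOpen e').isOpen hxe'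
    exact hW12 y (hle ⟨hy1, hys⟩) (hle' ⟨hy2, hys⟩)
  obtain ⟨x1, hx1s, hx1u⟩ := hsu
  obtain ⟨x2, hx2s, hx2v⟩ := hsv
  have hx1W : x1 ∈ W1 := (hmemW1 x1).2 ⟨hx1s, hx1u⟩
  have hx2W : x2 ∈ W2 := (hmemW2 x2).2 ⟨hx2s, hx2v⟩
  have hx1U : x1 ∈ U1 := by
    rcases hUcov x1 with h | h
    · exact h
    · exfalso
      rw [hU2] at h
      obtain ⟨V, hV, e, hxe, hle⟩ := h
      exact hW12 x1 hx1W (hle ⟨hxe, hx1s⟩)
  have hx2U : x2 ∈ U2 := by
    rcases hUcov x2 with h | h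
    · exfalso
      rw [hU1] at h
      obtain ⟨V, hV, e, hxe, hle⟩ := h
      exact hW12 x2 (hle ⟨hxe, hx2s⟩) hx2W
    · exact h
  obtain ⟨z, -, hz1, hz2⟩ := isPreconnected_univ (α := X) U1 U2 hU1o hU2o
    (fun x _ => hUcov x) ⟨x1, trivial, hx1U⟩ ⟨x2, trivial, hx2U⟩
  exact hUdisj z hz1 hz2


theorem connectedSpace_fiber_generic {X : Scheme.{u}} (f : X ⟶ Spec (CommRingCat.of R))
    [Flat f] [ConnectedSpace X] (hred : IsReduced (f.fiber (closedPoint R))) :
    ConnectedSpace ↑(f.fiber (⟨⊥, Ideal.isPrime_bot⟩ : PrimeSpectrum R)) := by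
  obtain ⟨ϖ, hϖ⟩ := IsDiscreteValuationRing.exists_irreducible R
  have hη : (⟨⊥, Ideal.isPrime_bot⟩ : PrimeSpectrum R) =
      genericPoint (Spec (CommRingCat.of R)) := by
    rw [genericPoint_eq_bot_of_affine]
    exact PrimeSpectrum.ext rfl
  have hset : f.base ⁻¹' {(⟨⊥, Ideal.isPrime_bot⟩ : PrimeSpectrum R)} =
      (X.basicOpen (tSec f ϖ) : Set X) := by
    ext x
    change f.base x = (⟨⊥, Ideal.isPrime_bot⟩ : PrimeSpectrum R) ↔ _
    rw [hη, map_eq_genericPoint_iff f hϖ]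
    rfl
  obtain ⟨x0⟩ : Nonempty X := inferInstance
  obtain ⟨y, -, hy⟩ := exists_specializes_mem_basicOpen f hϖ x0
  have hconn : _root_.IsConnected (f.base ⁻¹' {(⟨⊥, Ideal.isPrime_bot⟩ : PrimeSpectrum R)}) := by
    rw [hset]
    exact ⟨⟨y, hy⟩, isPreconnected_basicOpen_tSec f hϖ hred⟩
  haveI : ConnectedSpace (f.base ⁻¹' {(⟨⊥, Ideal.isPrime_bot⟩ : PrimeSpectrum R)}) :=
    isConnected_iff_connectedSpace.1 hconn
  exact (f.fiberHomeo _).symm.surjective.connectedSpace (f.fiberHomeo _).symm.continuous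

end Groth.Agent.Lib.Helper82.DVRConn
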