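import Mathlib
import Groth.Agent.Lib.Helper21.FieldDimStalk
import Groth.Agent.Lib.Helper21.FibreTd
import Groth.Agent.Lib.Helper51.SchemeResTrdeg
import Groth.Agent.Lib.Helper33.GorComp

/-!
# Fibre dimension of a composite (helper82)

* `dim_quot_le`, `dim_quot_eq`: for a local homomorphism `C → B` of local rings and an ideal
  `J ≤ m_C`: `dim B/JB ≤ dim C/J + dim B/m_C B`, with equality if `B` is `C`-flat.
* `fibreDimAt_eq_stalk_add_resTrdeg` (copy of helper31's lemma, fewer imports).
* `fibreDimAt_comp_le`, `fibreDimAt_comp_eq_of_flat`: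
  `dim_x X_s ≤ dim_x X_y + dim_y Y_s`, with equality if `O_{Y,y} → O_{X,x}` is flat.
-/

set_option linter.style.haveILetI false
set_option autoImplicit false
universe u
open IsLocalRing CategoryTheory AlgebraicGeometry

namespace Groth.Agent.Lib.Helper82.FibreDimComp
section
variable {C B : Type u} [CommRing C] [CommRing B] [IsLocalRing C] [IsLocalRing B]
  [Algebra C B] [IsLocalHom (algebraMap C B)]

theorem map_le_maximalIdeal (J : Ideal C) (hJ : J ≤ maximalIdeal C) :
    J.map (algebraMap C B) ≤ maximalIdeal B := by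
  rw [Ideal.map_le_iff_le_comap]
  intro x hx
  have := hJ hx
  rw [Ideal.mem_comap]
  rw [mem_maximalIdeal, mem_nonunits_iff] at this ⊢
  intro h
  exact this (isUnit_of_map_unit (algebraMap C B) x h)

theorem quot_isLocalRing (J : Ideal C) (hJ : J ≤ maximalIdeal C) : IsLocalRing (C ⧸ J) := by
  haveI : Nontrivial (C ⧸ J) := by
    rw [Ideal.Quotient.nontrivial_iff]
    intro h
    rw [h] at hJ
    exact (maximalIdeal.isMaximal C).ne_top (top_le_iff.mp hJ)
  exact IsLocalRing.of_surjective' (Ideal.Quotient.mk J) Ideal.Quotient.mk_surjective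

theorem maximalIdeal_quot (J : Ideal C) (hJ : J ≤ maximalIdeal C) :
    haveI := quot_isLocalRing J hJ
    maximalIdeal (C ⧸ J) = (maximalIdeal C).map (Ideal.Quotient.mk J) := by
  haveI := quot_isLocalRing J hJ
  symm
  apply IsLocalRing.eq_maximalIdeal
  apply Ideal.IsMaximal.map_of_surjective_of_ker_le Ideal.Quotient.mk_surjective
  · rw [Ideal.mk_ker]; exact hJ

/-- `dim B/JB ≤ dim C/J + dim B/m_C B`. -/
theorem dim_quot_le (J : Ideal C) (hJ : J ≤ maximalIdeal C)
    [IsNoetherianRing (C ⧸ J)] [IsNoetherianRing (B ⧸ J.map (algebraMap C B))] :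
    ringKrullDim (B ⧸ J.map (algebraMap C B)) ≤
      ringKrullDim (C ⧸ J) + ringKrullDim (B ⧸ (maximalIdeal C).map (algebraMap C B)) := by
  have hJB := map_le_maximalIdeal (B := B) J hJ
  haveI := quot_isLocalRing J hJ
  haveI := quot_isLocalRing (J.map (algebraMap C B)) hJB
  set R := C ⧸ J
  set S := B ⧸ J.map (algebraMap C B)
  have hloc : IsLocalHom (algebraMap R S) := by
    constructor
    intro a ha
    obtain ⟨c, rfl⟩ := Ideal.Quotient.mk_surjective a
    by_contra hc
    have hc' : c ∈ maximalIdeal C := by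
      rw [mem_maximalIdeal, mem_nonunits_iff]
      intro hu
      exact hc (hu.map (Ideal.Quotient.mk J))
    have hb : algebraMap C B c ∈ maximalIdeal B :=
      map_le_maximalIdeal (maximalIdeal C) le_rfl (Ideal.mem_map_of_mem _ hc')
    have : (Ideal.Quotient.mk (J.map (algebraMap C B))) (algebraMap C B c) ∈ maximalIdeal S := by
      rw [maximalIdeal_quot _ hJB]
      exact Ideal.mem_map_of_mem _ hb
    rw [mem_maximalIdeal, mem_nonunits_iff] at this
    exact this ha
  haveI : (maximalIdeal S).LiesOver (maximalIdeal R) := by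
    constructor
    rw [Ideal.under_def]
    exact (IsLocalRing.maximalIdeal_comap (algebraMap R S)).symm
  have key := Ideal.height_le_height_add_of_liesOver (maximalIdeal R) (maximalIdeal S)
  -- identify the third term
  set p := maximalIdeal R with hp
  have hpmap : p.map (algebraMap R S) =
      ((maximalIdeal C).map (algebraMap C B)).map (Ideal.Quotient.mk (J.map (algebraMap C B))) := by
    rw [hp, maximalIdeal_quot J hJ, Ideal.map_map, Ideal.map_map]
    congr 1
  have hle : J.map (algebraMap C B) ≤ (maximalIdeal C).map (algebraMap C B) := Ideal.map_mono hJ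
  let e : (S ⧸ p.map (algebraMap R S)) ≃+* (B ⧸ (maximalIdeal C).map (algebraMap C B)) :=
    (Ideal.quotEquivOfEq hpmap).trans (DoubleQuot.quotQuotEquivQuotOfLE hle)
  have hmC : (maximalIdeal C).map (algebraMap C B) ≤ maximalIdeal B :=
    map_le_maximalIdeal (maximalIdeal C) le_rfl
  have hpS : p.map (algebraMap R S) ≤ maximalIdeal S := IsLocalRing.map_maximalIdeal_le _
  haveI := quot_isLocalRing (p.map (algebraMap R S)) hpS
  have h3 : ((maximalIdeal S).map (Ideal.Quotient.mk (p.map (algebraMap R S)))).height =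
      ringKrullDim (B ⧸ (maximalIdeal C).map (algebraMap C B)) := by
    rw [← maximalIdeal_quot _ hpS, IsLocalRing.maximalIdeal_height_eq_ringKrullDim]
    exact ringKrullDim_eq_of_ringEquiv e
  rw [← IsLocalRing.maximalIdeal_height_eq_ringKrullDim (R := S),
    ← IsLocalRing.maximalIdeal_height_eq_ringKrullDim (R := R), ← h3]
  exact_mod_cast key

/-- `dim B/JB = dim C/J + dim B/m_C B` when `B` is flat over `C`. -/
theorem dim_quot_eq [Module.Flat C B] (J : Ideal C) (hJ : J ≤ maximalIdeal C)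
    [IsNoetherianRing (C ⧸ J)] [IsNoetherianRing (B ⧸ J.map (algebraMap C B))] :
    ringKrullDim (B ⧸ J.map (algebraMap C B)) =
      ringKrullDim (C ⧸ J) + ringKrullDim (B ⧸ (maximalIdeal C).map (algebraMap C B)) := by
  have hJB := map_le_maximalIdeal (B := B) J hJ
  haveI := quot_isLocalRing J hJ
  haveI := quot_isLocalRing (J.map (algebraMap C B)) hJB
  set R := C ⧸ J
  set S := B ⧸ J.map (algebraMap C B)
  have hloc : IsLocalHom (algebraMap R S) := by
    constructor
    intro a ha
    obtain ⟨c, rfl⟩ := Ideal.Quotient.mk_surjective a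
    by_contra hc
    have hc' : c ∈ maximalIdeal C := by
      rw [mem_maximalIdeal, mem_nonunits_iff]
      intro hu
      exact hc (hu.map (Ideal.Quotient.mk J))
    have hb : algebraMap C B c ∈ maximalIdeal B :=
      map_le_maximalIdeal (maximalIdeal C) le_rfl (Ideal.mem_map_of_mem _ hc')
    have : (Ideal.Quotient.mk (J.map (algebraMap C B))) (algebraMap C B c) ∈ maximalIdeal S := by
      rw [maximalIdeal_quot _ hJB]
      exact Ideal.mem_map_of_mem _ hb
    rw [mem_maximalIdeal, mem_nonunits_iff] at this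
    exact this ha
  haveI : (maximalIdeal S).LiesOver (maximalIdeal R) := by
    constructor
    rw [Ideal.under_def]
    exact (IsLocalRing.maximalIdeal_comap (algebraMap R S)).symm
  haveI : Module.Flat R S :=
    Module.Flat.of_linearEquiv
      (Algebra.TensorProduct.quotIdealMapEquivQuotTensor B J).toLinearEquiv
  have key := Ideal.height_eq_height_add_of_liesOver_of_hasGoingDown (maximalIdeal R)
    (maximalIdeal S)
  -- identify the third term
  set p := maximalIdeal R with hp
  have hpmap : p.map (algebraMap R S) =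
      ((maximalIdeal C).map (algebraMap C B)).map (Ideal.Quotient.mk (J.map (algebraMap C B))) := by
    rw [hp, maximalIdeal_quot J hJ, Ideal.map_map, Ideal.map_map]
    congr 1
  have hle : J.map (algebraMap C B) ≤ (maximalIdeal C).map (algebraMap C B) := Ideal.map_mono hJ
  let e : (S ⧸ p.map (algebraMap R S)) ≃+* (B ⧸ (maximalIdeal C).map (algebraMap C B)) :=
    (Ideal.quotEquivOfEq hpmap).trans (DoubleQuot.quotQuotEquivQuotOfLE hle)
  have hmC : (maximalIdeal C).map (algebraMap C B) ≤ maximalIdeal B :=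
    map_le_maximalIdeal (maximalIdeal C) le_rfl
  have hpS : p.map (algebraMap R S) ≤ maximalIdeal S := IsLocalRing.map_maximalIdeal_le _
  haveI := quot_isLocalRing (p.map (algebraMap R S)) hpS
  have h3 : ((maximalIdeal S).map (Ideal.Quotient.mk (p.map (algebraMap R S)))).height =
      ringKrullDim (B ⧸ (maximalIdeal C).map (algebraMap C B)) := by
    rw [← maximalIdeal_quot _ hpS, IsLocalRing.maximalIdeal_height_eq_ringKrullDim]
    exact ringKrullDim_eq_of_ringEquiv e
  rw [← IsLocalRing.maximalIdeal_height_eq_ringKrullDim (R := S),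
    ← IsLocalRing.maximalIdeal_height_eq_ringKrullDim (R := R), ← h3]
  exact_mod_cast key

end

section Scheme

open Groth.Agent.Lib.Helper21.FieldDim Groth.Agent.Lib.Helper73 Groth.Agent.Lib.Helper73.SchemeDim

/-- Scheme level: `dim_x X_{f x} = dim O_{X_{f x}, x} + trdeg κ(x)/κ(f x)` (helper31's lemma). -/
theorem fibreDimAt_eq_stalk_add_resTrdeg {U V : Scheme.{u}} (h : U ⟶ V) [LocallyOfFiniteType h]
    (u : U) :
    FlatMor.fibreDimAt h u =
      ringKrullDim ↥((h.fiber (h u)).presheaf.stalk (h.asFiber u)) +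
        ((Cardinal.toENat (Dual3.resTrdeg h u) : ℕ∞) : WithBot ℕ∞) := by
  have h1 : FlatMor.fibreDimAt h u = FlatMor.localDim (h.fiber (h u)) (h.asFiber u) := rfl
  rw [h1, localDim_eq_stalk_add_td (fibStr h (h u)) (h.asFiber u), td_fibStr,
    Scheme.Hom.fiberι_asFiber]
  have h2 : Dual3.resTrdeg h u = (tdR h u : Cardinal.{u}) := trdegAt_eq_tdR h u
  rw [h2, Cardinal.toENat_nat]
  rfl

instance isNoetherianRing_fibre_stalk {U V : Scheme.{u}} (h : U ⟶ V) [LocallyOfFiniteType h]
    (v : V) (z : h.fiber v) : IsNoetherianRing ((h.fiber v).presheaf.stalk z) := by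
  haveI : IsLocallyNoetherian (h.fiber v) :=
    LocallyOfFiniteType.isLocallyNoetherian (fibStr h v)
  infer_instance

end Scheme

open Groth.Agent.Lib.Helper33.GorComp Groth.Agent.Lib.Helper51.ResTrdeg

/-- ring-level package: given surjections onto the three fibre local rings. -/
theorem dim_le_of_projs {A C B F₁ F₂ F₃ : Type u} [CommRing A] [CommRing C] [CommRing B]
    [CommRing F₁] [CommRing F₂] [CommRing F₃]
    [IsLocalRing A] [IsLocalRing C] [IsLocalRing B]
    [IsNoetherianRing F₁] [IsNoetherianRing F₃]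
    (φ : A →+* C) (ψ : C →+* B) [IsLocalHom φ] [IsLocalHom ψ]
    (π₁ : B →+* F₁) (h₁ : Function.Surjective π₁)
    (k₁ : RingHom.ker π₁ = (maximalIdeal A).map (ψ.comp φ))
    (π₂ : B →+* F₂) (h₂ : Function.Surjective π₂)
    (k₂ : RingHom.ker π₂ = (maximalIdeal C).map ψ)
    (π₃ : C →+* F₃) (h₃ : Function.Surjective π₃)
    (k₃ : RingHom.ker π₃ = (maximalIdeal A).map φ) :
    ringKrullDim F₁ ≤ ringKrullDim F₃ + ringKrullDim F₂ ∧
      (ψ.Flat → ringKrullDim F₁ = ringKrullDim F₃ + ringKrullDim F₂) := by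
  letI : Algebra C B := ψ.toAlgebra
  haveI : IsLocalHom (algebraMap C B) := ‹IsLocalHom ψ›
  set J : Ideal C := (maximalIdeal A).map φ with hJ
  have hJle : J ≤ maximalIdeal C := IsLocalRing.map_maximalIdeal_le φ
  have hJB : J.map (algebraMap C B) = (maximalIdeal A).map (ψ.comp φ) := by
    rw [hJ, Ideal.map_map]; rfl
  let e₁ : F₁ ≃+* B ⧸ J.map (algebraMap C B) :=
    (RingHom.quotientKerEquivOfSurjective h₁).symm.trans (Ideal.quotEquivOfEq (k₁.trans hJB.symm))
  let e₂ : F₂ ≃+* B ⧸ (maximalIdeal C).map (algebraMap C B) :=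
    (RingHom.quotientKerEquivOfSurjective h₂).symm.trans (Ideal.quotEquivOfEq k₂)
  let e₃ : F₃ ≃+* C ⧸ J :=
    (RingHom.quotientKerEquivOfSurjective h₃).symm.trans (Ideal.quotEquivOfEq k₃)
  haveI : IsNoetherianRing (C ⧸ J) := isNoetherianRing_of_ringEquiv F₃ e₃
  haveI : IsNoetherianRing (B ⧸ J.map (algebraMap C B)) := isNoetherianRing_of_ringEquiv F₁ e₁
  rw [ringKrullDim_eq_of_ringEquiv e₁, ringKrullDim_eq_of_ringEquiv e₂,
    ringKrullDim_eq_of_ringEquiv e₃]
  refine ⟨dim_quot_le J hJle, fun hfl => ?_⟩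
  haveI : Module.Flat C B := hfl
  exact dim_quot_eq J hJle


/-- `dim_x X_s ≤ dim_x X_y + dim_y Y_s`, with equality if `f` is flat at `x`. -/
theorem fibreDimAt_comp {X Y S : Scheme.{u}} (f : X ⟶ Y) (g : Y ⟶ S) [LocallyOfFiniteType f]
    [LocallyOfFiniteType g] (x : X) :
    FlatMor.fibreDimAt (f ≫ g) x ≤ FlatMor.fibreDimAt f x + FlatMor.fibreDimAt g (f.base x) ∧
      ((f.stalkMap x).hom.Flat →
        FlatMor.fibreDimAt (f ≫ g) x = FlatMor.fibreDimAt f x + FlatMor.fibreDimAt g (f.base x)) := by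
  obtain ⟨π₁, h₁, k₁⟩ := exists_fibre_proj (f ≫ g) x
  obtain ⟨π₂, h₂, k₂⟩ := exists_fibre_proj f x
  obtain ⟨π₃, h₃, k₃⟩ := exists_fibre_proj g (f.base x)
  have k₁' : RingHom.ker π₁ = (maximalIdeal (S.presheaf.stalk (g.base (f.base x)))).map
      ((f.stalkMap x).hom.comp (g.stalkMap (f.base x)).hom) := by
    rw [k₁]
    congr 1
    rw [Scheme.Hom.stalkMap_comp]
    rfl
  have key := dim_le_of_projs (g.stalkMap (f.base x)).hom (f.stalkMap x).hom π₁ h₁ k₁' π₂ h₂ k₂
    π₃ h₃ k₃
  rw [fibreDimAt_eq_stalk_add_resTrdeg (f ≫ g) x, fibreDimAt_eq_stalk_add_resTrdeg f x,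
    fibreDimAt_eq_stalk_add_resTrdeg g (f.base x), resTrdeg_comp, map_add]
  set d₁ := ringKrullDim ↑((Scheme.Hom.fiber (f ≫ g) ((f ≫ g) x)).presheaf.stalk
    (Scheme.Hom.asFiber (f ≫ g) x)) with hd₁
  set d₂ := ringKrullDim ↑((Scheme.Hom.fiber f (f x)).presheaf.stalk (Scheme.Hom.asFiber f x))
  set d₃ := ringKrullDim ↑((Scheme.Hom.fiber g (g (f x))).presheaf.stalk
    (Scheme.Hom.asFiber g (f x)))
  set a : ℕ∞ := Cardinal.toENat (Dual3.resTrdeg g (f x))
  set b : ℕ∞ := Cardinal.toENat (Dual3.resTrdeg f x)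
  have hab : ((a + b : ℕ∞) : WithBot ℕ∞) = (a : WithBot ℕ∞) + (b : WithBot ℕ∞) := by
    push_cast; rfl
  have hre : d₂ + (b : WithBot ℕ∞) + (d₃ + (a : WithBot ℕ∞)) =
      (d₃ + d₂) + ((a : WithBot ℕ∞) + (b : WithBot ℕ∞)) := by
    abel
  rw [hab, hre]
  refine ⟨add_le_add key.1 le_rfl, fun hfl => ?_⟩
  rw [key.2 hfl]


end Groth.Agent.Lib.Helper82.FibreDimComp
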