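import Mathlib

/-!
# Acyclic bounded-below complexes of projectives are contractible; splitting of
short exact sequences of chain complexes with projective quotient and quasi-iso sub.

Library by helper82.
-/

open CategoryTheory Limits

namespace Groth.Agent.Lib.Helper82.FreeCx

universe v u

section Abelian
variable {C : Type u} [Category.{v} C] [Abelian C]

/-- An acyclic `ℕ`-indexed chain complex of projective objects is contractible. -/
noncomputable def contraction (Q : ChainComplex C ℕ) [∀ n, Projective (Q.X n)]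
    (hQ : Q.Acyclic) : Homotopy (𝟙 Q) 0 := by
  have ex0 : (ShortComplex.mk (Q.d 1 0) (Q.d 0 0) (Q.d_comp_d _ _ _)).Exact :=
    (Q.exactAt_iff' 1 0 0 (by simp) (by simp)).1 (hQ 0)
  have exS : ∀ n, (ShortComplex.mk (Q.d (n+2) (n+1)) (Q.d (n+1) n) (Q.d_comp_d _ _ _)).Exact :=
    fun n => (Q.exactAt_iff' (n+2) (n+1) n (by simp) (by simp)).1 (hQ (n+1))
  have h00 : (𝟙 (Q.X 0)) ≫ Q.d 0 0 = 0 := by
    rw [Q.shape 0 0 (by simp)]; simp
  let z : Q.X 0 ⟶ Q.X 1 := ex0.liftFromProjective (𝟙 (Q.X 0)) h00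
  have hz : z ≫ Q.d 1 0 = 𝟙 _ := ex0.liftFromProjective_comp _ h00
  have h11 : (𝟙 (Q.X 1) - Q.d 1 0 ≫ z) ≫ Q.d 1 0 = 0 := by
    rw [Preadditive.sub_comp, Category.assoc, hz]; simp
  let o : Q.X 1 ⟶ Q.X 2 := (exS 0).liftFromProjective _ h11
  have ho : o ≫ Q.d 2 1 = 𝟙 (Q.X 1) - Q.d 1 0 ≫ z := (exS 0).liftFromProjective_comp _ h11
  refine Homotopy.mkInductive _ z (by simp [hz]) o (by simp [ho]) ?_
  rintro n ⟨g, g', w⟩
  have hs : (𝟙 (Q.X (n+2)) - Q.d (n+2) (n+1) ≫ g') ≫ Q.d (n+2) (n+1) = 0 := by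
    dsimp at w
    have : g' ≫ Q.d (n+2) (n+1) = 𝟙 _ - Q.d (n+1) n ≫ g := by rw [w]; abel
    rw [Preadditive.sub_comp, Category.assoc, this]; simp
  exact ⟨(exS (n+1)).liftFromProjective _ hs, by
    have := (exS (n+1)).liftFromProjective_comp _ hs
    dsimp at this ⊢
    rw [this]; abel⟩


variable (S : ShortComplex (ChainComplex C ℕ)) (hS : S.ShortExact)
  [∀ n, Projective (S.X₃.X n)]

omit [∀ n, Projective (S.X₃.X n)] in
include hS in
lemma epi_g_f (n : ℕ) : Epi (S.g.f n) :=
  ((HomologicalComplex.shortExact_iff_degreewise_shortExact S).1 hS n).epi_g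

/-- Chain-level section of `S.g` when `S.X₃` is a contractible complex of projectives. -/
noncomputable def sectionOfContraction (Hσ : Homotopy (𝟙 S.X₃) 0) : S.X₃ ⟶ S.X₂ :=
  haveI := fun n => epi_g_f S hS n
  Homotopy.nullHomotopicMap (fun i j => Hσ.hom i j ≫ Projective.factorThru (𝟙 (S.X₃.X j)) (S.g.f j))

lemma sectionOfContraction_g (Hσ : Homotopy (𝟙 S.X₃) 0) :
    sectionOfContraction S hS Hσ ≫ S.g = 𝟙 _ := by
  have := fun n => epi_g_f S hS n
  rw [sectionOfContraction, Homotopy.nullHomotopicMap_comp]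
  ext i
  have := Hσ.comm i
  simp only [Category.assoc, Projective.factorThru_comp, Category.comp_id]
  simp only [Homotopy.nullHomotopicMap]
  simpa using this.symm

variable [QuasiIso S.f]

/-- The contraction of the (acyclic, projective) quotient complex. -/
noncomputable def contractionX₃ : Homotopy (𝟙 S.X₃) 0 :=
  contraction S.X₃ (hS.acyclic_X₃ inferInstance)

/-- A chain-level section of `S.g`. -/
noncomputable def sec : S.X₃ ⟶ S.X₂ := sectionOfContraction S hS (contractionX₃ S hS)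

@[reassoc (attr := simp)]
lemma sec_g : sec S hS ≫ S.g = 𝟙 _ := sectionOfContraction_g S hS _

/-- A chain-level retraction of `S.f`. -/
noncomputable def retr : S.X₂ ⟶ S.X₁ :=
  haveI := hS.mono_f
  hS.exact.lift (𝟙 S.X₂ - S.g ≫ sec S hS) (by simp)

@[reassoc (attr := simp)]
lemma retr_f : retr S hS ≫ S.f = 𝟙 S.X₂ - S.g ≫ sec S hS := by
  have := hS.mono_f
  exact hS.exact.lift_f _ _

@[reassoc (attr := simp)]
lemma f_retr : S.f ≫ retr S hS = 𝟙 _ := by
  have := hS.mono_f
  rw [← cancel_mono S.f, Category.assoc, retr_f]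
  simp

include hS in
/-- Two retractions of `S.f` are homotopic by a homotopy vanishing on the image of `S.f`. -/
lemma exists_homotopy_retractions (g₁ g₂ : S.X₂ ⟶ S.X₁) (h₁ : S.f ≫ g₁ = 𝟙 _)
    (h₂ : S.f ≫ g₂ = 𝟙 _) :
    ∃ H : Homotopy g₁ g₂, ∀ i j : ℕ, S.f.f i ≫ H.hom i j = 0 := by
  have := hS.epi_g
  let δ : S.X₃ ⟶ S.X₁ := hS.exact.desc (g₁ - g₂) (by simp [h₁, h₂])
  have hδ : S.g ≫ δ = g₁ - g₂ := hS.exact.g_desc _ _
  let H0 : Homotopy (g₁ - g₂) 0 :=
    (Homotopy.ofEq (by rw [← hδ]; simp)).trans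
      ((((contractionX₃ S hS).compRight δ).compLeft S.g).trans (Homotopy.ofEq (by simp)))
  refine ⟨Homotopy.equivSubZero.symm H0, fun i j => ?_⟩
  have hz : S.f.f i ≫ S.g.f i = 0 := by
    rw [← HomologicalComplex.comp_f, S.zero]; rfl
  change S.f.f i ≫ H0.hom i j = 0
  simp [H0, reassoc_of% hz]

end Abelian

section ModuleCat
variable {R : Type u} [Ring R]

/-- A short exact sequence of chain complexes of modules from degreewise data. -/
lemma shortExact_of_degreewise {A' A A'' : ChainComplex (ModuleCat.{v} R) ℕ} (f : A' ⟶ A)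
    (p : A ⟶ A'') (w : f ≫ p = 0)
    (hf : ∀ q, Function.Injective (f.f q).hom) (hp : ∀ q, Function.Surjective (p.f q).hom)
    (hfp : ∀ q, Function.Exact (f.f q).hom (p.f q).hom) :
    (ShortComplex.mk f p w).ShortExact := by
  apply HomologicalComplex.shortExact_of_degreewise_shortExact
  intro q
  exact ModuleCat.shortComplex_shortExact _ (hfp q) (hf q) (hp q)

lemma comp_eq_zero_of_exact {A' A A'' : ChainComplex (ModuleCat.{v} R) ℕ} (f : A' ⟶ A)
    (p : A ⟶ A'') (hfp : ∀ q, Function.Exact (f.f q).hom (p.f q).hom) : f ≫ p = 0 := by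
  ext q x
  exact (hfp q).apply_apply_eq_zero x

lemma shortExact_cokernel {A' A : ChainComplex (ModuleCat.{v} R) ℕ} (f : A' ⟶ A)
    (hf : ∀ q, Function.Injective (f.f q).hom) :
    (ShortComplex.mk f (cokernel.π f) (cokernel.condition f)).ShortExact := by
  have : ∀ q, Mono (f.f q) := fun q => (ModuleCat.mono_iff_injective _).2 (hf q)
  have : Mono f := HomologicalComplex.mono_of_mono_f _ inferInstance
  exact { exact := ShortComplex.exact_cokernel f }

/-- Degreewise, the categorical cokernel of a chain map is the quotient by the range. -/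
noncomputable def cokernelXEquiv {A' A : ChainComplex (ModuleCat.{v} R) ℕ} (f : A' ⟶ A)
    (hf : ∀ q, Function.Injective (f.f q).hom) (q : ℕ) :
    ((A.X q) ⧸ LinearMap.range (f.f q).hom) ≃ₗ[R] ((cokernel f).X q) :=
  have hq := (HomologicalComplex.shortExact_iff_degreewise_shortExact _).1
    (shortExact_cokernel f hf) q
  (Submodule.quotEquivOfEq _ _ hq.exact.moduleCat_range_eq_ker).trans
    (LinearMap.quotKerEquivOfSurjective ((cokernel.π f).f q).hom hq.moduleCat_surjective_g)

lemma projective_of_module_projective [Small.{v} R] (M : ModuleCat.{v} R)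
    [Module.Projective R M] : Projective M :=
  (IsProjective.iff_projective M).1 inferInstance

lemma free_int_irrel {M : Type*} [AddCommGroup M] (m₁ m₂ : Module ℤ M)
    (h : @Module.Free ℤ M _ _ m₁) : @Module.Free ℤ M _ _ m₂ := by
  have : m₁ = m₂ := Subsingleton.elim _ _
  subst this; exact h

lemma free_cokernel_X {A' A : ChainComplex (ModuleCat.{v} ℤ) ℕ} (f : A' ⟶ A)
    (hf : ∀ q, Function.Injective (f.f q).hom) (q : ℕ)
    (m : Module ℤ ((A.X q) ⧸ LinearMap.range (f.f q).hom))
    (h : @Module.Free ℤ ((A.X q) ⧸ LinearMap.range (f.f q).hom) _ _ m) :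
    Module.Free ℤ ((cokernel f).X q) := by
  have h' : @Module.Free ℤ ((A.X q) ⧸ LinearMap.range (f.f q).hom) _ _
      (Submodule.Quotient.module _) := free_int_irrel m _ h
  clear h
  clear m
  exact @Module.Free.of_equiv ℤ ℤ _ _ _ _ (Submodule.Quotient.module _) _ _ _ _ _ _ _
    (cokernelXEquiv f hf q) h'

end ModuleCat

end Groth.Agent.Lib.Helper82.FreeCx
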