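import Mathlib
import Groth.Agent.Lib.Helper73.ChevalleyGen

/-!
# Generic fibre points specializing to a point closed in its fibre: algebraic core (helper82)

* `exists_eq_C_mul`: content scaling of multivariate polynomials over a valuation ring.
* `trdeg_quotient_le`: residue transcendence degree over a valuation ring `≤` generic one.
* `exists_param`, `quasiFiniteAt_poly`: a parameter `t` making `V[t] → B` quasi-finite at `q'`.
* `exists_prime_of_quasiFiniteAt`: ZMT + going-down over an integrally closed domain.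
* `core`: a nonzero prime `ξ ≤ q'` of `B` over `0` of the valuation ring `V`, avoiding `g`.
-/

set_option linter.style.haveILetI false
set_option linter.unusedSectionVars false
set_option autoImplicit false
universe u
open IsLocalRing Polynomial

namespace Groth.Agent.Lib.Helper82.GenFibre

open Groth.Agent.Lib.Helper73.DimFormula

section Content
variable {V : Type u} [CommRing V] [IsDomain V] [ValuationRing V]

/-- in a valuation ring, a nonempty finite set has an element dividing all the others. -/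
theorem exists_dvd_all (s : Finset V) (hs : s.Nonempty) : ∃ c ∈ s, ∀ a ∈ s, c ∣ a := by
  classical
  induction hs using Finset.Nonempty.cons_induction with
  | singleton a => exact ⟨a, by simp, by simp⟩
  | cons a s ha hs ih =>
    obtain ⟨c, hc, hdiv⟩ := ih
    rcases ValuationRing.dvd_total a c with h | h
    · refine ⟨a, by simp, ?_⟩
      intro b hb
      rw [Finset.mem_cons] at hb
      rcases hb with rfl | hb
      · exact dvd_rfl
      · exact h.trans (hdiv b hb)
    · refine ⟨c, by simp [hc], ?_⟩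
      intro b hb
      rw [Finset.mem_cons] at hb
      rcases hb with rfl | hb
      · exact h
      · exact hdiv b hb

/-- content scaling for multivariate polynomials over a valuation ring. -/
theorem exists_eq_C_mul {σ : Type*} (Φ : MvPolynomial σ V) (hΦ : Φ ≠ 0) :
    ∃ (c : V) (Φ' : MvPolynomial σ V), c ≠ 0 ∧ Φ = MvPolynomial.C c * Φ' ∧
      ∃ m, MvPolynomial.coeff m Φ' = 1 := by
  classical
  have hsupp : Φ.support.Nonempty := by
    rw [Finset.nonempty_iff_ne_empty, Ne, MvPolynomial.support_eq_empty]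
    exact hΦ
  obtain ⟨c, hc, hdiv⟩ := exists_dvd_all (Φ.support.image (fun m => MvPolynomial.coeff m Φ))
    (hsupp.image _)
  obtain ⟨m₀, hm₀, rfl⟩ := Finset.mem_image.mp hc
  have hc0 : MvPolynomial.coeff m₀ Φ ≠ 0 := MvPolynomial.mem_support_iff.mp hm₀
  have hdiv' : ∀ m, MvPolynomial.coeff m₀ Φ ∣ MvPolynomial.coeff m Φ := by
    intro m
    by_cases hm : m ∈ Φ.support
    · exact hdiv _ (Finset.mem_image_of_mem _ hm)
    · rw [MvPolynomial.notMem_support_iff.mp hm]
      exact dvd_zero _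
  choose q hq using hdiv'
  have hq0 : ∀ m, m ∉ Φ.support → q m = 0 := by
    intro m hm
    have h1 := hq m
    rw [MvPolynomial.notMem_support_iff.mp hm] at h1
    exact (mul_eq_zero.mp h1.symm).resolve_left hc0
  set Φ' : MvPolynomial σ V := ∑ m ∈ Φ.support, MvPolynomial.monomial m (q m) with hΦ'
  have hcoeff : ∀ m, MvPolynomial.coeff m Φ' = q m := by
    intro m
    rw [hΦ', MvPolynomial.coeff_sum]
    simp only [MvPolynomial.coeff_monomial]
    rw [Finset.sum_ite_eq']
    split_ifs with h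
    · rfl
    · exact (hq0 m h).symm
  refine ⟨MvPolynomial.coeff m₀ Φ, Φ', hc0, ?_, m₀, ?_⟩
  · ext m
    rw [MvPolynomial.coeff_C_mul, hcoeff, ← hq m]
  · rw [hcoeff]
    have h1 := hq m₀
    have : MvPolynomial.coeff m₀ Φ * 1 = MvPolynomial.coeff m₀ Φ * q m₀ := by rw [mul_one]; exact h1
    exact (mul_left_cancel₀ hc0 this).symm

end Content


section Abhyankar
variable {V B : Type u} [CommRing V] [IsDomain V] [ValuationRing V] [CommRing B] [IsDomain B]
  [Algebra V B]

/-- residue transcendence degree over a valuation ring is at most the generic one. -/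
theorem trdeg_quotient_le (hinj : Function.Injective (algebraMap V B)) (c : Ideal B) [c.IsPrime]
    [c.LiesOver (maximalIdeal V)] :
    Algebra.trdeg (V ⧸ maximalIdeal V) (B ⧸ c) ≤ Algebra.trdeg V B := by
  obtain ⟨s, hs⟩ := exists_isTranscendenceBasis (V ⧸ maximalIdeal V) (B ⧸ c)
  choose lift hlift using (Ideal.Quotient.mk_surjective (I := c))
  let y : s → B := fun i => lift i.1
  have hcomp : (Ideal.Quotient.mkₐ V c) ∘ y = ((↑) : s → B ⧸ c) := by
    funext i
    exact hlift i.1
  have hy : AlgebraicIndependent V y := by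
    rw [algebraicIndependent_iff]
    intro Φ hΦ
    by_contra hne
    obtain ⟨c₀, Φ', hc₀, hΦΦ', m₀, hm₀⟩ := exists_eq_C_mul Φ hne
    have h0 : MvPolynomial.aeval y Φ' = 0 := by
      rw [hΦΦ', map_mul, MvPolynomial.aeval_C] at hΦ
      rcases mul_eq_zero.mp hΦ with h | h
      · exact absurd ((map_eq_zero_iff _ hinj).mp h) hc₀
      · exact h
    have h1 : MvPolynomial.aeval ((↑) : s → B ⧸ c)
        (MvPolynomial.map (algebraMap V (V ⧸ maximalIdeal V)) Φ') = 0 := by
      rw [MvPolynomial.aeval_map_algebraMap, ← hcomp]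
      have := (MvPolynomial.comp_aeval_apply (f := y) (Ideal.Quotient.mkₐ V c) Φ')
      change (MvPolynomial.aeval fun i => (Ideal.Quotient.mkₐ V c) (y i)) Φ' = 0
      rw [← this, h0, map_zero]
    have h2 := hs.1
    rw [algebraicIndependent_iff] at h2
    have h3 := h2 _ h1
    have h4 : MvPolynomial.coeff m₀ (MvPolynomial.map (algebraMap V (V ⧸ maximalIdeal V)) Φ') = 1 := by
      rw [MvPolynomial.coeff_map, hm₀, map_one]
    rw [h3, MvPolynomial.coeff_zero] at h4
    exact zero_ne_one h4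
  have h1 := hy.cardinalMk_le_trdeg
  have h2 := hs.cardinalMk_eq_trdeg
  rw [← h2]
  exact h1

end Abhyankar


section Core
variable {V B : Type u} [CommRing V] [IsDomain V] [ValuationRing V] [CommRing B] [IsDomain B]
  [Algebra V B] [Algebra.FiniteType V B]

/-- choice of the parameter `t`. -/
theorem exists_param (hinj : Function.Injective (algebraMap V B)) (hV : ¬ IsField V)
    (q' : Ideal B) [q'.IsPrime] [q'.LiesOver (maximalIdeal V)]
    (htr : ∃ τ : B, Transcendental V τ) :
    ∃ t : B, t ∈ q' ∧ Transcendental V t ∧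
      ∀ Q : (maximalIdeal V).primesOver B, IsMin Q → Q.1 ≤ q' → Q.1 ≠ q' → t ∉ Q.1 := by
  classical
  have hfin := finite_isMin_primesOver (B := B) (maximalIdeal V)
  -- q' ≠ ⊥
  obtain ⟨π, hπm, hπ0⟩ : ∃ π : V, π ∈ maximalIdeal V ∧ π ≠ 0 := by
    by_contra hcon
    push_neg at hcon
    apply hV
    rw [IsLocalRing.isField_iff_maximalIdeal_eq]
    exact (Submodule.eq_bot_iff _).mpr hcon
  have hπq : algebraMap V B π ∈ q' := by
    have : π ∈ q'.under V := by
      rw [← Ideal.LiesOver.over (p := maximalIdeal V) (P := q')]; exact hπm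
    exact this
  have hπB : algebraMap V B π ≠ 0 := fun h => hπ0 ((map_eq_zero_iff _ hinj).mp h)
  -- the family of primes to avoid
  let S : Finset (Ideal B) :=
    ((hfin.toFinset.image (fun Q => Q.1)).filter (fun c => c ≤ q')).erase q' ∪ {⊥}
  have hprime : ∀ i ∈ S, i.IsPrime := by
    intro i hi
    rw [Finset.mem_union] at hi
    rcases hi with hi | hi
    · obtain ⟨Q, -, rfl⟩ := Finset.mem_image.mp
        (Finset.mem_filter.mp (Finset.mem_of_mem_erase hi)).1
      exact Q.2.1
    · rw [Finset.mem_singleton] at hi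
      rw [hi]; exact Ideal.isPrime_bot
  have hnot : ¬ ((q' : Set B) ⊆ ⋃ i ∈ (S : Set (Ideal B)), (i : Set B)) := by
    rw [Ideal.subset_union_prime (f := fun i : Ideal B => i) ⊥ ⊥ (fun i hi _ _ => hprime i hi)]
    rintro ⟨i, hi, hle⟩
    rw [Finset.mem_union] at hi
    rcases hi with hi | hi
    · have hne := Finset.ne_of_mem_erase hi
      obtain ⟨Q, hQ, rfl⟩ := Finset.mem_image.mp
        (Finset.mem_filter.mp (Finset.mem_of_mem_erase hi)).1
      have hQmin : IsMin Q := by simpa using hQ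
      let Q' : (maximalIdeal V).primesOver B := ⟨q', ‹_›, ‹_›⟩
      have h1 : Q' ≤ Q := hle
      have h2 : Q ≤ Q' := hQmin h1
      exact hne (le_antisymm h2 hle)
    · rw [Finset.mem_singleton] at hi
      rw [hi] at hle
      exact hπB ((Ideal.mem_bot).mp (hle hπq))
  rw [Set.not_subset] at hnot
  obtain ⟨t₀, ht₀q, ht₀⟩ := hnot
  simp only [Set.mem_iUnion, not_exists] at ht₀
  have ht₀S : ∀ i ∈ S, t₀ ∉ i := fun i hi h => ht₀ i hi h
  have ht₀0 : t₀ ≠ 0 := by
    intro h
    exact ht₀S ⊥ (by simp [S]) (by rw [h]; exact Ideal.zero_mem _)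
  obtain ⟨τ, hτ⟩ := htr
  -- a transcendental element outside q'
  obtain ⟨τ', hτ', hτ'q⟩ : ∃ τ' : B, Transcendental V τ' ∧ τ' ∉ q' := by
    by_cases h : τ ∈ q'
    · refine ⟨1 + τ, ?_, ?_⟩
      · intro halg
        apply hτ
        have : τ = (1 + τ) - 1 := by ring
        rw [this]
        exact halg.sub isAlgebraic_one
      · intro h1
        have : (1 : B) ∈ q' := by
          have := q'.sub_mem h1 h
          simpa using this
        exact (Ideal.IsPrime.ne_top ‹_›) ((Ideal.eq_top_iff_one _).mpr this)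
    · exact ⟨τ, hτ, h⟩
  have hmem : ∀ t : B, (∀ i ∈ S, t ∉ i) →
      ∀ Q : (maximalIdeal V).primesOver B, IsMin Q → Q.1 ≤ q' → Q.1 ≠ q' → t ∉ Q.1 := by
    intro t ht Q hQ hle hne
    apply ht
    rw [Finset.mem_union]
    left
    rw [Finset.mem_erase, Finset.mem_filter]
    refine ⟨hne, Finset.mem_image.mpr ⟨Q, by simpa using hQ, rfl⟩, hle⟩
  by_cases htt : Transcendental V t₀
  · exact ⟨t₀, ht₀q, htt, hmem t₀ ht₀S⟩
  · have halg : IsAlgebraic V t₀ := by
      unfold Transcendental at htt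
      push_neg at htt
      exact htt
    refine ⟨t₀ * τ', q'.mul_mem_right _ ht₀q, ?_, hmem _ ?_⟩
    · intro h
      exact hτ' (IsAlgebraic.of_mul (mem_nonZeroDivisors_of_ne_zero ht₀0) halg h)
    · intro i hi h
      have hip := hprime i hi
      rcases hip.mem_or_mem h with h1 | h1
      · exact ht₀S i hi h1
      · rw [Finset.mem_union] at hi
        rcases hi with hi | hi
        · have hle := (Finset.mem_filter.mp (Finset.mem_of_mem_erase hi)).2
          exact hτ'q (hle h1)
        · rw [Finset.mem_singleton] at hi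
          rw [hi, Ideal.mem_bot] at h1
          exact hτ' (h1 ▸ isAlgebraic_zero)

end Core


section Core2
variable {V B : Type u} [CommRing V] [IsDomain V] [ValuationRing V] [CommRing B] [IsDomain B]
  [Algebra V B] [Algebra.FiniteType V B]

theorem quasiFiniteAt_poly [Algebra V[X] B] [IsScalarTower V V[X] B]
    (hinj : Function.Injective (algebraMap V B))
    (q' : Ideal B) [q'.IsPrime] [q'.LiesOver (maximalIdeal V)]
    (hq'alg : Algebra.trdeg (V ⧸ maximalIdeal V) (B ⧸ q') = 0)
    (htd : Algebra.trdeg V B ≤ 1)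
    (htq : algebraMap V[X] B X ∈ q')
    (ht : ∀ Q : (maximalIdeal V).primesOver B, IsMin Q → Q.1 ≤ q' → Q.1 ≠ q' →
      algebraMap V[X] B X ∉ Q.1) :
    Algebra.QuasiFiniteAt V[X] q' := by
  haveI : Algebra.FiniteType V[X] B := Algebra.FiniteType.of_restrictScalars_finiteType V V[X] B
  apply quasiFiniteAt_of_forall_trdeg_eq_zero' (A := V[X]) q'
  intro 𝔯 h𝔯 hle hlies
  set o' := q'.under V[X] with ho'
  haveI : o'.IsPrime := Ideal.IsPrime.under V[X] q'
  haveI ho'm : o'.LiesOver (maximalIdeal V) := by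
    constructor
    rw [ho', Ideal.under_under]
    exact Ideal.LiesOver.over (p := maximalIdeal V) (P := q')
  haveI h𝔯m : 𝔯.LiesOver (maximalIdeal V) := Ideal.LiesOver.trans 𝔯 o' (maximalIdeal V)
  have ht𝔯 : algebraMap V[X] B X ∈ 𝔯 := by
    have h1 : (X : V[X]) ∈ o' := htq
    rw [Ideal.LiesOver.over (p := o') (P := 𝔯)] at h1
    exact h1
  have key : Algebra.trdeg (V ⧸ maximalIdeal V) (B ⧸ 𝔯) = 0 := by
    let R : (maximalIdeal V).primesOver B := ⟨𝔯, h𝔯, h𝔯m⟩
    obtain ⟨Q₀, hQ₀min, hQ₀le⟩ := exists_isMin_primesOver_le (maximalIdeal V) R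
    have hQ₀le' : Q₀.1 ≤ 𝔯 := hQ₀le
    by_cases hQq : Q₀.1 = q'
    · have : 𝔯 = q' := le_antisymm hle (hQq ▸ hQ₀le')
      subst this
      exact hq'alg
    · have htQ := ht Q₀ hQ₀min (hQ₀le'.trans hle) hQq
      have hlt : Q₀.1 < 𝔯 := lt_of_le_of_ne hQ₀le' (fun h => htQ (h ▸ ht𝔯))
      haveI : Q₀.1.IsPrime := Q₀.2.1
      haveI : Q₀.1.LiesOver (maximalIdeal V) := Q₀.2.2
      have h1 := trdeg_quotient_add_one_le_of_lt' Q₀.1 𝔯 hlt (maximalIdeal V)
      have h2 := trdeg_quotient_le hinj Q₀.1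
      have h3 : Algebra.trdeg (V ⧸ maximalIdeal V) (B ⧸ 𝔯) + 1 ≤ 1 := h1.trans (h2.trans htd)
      by_contra hne
      have h4 : 1 ≤ Algebra.trdeg (V ⧸ maximalIdeal V) (B ⧸ 𝔯) := Cardinal.one_le_iff_ne_zero.mpr hne
      have h5 : (1 : Cardinal) + 1 ≤ 1 := (add_le_add_left h4 1).trans h3
      have h6 : (2 : Cardinal) ≤ 1 := by rwa [one_add_one_eq_two] at h5
      exact absurd h6 (by norm_num)
  have htower := trdeg_quotient_tower (maximalIdeal V) o' 𝔯
  rw [key] at htower
  exact (add_eq_zero.mp htower).2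

end Core2


section ZMT
variable {P B : Type u} [CommRing P] [IsDomain P] [IsIntegrallyClosed P] [CommRing B] [IsDomain B]
  [Algebra P B] [Algebra.FiniteType P B]

/-- nonzero constant term of a monic annihilator of minimal degree. -/
theorem exists_const_mem {D : Type u} [CommRing D] [IsDomain D] [Algebra P D] (x : D) (hx : x ≠ 0)
    (hint : IsIntegral P x) : ∃ N : P, N ≠ 0 ∧ ∃ y : D, algebraMap P D N = x * y := by
  refine ⟨(minpoly P x).coeff 0, ?_, ?_⟩
  · intro h0
    have hdvd : (X : P[X]) ∣ minpoly P x := Polynomial.X_dvd_iff.mpr h0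
    obtain ⟨G, hG⟩ := hdvd
    have hmonic : G.Monic := by
      have := minpoly.monic hint
      rw [hG] at this
      exact Polynomial.Monic.of_mul_monic_left monic_X this
    have haeval : Polynomial.aeval x G = 0 := by
      have := minpoly.aeval P x
      rw [hG, map_mul, aeval_X] at this
      exact (mul_eq_zero.mp this).resolve_left hx
    have h1 := minpoly.min P x hmonic haeval
    rw [hG, Polynomial.degree_mul, Polynomial.degree_X] at h1
    have hG0 : G ≠ 0 := hmonic.ne_zero
    rw [Polynomial.degree_eq_natDegree hG0] at h1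
    have : ((1 : ℕ) : WithBot ℕ) + (G.natDegree : WithBot ℕ) ≤ (G.natDegree : WithBot ℕ) := by
      exact_mod_cast h1
    have h2 : (1 + G.natDegree : ℕ) ≤ G.natDegree := by exact_mod_cast this
    omega
  · obtain ⟨G, hG⟩ := Polynomial.X_dvd_sub_C (p := minpoly P x)
    refine ⟨-(Polynomial.aeval x G), ?_⟩
    have h1 : Polynomial.aeval x (minpoly P x) - Polynomial.aeval x (C ((minpoly P x).coeff 0)) =
        Polynomial.aeval x (X * G) := by rw [← map_sub, hG]
    rw [minpoly.aeval, aeval_C, map_mul, aeval_X, zero_sub] at h1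
    rw [mul_neg, ← h1, neg_neg]

theorem exists_prime_of_quasiFiniteAt (hinj : Function.Injective (algebraMap P B))
    (q' : Ideal B) [q'.IsPrime] [Algebra.QuasiFiniteAt P q'] (g : B) (hg : g ≠ 0) :
    ∃ N : P, N ≠ 0 ∧ ∀ (𝔭 : Ideal P) [𝔭.IsPrime], 𝔭 ≤ q'.under P → N ∉ 𝔭 →
      ∃ ξ : Ideal B, ξ.IsPrime ∧ ξ ≤ q' ∧ ξ.under P = 𝔭 ∧ g ∉ ξ := by
  have hZ := Algebra.ZariskisMainProperty.of_finiteType (R := P) q'
  rw [Algebra.zariskisMainProperty_iff] at hZ
  obtain ⟨r, hrq, hrint, hsat⟩ := hZ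
  set IC := integralClosure P B with hIC
  haveI : FaithfulSMul P IC := by
    rw [faithfulSMul_iff_algebraMap_injective]
    intro a b hab
    apply hinj
    have := congrArg (Subtype.val) hab
    exact this
  haveI : Algebra.IsIntegral P IC := inferInstance
  haveI : Algebra.HasGoingDown P IC := inferInstance
  let rC : IC := ⟨r, hrint⟩
  obtain ⟨n₀, hn₀⟩ := hsat g
  let gC : IC := ⟨r ^ n₀ * g, hn₀⟩
  have hr0 : r ≠ 0 := fun h => hrq (h ▸ q'.zero_mem)
  have hgC0 : gC ≠ 0 := by
    intro h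
    have : r ^ n₀ * g = 0 := congrArg Subtype.val h
    exact (mul_ne_zero (pow_ne_zero _ hr0) hg) this
  obtain ⟨N, hN0, y, hNy⟩ := exists_const_mem (P := P) gC hgC0 (Algebra.IsIntegral.isIntegral gC)
  refine ⟨N, hN0, ?_⟩
  intro 𝔭 h𝔭 hle hN𝔭
  set qC : Ideal IC := q'.under IC with hqC
  haveI : qC.IsPrime := Ideal.IsPrime.under IC q'
  haveI : (q'.under P).IsPrime := Ideal.IsPrime.under P q'
  haveI : qC.LiesOver (q'.under P) := by
    constructor
    rw [hqC, Ideal.under_under]
  obtain ⟨Q', hQ'le, hQ'prime, hQ'lies⟩ :=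
    Ideal.exists_ideal_le_liesOver_of_le (p := 𝔭) (q := q'.under P) qC hle
  have hrQ' : rC ∉ Q' := by
    intro h
    have : rC ∈ qC := hQ'le h
    exact hrq this
  have hrpow : ∀ n, rC ^ n ∉ Q' := fun n h => hrQ' (hQ'prime.mem_of_pow_mem n h)
  -- the saturation of `Q'` in `B`
  let ξ : Ideal B :=
    { carrier := {b : B | ∃ n : ℕ, ∃ c ∈ Q', (c : B) = r ^ n * b}
      zero_mem' := ⟨0, 0, Q'.zero_mem, by simp⟩
      add_mem' := by
        rintro b₁ b₂ ⟨n₁, c₁, hc₁, e₁⟩ ⟨n₂, c₂, hc₂, e₂⟩
        refine ⟨n₁ + n₂, rC ^ n₂ * c₁ + rC ^ n₁ * c₂,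
          Q'.add_mem (Q'.mul_mem_left _ hc₁) (Q'.mul_mem_left _ hc₂), ?_⟩
        push_cast
        rw [e₁, e₂]
        change r ^ n₂ * (r ^ n₁ * b₁) + r ^ n₁ * (r ^ n₂ * b₂) = _
        ring
      smul_mem' := by
        rintro x b ⟨n, c, hc, e⟩
        obtain ⟨m, hm⟩ := hsat x
        refine ⟨m + n, (⟨r ^ m * x, hm⟩ : IC) * c, Q'.mul_mem_left _ hc, ?_⟩
        push_cast
        rw [e]
        change r ^ m * x * (r ^ n * b) = r ^ (m + n) * (x * b)
        ring }
  have hξmem : ∀ b : B, b ∈ ξ ↔ ∃ n : ℕ, ∃ c ∈ Q', (c : B) = r ^ n * b := fun b => Iff.rfl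
  have hξIC : ∀ c : IC, (c : B) ∈ ξ ↔ c ∈ Q' := by
    intro c
    constructor
    · rintro ⟨n, c', hc', e⟩
      have : rC ^ n * c = c' := by
        apply Subtype.ext
        push_cast
        exact e.symm
      have h1 : rC ^ n * c ∈ Q' := this ▸ hc'
      exact (hQ'prime.mem_or_mem h1).resolve_left (hrpow n)
    · intro hc
      exact ⟨0, c, hc, by simp⟩
  have hξprime : ξ.IsPrime := by
    constructor
    · intro htop
      have : (1 : B) ∈ ξ := htop ▸ Submodule.mem_top
      have h1 : ((1 : IC) : B) ∈ ξ := by simpa using this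
      rw [hξIC] at h1
      exact hQ'prime.ne_top ((Ideal.eq_top_iff_one _).mpr h1)
    · intro x y hxy
      obtain ⟨a, ha⟩ := hsat x
      obtain ⟨b, hb⟩ := hsat y
      have h1 : (((⟨r ^ a * x, ha⟩ : IC) * (⟨r ^ b * y, hb⟩ : IC) : IC) : B) ∈ ξ := by
        push_cast
        have : r ^ a * x * (r ^ b * y) = (r ^ a * r ^ b) * (x * y) := by ring
        change r ^ a * x * (r ^ b * y) ∈ ξ
        rw [this]
        exact ξ.mul_mem_left _ hxy
      rw [hξIC] at h1
      rcases hQ'prime.mem_or_mem h1 with h2 | h2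
      · left
        exact ⟨a, _, h2, rfl⟩
      · right
        exact ⟨b, _, h2, rfl⟩
  refine ⟨ξ, hξprime, ?_, ?_, ?_⟩
  · rintro b ⟨n, c, hc, e⟩
    have h1 : (c : B) ∈ q' := hQ'le hc
    rw [e] at h1
    rcases (Ideal.IsPrime.mem_or_mem ‹q'.IsPrime› h1) with h2 | h2
    · exact absurd (Ideal.IsPrime.mem_of_pow_mem ‹q'.IsPrime› n h2) hrq
    · exact h2
  · ext x
    rw [Ideal.under_def, Ideal.mem_comap]
    have h1 : algebraMap P B x = ((algebraMap P IC x : IC) : B) := rfl
    rw [h1, hξIC, Ideal.LiesOver.over (p := 𝔭) (P := Q'), Ideal.under_def, Ideal.mem_comap]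
  · intro hgξ
    have h1 : (gC : B) ∈ ξ := ξ.mul_mem_left _ hgξ
    rw [hξIC] at h1
    have h2 : algebraMap P IC N ∈ Q' := by rw [hNy]; exact Q'.mul_mem_right _ h1
    apply hN𝔭
    rw [Ideal.LiesOver.over (p := 𝔭) (P := Q'), Ideal.under_def, Ideal.mem_comap]
    exact h2

end ZMT


section Main
variable {V B : Type u} [CommRing V] [IsDomain V] [ValuationRing V] [CommRing B] [IsDomain B]
  [Algebra V B] [Algebra.FiniteType V B]

theorem core (hinj : Function.Injective (algebraMap V B)) (hV : ¬ IsField V)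
    (q' : Ideal B) [q'.IsPrime] [q'.LiesOver (maximalIdeal V)]
    (hq'alg : Algebra.trdeg (V ⧸ maximalIdeal V) (B ⧸ q') = 0)
    (htr : ∃ τ : B, Transcendental V τ) (htd : Algebra.trdeg V B ≤ 1)
    (g : B) (hg : g ≠ 0) :
    ∃ ξ : Ideal B, ξ.IsPrime ∧ ξ ≤ q' ∧ ξ ≠ ⊥ ∧ ξ.under V = ⊥ ∧ g ∉ ξ := by
  obtain ⟨t, htq, httr, htmin⟩ := exists_param hinj hV q' htr
  letI : Algebra V[X] B := (Polynomial.aeval t : V[X] →ₐ[V] B).toRingHom.toAlgebra
  have halg : ∀ f : V[X], algebraMap V[X] B f = Polynomial.aeval t f := fun f => rfl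
  haveI : IsScalarTower V V[X] B := IsScalarTower.of_algebraMap_eq (fun v => by
    rw [halg, Polynomial.algebraMap_apply, Algebra.algebraMap_self_apply, aeval_C])
  have hX : algebraMap V[X] B X = t := by rw [halg, aeval_X]
  haveI : Algebra.QuasiFiniteAt V[X] q' :=
    quasiFiniteAt_poly hinj q' hq'alg htd (hX ▸ htq)
      (fun Q hQ hle hne => by rw [hX]; exact htmin Q hQ hle hne)
  haveI : Algebra.FiniteType V[X] B := Algebra.FiniteType.of_restrictScalars_finiteType V V[X] B
  have hinjP : Function.Injective (algebraMap V[X] B) := by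
    have := (transcendental_iff_injective).mp httr
    exact this
  obtain ⟨N, hN0, hN⟩ := exists_prime_of_quasiFiniteAt hinjP q' g hg
  -- an element of the maximal ideal which is not a root of `N`
  obtain ⟨π, hπm, hπ0⟩ : ∃ π : V, π ∈ maximalIdeal V ∧ π ≠ 0 := by
    by_contra hcon
    push_neg at hcon
    apply hV
    rw [IsLocalRing.isField_iff_maximalIdeal_eq]
    exact (Submodule.eq_bot_iff _).mpr hcon
  haveI : Infinite V := by
    by_contra hfin
    rw [not_infinite_iff_finite] at hfin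
    exact hV (Finite.isField_of_domain V)
  obtain ⟨a, ham, haN⟩ : ∃ a ∈ maximalIdeal V, ¬ N.IsRoot a := by
    by_contra hcon
    push_neg at hcon
    apply hN0
    apply Polynomial.eq_zero_of_infinite_isRoot
    have hinf : (Set.range (fun v : V => π * v)).Infinite :=
      Set.infinite_range_of_injective (mul_right_injective₀ hπ0)
    refine hinf.mono ?_
    rintro _ ⟨v, rfl⟩
    exact hcon _ (Ideal.mul_mem_right _ _ hπm)
  set 𝔭 : Ideal V[X] := RingHom.ker (Polynomial.evalRingHom a) with h𝔭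
  haveI : 𝔭.IsPrime := RingHom.ker_isPrime _
  have haq : algebraMap V B a ∈ q' := by
    have : a ∈ q'.under V := by
      rw [← Ideal.LiesOver.over (p := maximalIdeal V) (P := q')]; exact ham
    exact this
  have hle : 𝔭 ≤ q'.under V[X] := by
    intro f hf
    rw [h𝔭, RingHom.mem_ker, Polynomial.coe_evalRingHom] at hf
    have hroot : f.IsRoot a := hf
    obtain ⟨h, rfl⟩ := Polynomial.dvd_iff_isRoot.mpr hroot
    rw [Ideal.under_def, Ideal.mem_comap, map_mul]
    apply Ideal.mul_mem_right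
    rw [map_sub, hX, halg, aeval_C]
    exact q'.sub_mem htq haq
  have hN𝔭 : N ∉ 𝔭 := by
    intro h
    rw [h𝔭, RingHom.mem_ker, Polynomial.coe_evalRingHom] at h
    exact haN h
  obtain ⟨ξ, hξp, hξle, hξu, hgξ⟩ := hN 𝔭 hle hN𝔭
  refine ⟨ξ, hξp, hξle, ?_, ?_, hgξ⟩
  · intro hbot
    have h1 : (X - C a : V[X]) ∈ ξ.under V[X] := by
      rw [hξu, h𝔭, RingHom.mem_ker, Polynomial.coe_evalRingHom]
      simp
    rw [Ideal.under_def, Ideal.mem_comap, hbot, Ideal.mem_bot, map_sub, hX, halg, aeval_C,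
      sub_eq_zero] at h1
    exact httr (h1 ▸ isAlgebraic_algebraMap a)
  · have h1 : ξ.under V = (ξ.under V[X]).under V := (Ideal.under_under _).symm
    rw [h1, hξu]
    ext v
    rw [Ideal.under_def, Ideal.mem_comap, h𝔭, RingHom.mem_ker, Polynomial.coe_evalRingHom,
      Polynomial.algebraMap_apply, Algebra.algebraMap_self_apply, Polynomial.eval_C, Ideal.mem_bot]

end Main

end Groth.Agent.Lib.Helper82.GenFibre
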