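import Mathlib
import Groth.Agent.Lib.Helper82.GenFibre1

/-!
# Generic fibre, part 2: the ring-level bridge lemma

`bridge`: given a finite type ring map `A₀ → B₀`, "points" `α : A₀ → K`, `β : B₀ → L` (with `L`
generated as a field by the image of `β`, `L/K` not algebraic), a prime `p' ⊇ ker β` which is
residually algebraic over its contraction and whose contraction is not `ker α`, there is a prime
`ker β ⊊ ξ₀ ⊆ p'` lying over `ker α` and avoiding a prescribed `g₀ ∉ ker β`.
-/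

open IsLocalRing Polynomial
open scoped IntermediateField.algebraAdjoinAdjoin

universe u

namespace Groth.Agent.Lib.Helper82.GenFibre

theorem exists_intermediate (K L : Type u) [Field K] [Field L] [Algebra K L]
    (hnalg : ¬ Algebra.IsAlgebraic K L) :
    ∃ K₁ : IntermediateField K L, ¬ Algebra.IsAlgebraic K₁ L ∧ Algebra.trdeg K₁ L ≤ 1 := by
  obtain ⟨s, hs⟩ := exists_isTranscendenceBasis K L
  have hne : Nonempty s := by
    rw [hs.nonempty_iff_transcendental, Algebra.transcendental_iff_not_isAlgebraic]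
    exact hnalg
  obtain ⟨⟨t₀, ht₀⟩⟩ := hne
  let s' : Set s := {i | i ≠ ⟨t₀, ht₀⟩}
  have htr := hs.1.transcendental_adjoin (s := s') (i := ⟨t₀, ht₀⟩) (by simp [s'])
  set S : Set L := Subtype.val '' s' with hS
  refine ⟨IntermediateField.adjoin K S, ?_, ?_⟩
  · intro halg
    apply htr
    have h1 : IsAlgebraic (IntermediateField.adjoin K S) t₀ := halg.isAlgebraic t₀
    exact (IsFractionRing.isAlgebraic_iff (Algebra.adjoin K S) (IntermediateField.adjoin K S) L).mpr h1
  · set K₁ := IntermediateField.adjoin K S with hK₁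
    have : IsScalarTower K (Algebra.adjoin K₁ ({t₀} : Set L)) L :=
      IsScalarTower.of_algebraMap_eq (fun x => rfl)
    have : Algebra.IsAlgebraic (Algebra.adjoin K₁ ({t₀} : Set L)) L := by
      rw [hs.isAlgebraic_iff]
      rintro ⟨i, hi⟩
      by_cases h : i = t₀
      · subst h
        exact isAlgebraic_algebraMap (⟨i, Algebra.subset_adjoin rfl⟩ : Algebra.adjoin K₁ ({i} : Set L))
      · have hiS : i ∈ S := ⟨⟨i, hi⟩, by simpa [s'] using h, rfl⟩
        have : i ∈ K₁ := IntermediateField.subset_adjoin K S hiS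
        exact isAlgebraic_algebraMap (algebraMap K₁ (Algebra.adjoin K₁ ({t₀} : Set L)) ⟨i, this⟩)
    have := Algebra.IsAlgebraic.trdeg_le_cardinalMk K₁ ({t₀} : Set L)
    simpa using this

theorem core_sub {V L : Type u} [CommRing V] [IsDomain V] [ValuationRing V] [Field L] [Algebra V L]
    [FaithfulSMul V L] (hV : ¬ IsField V) (W : ValuationSubring L)
    (hloc : ∀ v : V, algebraMap V L v ∈ W.nonunits ↔ v ∈ maximalIdeal V)
    (hVW : ∀ v : V, algebraMap V L v ∈ W)
    (T : Set L) (hTW : T ⊆ W) (hfg : (Algebra.adjoin V T).FG)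
    (halg : ∀ t ∈ T, ∃ P : V[X], (∃ i, P.coeff i ∉ maximalIdeal V) ∧ aeval t P ∈ W.nonunits)
    (htd : Algebra.trdeg V L ≤ 1) (τ : L) (hτ : τ ∈ Algebra.adjoin V T) (hτtr : Transcendental V τ)
    (g : L) (hg : g ∈ Algebra.adjoin V T) (hg0 : g ≠ 0) :
    ∃ ξ : Ideal (Algebra.adjoin V T), ξ.IsPrime ∧ ξ ≠ ⊥ ∧ (∀ z ∈ ξ, (z : L) ∈ W.nonunits) ∧
      ξ.under V = ⊥ ∧ (⟨g, hg⟩ : Algebra.adjoin V T) ∉ ξ := by
  set B := Algebra.adjoin V T with hB
  have hBW : ∀ z, z ∈ B → z ∈ W := fun z hz =>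
    Algebra.adjoin_induction (p := fun z _ => z ∈ W) (fun x hx => hTW hx) hVW
      (fun x y _ _ hx hy => W.add_mem _ _ hx hy) (fun x y _ _ hx hy => W.mul_mem _ _ hx hy) hz
  have : Algebra.FiniteType V B := (Subalgebra.fg_iff_finiteType B).mp hfg
  let ιB : B →+* W :=
    { toFun := fun z => ⟨z.1, hBW z.1 z.2⟩
      map_one' := rfl
      map_mul' := fun _ _ => rfl
      map_zero' := rfl
      map_add' := fun _ _ => rfl }
  set q' : Ideal B := (maximalIdeal W).comap ιB with hq'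
  have : q'.IsPrime := Ideal.comap_isPrime _ _
  have hmemq' : ∀ z : B, z ∈ q' ↔ (z : L) ∈ W.nonunits := by
    intro z
    rw [hq', Ideal.mem_comap, ← ValuationSubring.coe_mem_nonunits_iff]
    rfl
  have : q'.LiesOver (maximalIdeal V) := by
    constructor
    ext v
    rw [Ideal.under_def, Ideal.mem_comap, hmemq', ← hloc]
    rfl
  have hinj : Function.Injective (algebraMap V B) := by
    intro a b hab
    apply FaithfulSMul.algebraMap_injective V L
    exact congrArg Subtype.val hab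
  -- residual algebraicity
  have hint : ∀ z (hz : z ∈ B), IsIntegral (V ⧸ maximalIdeal V) (Ideal.Quotient.mk q' ⟨z, hz⟩) := by
    intro z hz
    refine Algebra.adjoin_induction
      (p := fun z hz => IsIntegral (V ⧸ maximalIdeal V) (Ideal.Quotient.mk q' ⟨z, hz⟩))
      ?_ ?_ ?_ ?_ hz
    · intro t ht
      obtain ⟨P, ⟨i, hi⟩, hP⟩ := halg t ht
      let _ : Field (V ⧸ maximalIdeal V) := Ideal.Quotient.field _
      refine IsAlgebraic.isIntegral (K := V ⧸ maximalIdeal V) ?_
      refine ⟨P.map (algebraMap V (V ⧸ maximalIdeal V)), ?_, ?_⟩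
      · intro h0
        have := congrArg (fun Q => Q.coeff i) h0
        simp only [coeff_map, coeff_zero] at this
        rw [Ideal.Quotient.algebraMap_eq, Ideal.Quotient.eq_zero_iff_mem] at this
        exact hi this
      · rw [aeval_map_algebraMap]
        have h1 : (Ideal.Quotient.mk q' ⟨t, Algebra.subset_adjoin ht⟩ : B ⧸ q') =
            Ideal.Quotient.mkₐ V q' ⟨t, Algebra.subset_adjoin ht⟩ := rfl
        rw [h1, aeval_algHom_apply, Ideal.Quotient.mkₐ_eq_mk, Ideal.Quotient.eq_zero_iff_mem, hmemq',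
          ← Subalgebra.aeval_coe]
        exact hP
    · intro v
      have : (Ideal.Quotient.mk q' ⟨algebraMap V L v, B.algebraMap_mem v⟩ : B ⧸ q') =
          algebraMap (V ⧸ maximalIdeal V) (B ⧸ q') (Ideal.Quotient.mk _ v) := rfl
      rw [this]
      exact isIntegral_algebraMap
    · intro x y hx hy h1 h2
      exact h1.add h2
    · intro x y hx hy h1 h2
      exact h1.mul h2
  have : Algebra.IsIntegral (V ⧸ maximalIdeal V) (B ⧸ q') := by
    constructor
    intro z
    obtain ⟨⟨z, hz⟩, rfl⟩ := Ideal.Quotient.mk_surjective z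
    exact hint z hz
  have hq'alg : Algebra.trdeg (V ⧸ maximalIdeal V) (B ⧸ q') = 0 := by
    have : Algebra.IsAlgebraic (V ⧸ maximalIdeal V) (B ⧸ q') := Algebra.IsIntegral.isAlgebraic
    exact trdeg_eq_zero
  have htr : ∃ τ' : B, Transcendental V τ' := by
    refine ⟨⟨τ, hτ⟩, fun h => hτtr ?_⟩
    exact h.algHom B.val
  have htdB : Algebra.trdeg V B ≤ 1 :=
    (trdeg_le_of_injective B.val Subtype.val_injective).trans htd
  obtain ⟨ξ, hξp, hξle, hξne, hξu, hgξ⟩ :=
    core hinj hV q' hq'alg htr htdB (⟨g, hg⟩ : B) (fun h => hg0 (congrArg Subtype.val h))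
  exact ⟨ξ, hξp, hξne, fun z hz => (hmemq' z).mp (hξle hz), hξu, hgξ⟩


theorem mem_nonunits_iff_not_isUnit {L : Type u} [Field L] (W : ValuationSubring L) (x : L) (hx : x ∈ W) :
    x ∈ W.nonunits ↔ ¬ IsUnit (⟨x, hx⟩ : W) := by
  rw [← mem_nonunits_iff, ← mem_maximalIdeal, ← ValuationSubring.coe_mem_nonunits_iff]

theorem bridge {A₀ B₀ K L : Type u} [CommRing A₀] [CommRing B₀] [Algebra A₀ B₀]
    [Algebra.FiniteType A₀ B₀] [Field K] [Field L] [Algebra K L]
    (α : A₀ →+* K) (β : B₀ →+* L) (hαβ : ∀ a, β (algebraMap A₀ B₀ a) = algebraMap K L (α a))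
    (hfrac : ∀ z : L, ∃ b c, β c ≠ 0 ∧ z = β b / β c)
    (hnalg : ¬ Algebra.IsAlgebraic K L)
    (p' : Ideal B₀) [p'.IsPrime] (hker : RingHom.ker β ≤ p')
    (a₀ : A₀) (ha₀p' : algebraMap A₀ B₀ a₀ ∈ p') (hαa₀ : α a₀ ≠ 0)
    (H1 : ∀ b : B₀, ∃ P : A₀[X], (∃ i, algebraMap A₀ B₀ (P.coeff i) ∉ p') ∧ aeval b P ∈ p')
    (g₀ : B₀) (hg₀ : β g₀ ≠ 0) :
    ∃ ξ₀ : Ideal B₀, ξ₀.IsPrime ∧ RingHom.ker β ≤ ξ₀ ∧ ξ₀ ≤ p' ∧ ξ₀ ≠ RingHom.ker β ∧
      ξ₀.comap (algebraMap A₀ B₀) = RingHom.ker α ∧ g₀ ∉ ξ₀ := by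
  -- Step 1: localization and valuation ring
  have hunit : ∀ y : p'.primeCompl, IsUnit (β y) := fun y => by
    rw [isUnit_iff_ne_zero]
    intro h
    exact y.2 (hker h)
  let β' : Localization.AtPrime p' →+* L := IsLocalization.lift hunit
  have hβ' : ∀ b, β' (algebraMap B₀ _ b) = β b := IsLocalization.lift_eq hunit
  obtain ⟨W, hW, hWloc⟩ := IsLocalRing.exists_factor_valuationRing β'
  have hβW : ∀ b, β b ∈ W := fun b => hβ' b ▸ hW _
  have hmem : ∀ b, b ∈ p' ↔ β b ∈ W.nonunits := by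
    intro b
    rw [mem_nonunits_iff_not_isUnit W _ (hβW b),
      ← IsLocalization.AtPrime.to_map_mem_maximal_iff (Localization.AtPrime p') p' b,
      mem_maximalIdeal, mem_nonunits_iff, not_iff_not]
    have h1 : (⟨β b, hβW b⟩ : W) = (β'.codRestrict W.toSubring hW) (algebraMap B₀ _ b) :=
      Subtype.ext (hβ' b).symm
    rw [h1]
    constructor
    · intro h
      exact h.map (β'.codRestrict W.toSubring hW)
    · intro h
      exact hWloc.map_nonunit _ h
  -- Step 2: the intermediate field and its valuation ring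
  obtain ⟨K₁, hK₁nalg, hK₁td⟩ := exists_intermediate K L hnalg
  let V₁ : ValuationSubring K₁ := W.comap (algebraMap K₁ L)
  have hV₁L : ∀ v : V₁, algebraMap V₁ L v = ((v : K₁) : L) := fun v => rfl
  have hV₁inj : Function.Injective (algebraMap V₁ L) := by
    intro v w hvw
    rw [hV₁L, hV₁L] at hvw
    exact Subtype.ext (Subtype.ext hvw)
  have : FaithfulSMul V₁ L := (faithfulSMul_iff_algebraMap_injective V₁ L).mpr hV₁inj
  have hVW : ∀ v : V₁, algebraMap V₁ L v ∈ W := fun v => v.2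
  have hloc : ∀ v : V₁, algebraMap V₁ L v ∈ W.nonunits ↔ v ∈ maximalIdeal V₁ := by
    intro v
    rw [← ValuationSubring.coe_mem_nonunits_iff, ValuationSubring.mem_nonunits_iff_or,
      ValuationSubring.mem_nonunits_iff_or, hV₁L, ValuationSubring.mem_comap, map_inv₀]
    simp
  let φ : A₀ →+* V₁ := RingHom.codRestrict ((algebraMap K K₁).comp α) V₁ (fun a => by
    rw [ValuationSubring.mem_comap, RingHom.comp_apply, ← IsScalarTower.algebraMap_apply, ← hαβ]
    exact hβW _)
  have hφ : ∀ a, algebraMap V₁ L (φ a) = β (algebraMap A₀ B₀ a) := by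
    intro a
    rw [hV₁L, hαβ, IsScalarTower.algebraMap_apply K K₁ L]
    rfl
  have hVnf : ¬ IsField V₁ := by
    intro hf
    rw [IsLocalRing.isField_iff_maximalIdeal_eq] at hf
    have h1 : φ a₀ ∈ maximalIdeal V₁ := by
      rw [← hloc, hφ, ← hmem]
      exact ha₀p'
    rw [hf, Ideal.mem_bot] at h1
    have h2 := congrArg (algebraMap V₁ L) h1
    rw [hφ, hαβ, map_zero, map_eq_zero] at h2
    exact hαa₀ h2
  -- Step 3: the finitely generated subalgebra
  set T : Set L := Set.range β with hT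
  have hTW : T ⊆ W := by
    rintro _ ⟨b, rfl⟩
    exact hβW b
  have hfg : (Algebra.adjoin V₁ T).FG := by
    obtain ⟨gens, hgens⟩ := (Algebra.FiniteType.out : (⊤ : Subalgebra A₀ B₀).FG)
    rw [Subalgebra.fg_def]
    refine ⟨β '' (gens : Set B₀), gens.finite_toSet.image _, le_antisymm
      (Algebra.adjoin_mono (Set.image_subset_range _ _)) (Algebra.adjoin_le ?_)⟩
    rintro _ ⟨b, rfl⟩
    have hb : b ∈ Algebra.adjoin A₀ (gens : Set B₀) := by rw [hgens]; trivial
    refine Algebra.adjoin_induction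
      (p := fun b _ => β b ∈ Algebra.adjoin V₁ (β '' (gens : Set B₀))) ?_ ?_ ?_ ?_ hb
    · intro x hx
      exact Algebra.subset_adjoin ⟨x, hx, rfl⟩
    · intro a
      rw [← hφ]
      exact Subalgebra.algebraMap_mem _ _
    · intro x y _ _ hx hy
      rw [map_add]
      exact add_mem hx hy
    · intro x y _ _ hx hy
      rw [map_mul]
      exact mul_mem hx hy
  have halg : ∀ t ∈ T, ∃ P : V₁[X], (∃ i, P.coeff i ∉ maximalIdeal V₁) ∧
      aeval t P ∈ W.nonunits := by
    rintro _ ⟨b, rfl⟩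
    obtain ⟨P₀, ⟨i, hi⟩, hP₀⟩ := H1 b
    refine ⟨P₀.map φ, ⟨i, ?_⟩, ?_⟩
    · rw [coeff_map, ← hloc, hφ, ← hmem]
      exact hi
    · have h1 : aeval (β b) (P₀.map φ) = β (aeval b P₀) := by
        rw [aeval_def, eval₂_map, aeval_def, hom_eval₂]
        congr 1
        ext a
        exact hφ a
      rw [h1, ← hmem]
      exact hP₀
  have htd : Algebra.trdeg V₁ L ≤ 1 := by
    have : Algebra.IsAlgebraic V₁ K₁ := IsLocalization.isAlgebraic _ (nonZeroDivisors V₁)
    have h1 := trdeg_add_eq (R := V₁) (S := K₁) (A := L)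
    rw [trdeg_eq_zero, zero_add] at h1
    rw [← h1]
    exact hK₁td
  obtain ⟨b₀, hb₀⟩ : ∃ b₀, Transcendental K₁ (β b₀) := by
    by_contra hcon
    push_neg at hcon
    apply hK₁nalg
    constructor
    intro z
    obtain ⟨b, c, hc, rfl⟩ := hfrac z
    have hb := hcon b
    have hc' := hcon c
    unfold Transcendental at hb hc'
    push_neg at hb hc'
    rw [div_eq_mul_inv]
    exact hb.mul hc'.inv
  have hτtr : Transcendental V₁ (β b₀) := fun h =>
    hb₀ (h.extendScalars (FaithfulSMul.algebraMap_injective V₁ K₁))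
  obtain ⟨ξ, hξp, hξne, hξW, hξu, hgξ⟩ := core_sub hVnf W hloc hVW T hTW hfg halg htd (β b₀)
    (Algebra.subset_adjoin ⟨b₀, rfl⟩) hτtr (β g₀) (Algebra.subset_adjoin ⟨g₀, rfl⟩) hg₀
  -- Step 4: pull back
  let βB : B₀ →+* Algebra.adjoin V₁ T :=
    RingHom.codRestrict β (Algebra.adjoin V₁ T) (fun b => Algebra.subset_adjoin ⟨b, rfl⟩)
  have hβB : ∀ b, ((βB b : Algebra.adjoin V₁ T) : L) = β b := fun b => rfl
  refine ⟨ξ.comap βB, Ideal.comap_isPrime _ _, ?_, ?_, ?_, ?_, ?_⟩
  · intro b hb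
    rw [Ideal.mem_comap]
    have : βB b = 0 := Subtype.ext hb
    rw [this]
    exact ξ.zero_mem
  · intro b hb
    rw [hmem]
    exact hξW _ hb
  · intro heq
    apply hξne
    rw [eq_bot_iff]
    intro z hz
    rw [Ideal.mem_bot]
    by_contra hz0
    obtain ⟨b, c, hc, hzbc⟩ := hfrac (z : L)
    have h1 : βB b = z * βB c := by
      apply Subtype.ext
      rw [Subalgebra.coe_mul, hβB, hβB, hzbc, div_mul_cancel₀ _ hc]
    have h2 : b ∈ ξ.comap βB := by
      rw [Ideal.mem_comap, h1]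
      exact ξ.mul_mem_right _ hz
    rw [heq, RingHom.mem_ker] at h2
    apply hz0
    apply Subtype.ext
    rw [hzbc, h2, zero_div]
    rfl
  · ext a
    rw [Ideal.mem_comap, Ideal.mem_comap, RingHom.mem_ker]
    have h1 : βB (algebraMap A₀ B₀ a) = algebraMap V₁ (Algebra.adjoin V₁ T) (φ a) :=
      Subtype.ext (hφ a).symm
    rw [h1]
    have h2 : algebraMap V₁ (Algebra.adjoin V₁ T) (φ a) ∈ ξ ↔ φ a ∈ ξ.under V₁ := Iff.rfl
    rw [h2, hξu, Ideal.mem_bot]
    constructor
    · intro h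
      have h3 := congrArg (algebraMap V₁ L) h
      rw [hφ, hαβ, map_zero, map_eq_zero] at h3
      exact h3
    · intro h
      apply hV₁inj
      rw [hφ, hαβ, h, map_zero, map_zero]
  · intro h
    exact hgξ h

end Groth.Agent.Lib.Helper82.GenFibre
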