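import Mathlib
import Groth.Agent.Lib.Helper82.GenFibre2

/-!
# Generic fibre, part 3: the scheme-level one-step lemma

`core1`: for `f : X ⟶ S` locally of finite type, `y ⤳ x'` with `f y ≠ f x'`, `κ(x')/κ(f x')`
algebraic and `κ(y)/κ(f y)` not algebraic, every open neighbourhood of `y` contains a point
`ξ ≠ y` of the fibre of `f y` with `y ⤳ ξ ⤳ x'`.
-/

set_option autoImplicit false
set_option linter.style.haveILetI false
universe u
open CategoryTheory AlgebraicGeometry Limits Polynomial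

namespace Groth.Agent.Lib.Helper82.GenFibre

variable {X S : Scheme.{u}}

theorem ker_evaluation {U : X.Opens} (hU : IsAffineOpen U) (y : X) (hy : y ∈ U) :
    (hU.primeIdealOf ⟨y, hy⟩).asIdeal = RingHom.ker (X.evaluation U y hy).hom := by
  ext b
  rw [RingHom.mem_ker]
  change b ∈ (hU.primeIdealOf ⟨y, hy⟩).asIdeal ↔ X.evaluation U y hy b = 0
  rw [Scheme.evaluation_eq_zero_iff_notMem_basicOpen]
  have h1 : y ∈ X.basicOpen b ↔ hU.primeIdealOf ⟨y, hy⟩ ∈ hU.fromSpec ⁻¹ᵁ X.basicOpen b := by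
    change _ ↔ hU.fromSpec (hU.primeIdealOf ⟨y, hy⟩) ∈ X.basicOpen b
    rw [hU.fromSpec_primeIdealOf]
  rw [h1, hU.fromSpec_preimage_basicOpen]
  change b ∈ _ ↔ ¬ (b ∉ (hU.primeIdealOf ⟨y, hy⟩).asIdeal)
  exact not_not.symm

theorem exists_evaluation_div {U : X.Opens} (hU : IsAffineOpen U) (y : X) (hy : y ∈ U)
    (z : X.residueField y) :
    ∃ b c : Γ(X, U), X.evaluation U y hy c ≠ 0 ∧
      z = X.evaluation U y hy b / X.evaluation U y hy c := by
  obtain ⟨s, rfl⟩ := X.residue_surjective y z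
  let _ := TopCat.Presheaf.algebra_section_stalk X.presheaf (⟨y, hy⟩ : U)
  have := hU.isLocalization_stalk ⟨y, hy⟩
  obtain ⟨⟨b, c⟩, rfl⟩ := IsLocalization.mk'_surjective
    (hU.primeIdealOf ⟨y, hy⟩).asIdeal.primeCompl s
  have hc : X.evaluation U y hy c.1 ≠ 0 := by
    intro h
    have : c.1 ∈ RingHom.ker (X.evaluation U y hy).hom := h
    rw [← ker_evaluation hU y hy] at this
    exact c.2 this
  refine ⟨b, c.1, hc, ?_⟩
  rw [eq_div_iff hc]
  have h2 : ∀ t : Γ(X, U), X.evaluation U y hy t =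
      X.residue y (algebraMap Γ(X, U) (X.presheaf.stalk y) t) := fun t => rfl
  rw [h2, ← map_mul, IsLocalization.mk'_spec]
  rfl

theorem evaluation_appLE (f : X ⟶ S) {U_S : S.Opens} {U : X.Opens} (e : U ≤ f ⁻¹ᵁ U_S)
    (y : X) (hy : y ∈ U) (a : Γ(S, U_S)) :
    X.evaluation U y hy ((f.appLE U_S U e) a) =
      f.residueFieldMap y (S.evaluation U_S (f y) (e hy) a) := by
  have h1 := Scheme.evaluation_naturality_apply f y (V := U_S) (e hy) a
  rw [h1, Scheme.Hom.appLE]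
  simp only [CommRingCat.comp_apply]
  change X.residue y (X.presheaf.germ U y hy (X.presheaf.map _ _)) = _
  rw [TopCat.Presheaf.germ_res_apply]
  rfl

theorem exists_poly {A₀ B₀ K' L' : Type u} [CommRing A₀] [CommRing B₀] [Algebra A₀ B₀]
    [Field K'] [Field L'] [Algebra K' L']
    (α' : A₀ →+* K') (β' : B₀ →+* L')
    (hαβ' : ∀ a, β' (algebraMap A₀ B₀ a) = algebraMap K' L' (α' a))
    (hfrac' : ∀ z : K', ∃ a c, α' c ≠ 0 ∧ z = α' a / α' c)
    [Algebra.IsAlgebraic K' L'] (b : B₀) :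
    ∃ P : A₀[X], (∃ i, β' (algebraMap A₀ B₀ (P.coeff i)) ≠ 0) ∧ β' (aeval b P) = 0 := by
  let R : Subring K' := α'.range
  have : FaithfulSMul R K' := (faithfulSMul_iff_algebraMap_injective R K').mpr
    Subtype.val_injective
  have : IsFractionRing R K' := by
    apply IsFractionRing.of_field
    intro z
    obtain ⟨a, c, hc, rfl⟩ := hfrac' z
    exact ⟨⟨α' a, a, rfl⟩, ⟨α' c, c, rfl⟩, rfl⟩
  have h1 : IsAlgebraic R (β' b) :=
    (IsFractionRing.isAlgebraic_iff R K' L').mpr (Algebra.IsAlgebraic.isAlgebraic (β' b))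
  obtain ⟨Q, hQ0, hQ⟩ := h1
  obtain ⟨P, rfl⟩ := Polynomial.map_surjective _ α'.rangeRestrict_surjective Q
  obtain ⟨i, hi⟩ : ∃ i, (P.map α'.rangeRestrict).coeff i ≠ 0 := by
    by_contra hcon
    push_neg at hcon
    exact hQ0 (Polynomial.ext hcon)
  refine ⟨P, ⟨i, ?_⟩, ?_⟩
  · rw [hαβ']
    intro h
    rw [map_eq_zero] at h
    apply hi
    rw [coeff_map]
    exact Subtype.ext h
  · rw [aeval_def, eval₂_map] at hQ
    rw [aeval_def, hom_eval₂, ← hQ]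
    congr 1
    ext a
    exact hαβ' a

theorem core1 (f : X ⟶ S) [LocallyOfFiniteType f] (y x' : X) (hsp : y ⤳ x') (hne : f y ≠ f x')
    (halg' : @Algebra.IsAlgebraic (S.residueField (f x')) (X.residueField x') _ _
      (f.residueFieldMap x').hom.toAlgebra)
    (hnalg : ¬ @Algebra.IsAlgebraic (S.residueField (f y)) (X.residueField y) _ _
      (f.residueFieldMap y).hom.toAlgebra)
    (U₀ : X.Opens) (hy : y ∈ U₀) :
    ∃ ξ : X, ξ ∈ U₀ ∧ ξ ≠ y ∧ y ⤳ ξ ∧ ξ ⤳ x' ∧ f ξ = f y := by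
  obtain ⟨_, ⟨U_S₀, hU_S₀, rfl⟩, hfx'U_S, -⟩ :=
    S.isBasis_affineOpens.exists_subset_of_mem_open (Set.mem_univ (f x')) isOpen_univ
  let U_S : S.Opens := U_S₀
  have hU_S : IsAffineOpen U_S := hU_S₀
  have hfx'U_S : f x' ∈ U_S := hfx'U_S
  obtain ⟨_, ⟨U₁, hU₁, rfl⟩, hx'U, hUle⟩ :=
    X.isBasis_affineOpens.exists_subset_of_mem_open
      (show x' ∈ ((f ⁻¹ᵁ U_S : X.Opens) : Set X) from hfx'U_S) (f ⁻¹ᵁ U_S).isOpen
  let U : X.Opens := U₁
  have hU : IsAffineOpen U := hU₁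
  have hx'U : x' ∈ U := hx'U
  have e : U ≤ f ⁻¹ᵁ U_S := hUle
  have hyU : y ∈ U := hsp.mem_open U.isOpen hx'U
  letI : Algebra Γ(S, U_S) Γ(X, U) := (f.appLE U_S U e).hom.toAlgebra
  haveI : Algebra.FiniteType Γ(S, U_S) Γ(X, U) := f.finiteType_appLE hU_S hU e
  letI : Algebra (S.residueField (f y)) (X.residueField y) := (f.residueFieldMap y).hom.toAlgebra
  letI : Algebra (S.residueField (f x')) (X.residueField x') :=
    (f.residueFieldMap x').hom.toAlgebra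
  have halgMap : ∀ a : Γ(S, U_S), algebraMap Γ(S, U_S) Γ(X, U) a = (f.appLE U_S U e) a :=
    fun a => rfl
  set α := (S.evaluation U_S (f y) (e hyU)).hom with hα
  set β := (X.evaluation U y hyU).hom with hβ
  set α' := (S.evaluation U_S (f x') (e hx'U)).hom with hα'
  set β' := (X.evaluation U x' hx'U).hom with hβ'
  have hαβ : ∀ a, β (algebraMap Γ(S, U_S) Γ(X, U) a) =
      algebraMap (S.residueField (f y)) (X.residueField y) (α a) :=
    fun a => evaluation_appLE f e y hyU a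
  have hαβ' : ∀ a, β' (algebraMap Γ(S, U_S) Γ(X, U) a) =
      algebraMap (S.residueField (f x')) (X.residueField x') (α' a) :=
    fun a => evaluation_appLE f e x' hx'U a
  have hfrac : ∀ z : X.residueField y, ∃ b c, β c ≠ 0 ∧ z = β b / β c :=
    exists_evaluation_div hU y hyU
  have hfrac' : ∀ z : S.residueField (f x'), ∃ a c, α' c ≠ 0 ∧ z = α' a / α' c :=
    exists_evaluation_div hU_S (f x') (e hx'U)
  set p' := (hU.primeIdealOf ⟨x', hx'U⟩).asIdeal with hp'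
  have hp'ker : p' = RingHom.ker β' := ker_evaluation hU x' hx'U
  have hker : RingHom.ker β ≤ p' := by
    intro b hb
    rw [hp'ker, RingHom.mem_ker]
    rw [RingHom.mem_ker] at hb
    have hb' : X.evaluation U y hyU b = 0 := hb
    change X.evaluation U x' hx'U b = 0
    rw [Scheme.evaluation_eq_zero_iff_notMem_basicOpen] at hb' ⊢
    intro h
    exact hb' (hsp.mem_open (X.basicOpen b).isOpen h)
  -- an element of `A₀` vanishing at `f x'` but not at `f y`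
  obtain ⟨a₀, ha₀p', hαa₀⟩ : ∃ a₀ : Γ(S, U_S), algebraMap Γ(S, U_S) Γ(X, U) a₀ ∈ p' ∧ α a₀ ≠ 0 := by
    have hnsp : ¬ f x' ⤳ f y := fun h => hne ((hsp.map f.continuous).antisymm h).eq
    rw [specializes_iff_forall_open] at hnsp
    push_neg at hnsp
    obtain ⟨O, hO, hfyO, hfx'O⟩ := hnsp
    obtain ⟨a₀, ha₀le, ha₀y⟩ := hU_S.exists_basicOpen_le (V := ⟨O, hO⟩) ⟨f y, hfyO⟩ (e hyU)
    refine ⟨a₀, ?_, ?_⟩
    · rw [hp'ker, RingHom.mem_ker, hαβ']
      have : α' a₀ = 0 := by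
        change S.evaluation U_S (f x') (e hx'U) a₀ = 0
        refine (Scheme.evaluation_eq_zero_iff_notMem_basicOpen _ _ _ _).mpr ?_
        intro h
        exact hfx'O (ha₀le h)
      rw [this, map_zero]
    · change S.evaluation U_S (f y) (e hyU) a₀ ≠ 0
      exact (Scheme.evaluation_ne_zero_iff_mem_basicOpen _ _ _ _).mpr ha₀y
  have H1 : ∀ b : Γ(X, U), ∃ P : (Γ(S, U_S))[X],
      (∃ i, algebraMap Γ(S, U_S) Γ(X, U) (P.coeff i) ∉ p') ∧ aeval b P ∈ p' := by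
    intro b
    obtain ⟨P, ⟨i, hi⟩, hP⟩ := exists_poly α' β' hαβ' hfrac' b
    refine ⟨P, ⟨i, ?_⟩, ?_⟩
    · rw [hp'ker, RingHom.mem_ker]
      exact hi
    · rw [hp'ker, RingHom.mem_ker]
      exact hP
  obtain ⟨g₀, hg₀le, hg₀y⟩ := hU.exists_basicOpen_le (V := U₀) ⟨y, hy⟩ hyU
  have hg₀ : β g₀ ≠ 0 := by
    change X.evaluation U y hyU g₀ ≠ 0
    rw [Scheme.evaluation_ne_zero_iff_mem_basicOpen]
    exact hg₀y
  obtain ⟨ξ₀, hξ₀p, hξ₀ge, hξ₀le, hξ₀ne, hξ₀co, hg₀ξ₀⟩ :=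
    bridge α β hαβ hfrac hnalg p' hker a₀ ha₀p' hαa₀ H1 g₀ hg₀
  -- the point
  let Q : ↥(Spec Γ(X, U)) := (⟨ξ₀, hξ₀p⟩ : PrimeSpectrum Γ(X, U))
  obtain ⟨ξ, hξ⟩ : ∃ ξ : X, ξ = hU.fromSpec Q := ⟨_, rfl⟩
  have hξU : ξ ∈ U := by
    have : ξ ∈ Set.range hU.fromSpec := ⟨Q, hξ.symm⟩
    rwa [hU.range_fromSpec] at this
  have hQ : hU.primeIdealOf ⟨ξ, hξU⟩ = Q := by
    apply hU.fromSpec.isOpenEmbedding.injective
    rw [hU.fromSpec_primeIdealOf]
    exact hξ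
  have hξ₀ker : ξ₀ = RingHom.ker (X.evaluation U ξ hξU).hom := by
    rw [← ker_evaluation hU ξ hξU, hQ]
  have hPy : (hU.primeIdealOf ⟨y, hyU⟩).asIdeal = RingHom.ker β := ker_evaluation hU y hyU
  refine ⟨ξ, ?_, ?_, ?_, ?_, ?_⟩
  · apply hg₀le
    refine (Scheme.evaluation_ne_zero_iff_mem_basicOpen _ _ hξU _).mp ?_
    intro h
    apply hg₀ξ₀
    rw [hξ₀ker, RingHom.mem_ker]
    exact h
  · intro h
    subst h
    exact hξ₀ne hξ₀ker
  · have h1 : (hU.primeIdealOf ⟨y, hyU⟩ : PrimeSpectrum Γ(X, U)) ⤳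
        (⟨ξ₀, hξ₀p⟩ : PrimeSpectrum Γ(X, U)) := by
      rw [← PrimeSpectrum.le_iff_specializes]
      change (hU.primeIdealOf ⟨y, hyU⟩).asIdeal ≤ ξ₀
      rw [hPy]
      exact hξ₀ge
    have h2 : hU.fromSpec (hU.primeIdealOf ⟨y, hyU⟩) ⤳ hU.fromSpec Q :=
      Specializes.map h1 hU.fromSpec.continuous
    rw [hU.fromSpec_primeIdealOf] at h2
    rw [hξ]
    exact h2
  · have h1 : (⟨ξ₀, hξ₀p⟩ : PrimeSpectrum Γ(X, U)) ⤳
        (hU.primeIdealOf ⟨x', hx'U⟩ : PrimeSpectrum Γ(X, U)) := by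
      rw [← PrimeSpectrum.le_iff_specializes]
      exact hξ₀le
    have h2 : hU.fromSpec Q ⤳ hU.fromSpec (hU.primeIdealOf ⟨x', hx'U⟩) :=
      Specializes.map h1 hU.fromSpec.continuous
    rw [hU.fromSpec_primeIdealOf] at h2
    rw [hξ]
    exact h2
  · have h1 : f (hU.fromSpec Q) = hU_S.fromSpec (Spec.map (f.appLE U_S U e) Q) := by
      rw [← Scheme.Hom.comp_apply, ← Scheme.Hom.comp_apply, hU_S.SpecMap_appLE_fromSpec f hU e]
    have h2 : Spec.map (f.appLE U_S U e) Q = hU_S.primeIdealOf ⟨f y, e hyU⟩ := by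
      apply PrimeSpectrum.ext
      rw [ker_evaluation hU_S (f y) (e hyU)]
      exact hξ₀co
    rw [hξ, h1, h2, hU_S.fromSpec_primeIdealOf]

end Groth.Agent.Lib.Helper82.GenFibre
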