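import Mathlib

/-!
# Polynomial solutions of second-order linear ODEs have simple roots (helper82)

* `rootMultiplicity_le_one_of_ode`: if `A h'' + B h' + D h = 0` and `A(c) ≠ 0` then `c` is at most
  a simple root of `h` (char 0).
* `aco`, `coeff_h`, `aco_rec`, `ode_of_rec`: the polynomial
  `h(W) = ∑_l (i choose l) (j choose (n-l)) W^(n-l)` satisfies the hypergeometric equation
  `W(1-W) h'' + [(i-n+1) + (n+j-1) W] h' - n j h = 0`.
* `hyp_rootMultiplicity_le_one`: consequently no multiple roots away from `0, 1`.
-/

namespace Groth.Agent.Lib.Helper82.PolyODE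
open Polynomial

/-- A polynomial solution of a second-order linear ODE has at most simple roots away from the zeros
of the leading coefficient (char 0). -/
lemma rootMultiplicity_le_one_of_ode {k : Type*} [Field k] [CharZero k] (h A B D : k[X]) (c : k)
    (hode : A * derivative (derivative h) + B * derivative h + D * h = 0) (hA : A.eval c ≠ 0) :
    rootMultiplicity c h ≤ 1 := by
  by_contra hμ
  push Not at hμ
  have hne : h ≠ 0 := by
    rintro rfl
    rw [rootMultiplicity_zero] at hμ; omega
  have hroot : IsRoot h c := (rootMultiplicity_pos hne).1 (by omega)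
  have hμ' : rootMultiplicity c (derivative h) = rootMultiplicity c h - 1 :=
    derivative_rootMultiplicity_of_root hroot
  have hne' : derivative h ≠ 0 := by
    intro h0
    rw [h0, rootMultiplicity_zero] at hμ'; omega
  have hroot' : IsRoot (derivative h) c := (rootMultiplicity_pos hne').1 (by omega)
  have hμ'' : rootMultiplicity c (derivative (derivative h)) = rootMultiplicity c (derivative h) - 1 :=
    derivative_rootMultiplicity_of_root hroot'
  have d1 : (X - C c) ^ (rootMultiplicity c h - 1) ∣ h :=
    (pow_dvd_pow _ (by omega)).trans (pow_rootMultiplicity_dvd h c)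
  have d2 : (X - C c) ^ (rootMultiplicity c h - 1) ∣ derivative h := by
    rw [← hμ']; exact pow_rootMultiplicity_dvd _ c
  have d3 : (X - C c) ^ (rootMultiplicity c h - 1) ∣ A * derivative (derivative h) := by
    have : A * derivative (derivative h) = -(B * derivative h + D * h) := by
      linear_combination hode
    rw [this]
    exact (dvd_neg).2 (dvd_add (dvd_mul_of_dvd_right d2 _) (dvd_mul_of_dvd_right d1 _))
  by_cases h2 : derivative (derivative h) = 0
  · have hnd : (derivative h).natDegree = 0 := Polynomial.derivative_eq_zero.1 h2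
    have hC := eq_C_of_natDegree_eq_zero hnd
    have : (derivative h).coeff 0 = 0 := by
      have := hroot'
      rw [IsRoot, hC, eval_C] at this
      exact this
    rw [this, C_0] at hC
    exact hne' hC
  · have hA0 : A ≠ 0 := by
      rintro rfl
      simp at hA
    have hprod : A * derivative (derivative h) ≠ 0 := mul_ne_zero hA0 h2
    have hle := (le_rootMultiplicity_iff hprod).2 d3
    rw [rootMultiplicity_mul hprod, rootMultiplicity_eq_zero (p := A) (x := c) hA, hμ''] at hle
    omega


variable {k : Type*} [Field k] [CharZero k]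

/-- coefficient sequence -/
noncomputable def aco (k : Type*) [Field k] (i j n : ℕ) (m : ℕ) : k :=
  if m ≤ n then ((i.choose (n - m) * j.choose m : ℕ) : k) else 0

omit [CharZero k] in
lemma coeff_h (i j n m : ℕ) :
    (∑ l ∈ Finset.range (n + 1),
        C (((i.choose l) * (j.choose (n - l)) : ℕ) : k) * X ^ (n - l)).coeff m = aco k i j n m := by
  rw [finsetSum_coeff]
  simp only [coeff_C_mul_X_pow]
  unfold aco
  by_cases hm : m ≤ n
  · rw [if_pos hm]
    rw [Finset.sum_eq_single (n - m)]
    · rw [if_pos (by omega)]
      have : n - (n - m) = m := by omega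
      rw [this]
    · intro l hl hne
      rw [if_neg]
      have := Finset.mem_range.1 hl
      omega
    · intro hnot
      exact absurd (Finset.mem_range.2 (by omega)) hnot
  · rw [if_neg hm]
    apply Finset.sum_eq_zero
    intro l hl
    rw [if_neg]
    omega

lemma aco_rec (i j n m : ℕ) :
    ((m : k) + 1) * ((i : k) - n + m + 1) * aco k i j n (m + 1) =
      ((n : k) - m) * ((j : k) - m) * aco k i j n m := by
  unfold aco
  by_cases hm : m + 1 ≤ n
  · rw [if_pos hm, if_pos (by omega : m ≤ n)]
    obtain ⟨s, hs⟩ : ∃ s, n = s + m + 1 := ⟨n - m - 1, by omega⟩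
    subst hs
    have e1 : s + m + 1 - (m + 1) = s := by omega
    have e2 : s + m + 1 - m = s + 1 := by omega
    rw [e1, e2]
    have h1 := Nat.choose_succ_right_eq i s
    have h2 := Nat.choose_succ_right_eq j m
    by_cases hsi : s ≤ i
    · by_cases hmj : m ≤ j
      · have h1' : ((i.choose (s + 1) : ℕ) : k) * ((s : k) + 1) = (i.choose s : k) * ((i : k) - s) := by
          have := congrArg (Nat.cast (R := k)) h1
          rw [Nat.cast_mul, Nat.cast_mul, Nat.cast_sub hsi] at this
          push_cast at this
          exact this
        have h2' : ((j.choose (m + 1) : ℕ) : k) * ((m : k) + 1) = (j.choose m : k) * ((j : k) - m) := by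
          have := congrArg (Nat.cast (R := k)) h2
          rw [Nat.cast_mul, Nat.cast_mul, Nat.cast_sub hmj] at this
          push_cast at this
          exact this
        push_cast
        linear_combination ((i.choose s : k) * ((i : k) - s)) * h2' -
          ((j.choose m : k) * ((j : k) - m)) * h1'
      · have z1 : j.choose m = 0 := Nat.choose_eq_zero_of_lt (by omega)
        have z2 : j.choose (m + 1) = 0 := Nat.choose_eq_zero_of_lt (by omega)
        rw [z1, z2]; simp
    · have z1 : i.choose s = 0 := Nat.choose_eq_zero_of_lt (by omega)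
      have z2 : i.choose (s + 1) = 0 := Nat.choose_eq_zero_of_lt (by omega)
      rw [z1, z2]; simp
  · rw [if_neg hm]
    by_cases hmn : m ≤ n
    · have : m = n := by omega
      subst this
      simp
    · rw [if_neg hmn]; simp

lemma ode_of_rec (γ δ ν : k) (a : ℕ → k) (n i j : k)
    (hγ : γ = i - n + 1) (hδ : δ = n + j - 1) (hν : ν = n * j)
    (hrec : ∀ m : ℕ, ((m : k) + 1) * (i - n + m + 1) * a (m + 1) = (n - m) * (j - m) * a m)
    (h : k[X]) (hh : ∀ m, h.coeff m = a m) :
    (X * (1 - X)) * derivative (derivative h) + (C γ + C δ * X) * derivative h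
      + (- C ν) * h = 0 := by
  have hE : (X * (1 - X)) * derivative (derivative h) + (C γ + C δ * X) * derivative h
      + (- C ν) * h = X * derivative (derivative h) - X ^ 2 * derivative (derivative h)
        + C γ * derivative h + C δ * (X * derivative h) - C ν * h := by ring
  rw [hE]
  ext m
  rcases m with _ | _ | m
  · simp only [coeff_add, coeff_sub, coeff_C_mul, coeff_X_mul_zero, coeff_X_pow_mul',
      coeff_derivative, hh, coeff_zero]
    have := hrec 0
    simp at this ⊢
    subst hγ hν
    linear_combination this
  · simp only [coeff_add, coeff_sub, coeff_C_mul, coeff_X_mul, coeff_X_pow_mul',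
      coeff_derivative, hh, coeff_zero]
    have := hrec 1
    simp at this ⊢
    subst hγ hν hδ
    linear_combination this
  · simp only [coeff_add, coeff_sub, coeff_C_mul, coeff_X_mul, coeff_X_pow_mul',
      coeff_derivative, hh, coeff_zero]
    have := hrec (m + 2)
    simp at this ⊢
    subst hγ hν hδ
    linear_combination this


/-- The hypergeometric-type polynomial has no multiple root other than possibly `0`, `1`. -/
theorem hyp_rootMultiplicity_le_one (i j n : ℕ) (c : k) (hc0 : c ≠ 0) (hc1 : c ≠ 1) :
    rootMultiplicity c
      (∑ l ∈ Finset.range (n + 1),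
        C (((i.choose l) * (j.choose (n - l)) : ℕ) : k) * X ^ (n - l)) ≤ 1 := by
  refine rootMultiplicity_le_one_of_ode _ (X * (1 - X)) (C ((i : k) - n + 1) + C ((n : k) + j - 1) * X)
    (- C ((n : k) * j)) c ?_ ?_
  · exact ode_of_rec _ _ _ (aco k i j n) (n : k) (i : k) (j : k) rfl rfl rfl
      (fun m => aco_rec i j n m) _ (fun m => coeff_h i j n m)
  · simp only [eval_mul, eval_X, eval_sub, eval_one]
    exact mul_ne_zero hc0 (sub_ne_zero.2 (Ne.symm hc1))

end Groth.Agent.Lib.Helper82.PolyODE
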