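import Mathlib

/-!
# Solvability conditions (h2), (h3) of the SigmaLin family over an algebraically closed field
of characteristic `p`, for `σ` = Frobenius and `σ` = inverse Frobenius.
-/

namespace Groth.Agent.Lib.Helper82.SigmaLinAC

open Polynomial

section general
variable {k : Type*} [Field k] [IsAlgClosed k]

/-- A polynomial over an algebraically closed field with two nonzero coefficients has a nonzero root. -/
theorem exists_ne_zero_root (P : k[X]) (e₁ e₂ : ℕ) (hne : e₁ ≠ e₂) (h₁ : P.coeff e₁ ≠ 0)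
    (h₂ : P.coeff e₂ ≠ 0) : ∃ z : k, z ≠ 0 ∧ P.eval z = 0 := by
  have hP : P ≠ 0 := by
    intro h; rw [h] at h₁; simp at h₁
  obtain ⟨Q, hQ, hndvd⟩ := exists_eq_pow_rootMultiplicity_mul_and_not_dvd P hP 0
  rw [map_zero, sub_zero] at hQ hndvd
  set m := P.rootMultiplicity 0 with hm
  by_cases hdeg : Q.degree = 0
  · exfalso
    obtain ⟨q, hq⟩ : ∃ q : k, Q = C q := ⟨Q.coeff 0, eq_C_of_degree_eq_zero hdeg⟩
    have hcoeff : ∀ e, P.coeff e = if e = m then q else 0 := by
      intro e
      rw [hQ, hq, mul_comm, coeff_C_mul, coeff_X_pow]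
      split_ifs <;> simp
    have e1 : e₁ = m := by
      by_contra h
      rw [hcoeff, if_neg h] at h₁
      exact h₁ rfl
    have e2 : e₂ = m := by
      by_contra h
      rw [hcoeff, if_neg h] at h₂
      exact h₂ rfl
    exact hne (e1.trans e2.symm)
  · obtain ⟨z, hz⟩ := IsAlgClosed.exists_root Q hdeg
    refine ⟨z, ?_, ?_⟩
    · intro hz0
      apply hndvd
      rw [hz0] at hz
      have := (dvd_iff_isRoot (p := Q) (a := (0 : k))).mpr hz
      simpa using this
    · rw [hQ, eval_mul, hz.eq_zero, mul_zero]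

omit [IsAlgClosed k] in
/-- coefficient of a sum of monomials with injective exponents -/
theorem coeff_sum_monomials {n : ℕ} (c : Fin n → k) (E : Fin n → ℕ) (hE : Function.Injective E)
    (j : Fin n) : (∑ i, C (c i) * X ^ (E i) : k[X]).coeff (E j) = c j := by
  rw [finsetSum_coeff]
  rw [Finset.sum_eq_single j]
  · simp
  · intro i _ hij
    rw [coeff_C_mul, coeff_X_pow, if_neg (fun h => hij (hE h).symm), mul_zero]
  · intro h; exact absurd (Finset.mem_univ j) h

omit [IsAlgClosed k] in
theorem coeff_sum_monomials_of_notMem {n : ℕ} (c : Fin n → k) (E : Fin n → ℕ) (e : ℕ)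
    (he : ∀ i, E i ≠ e) : (∑ i, C (c i) * X ^ (E i) : k[X]).coeff e = 0 := by
  rw [finsetSum_coeff]
  apply Finset.sum_eq_zero
  intro i _
  rw [coeff_C_mul, coeff_X_pow, if_neg (fun h => he i h.symm), mul_zero]

end general

section charp
variable (p : ℕ) [Fact p.Prime] (k : Type*) [Field k] [CharP k p] [IsAlgClosed k]

theorem h3_frob (c : k) : ∃ y : k, frobenius k p y - y + c = 0 := by
  have hp : p.Prime := Fact.out
  have hcoef : (X ^ p - X + C c : k[X]).coeff p = 1 := by
    rw [coeff_add, coeff_sub, coeff_X_pow, if_pos rfl, coeff_X, if_neg hp.one_lt.ne, coeff_C,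
      if_neg hp.ne_zero]
    ring
  have hdeg : (X ^ p - X + C c : k[X]).degree ≠ 0 := by
    intro hdeg0
    have h1 := eq_C_of_degree_eq_zero hdeg0
    rw [h1, coeff_C, if_neg hp.ne_zero] at hcoef
    exact zero_ne_one hcoef
  obtain ⟨y, hy⟩ := IsAlgClosed.exists_root _ hdeg
  refine ⟨y, ?_⟩
  have := hy.eq_zero
  simpa [frobenius_def] using this

theorem h3_frobInv (c : k) :
    ∃ y : k, (frobeniusEquiv k p).symm.toRingHom y - y + c = 0 := by
  obtain ⟨z, hz⟩ := h3_frob p k (-c)
  refine ⟨z ^ p, ?_⟩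
  show (frobeniusEquiv k p).symm (z ^ p) - z ^ p + c = 0
  rw [frobeniusEquiv_symm_pow]
  rw [frobenius_def] at hz
  linear_combination (-1 : k) * hz

theorem iterate_frobInv_pow (m : ℕ) (y : k) :
    (⇑(frobeniusEquiv k p).symm.toRingHom)^[m] (y ^ p ^ m) = y := by
  induction m generalizing y with
  | zero => simp
  | succ m ih =>
    rw [Function.iterate_succ_apply, pow_succ, pow_mul]
    show (⇑(frobeniusEquiv k p).symm.toRingHom)^[m] ((frobeniusEquiv k p).symm ((y ^ p ^ m) ^ p)) = y
    rw [frobeniusEquiv_symm_pow, ih]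

theorem iterate_frobInv_injective (m : ℕ) :
    Function.Injective ((⇑(frobeniusEquiv k p).symm.toRingHom)^[m]) :=
  Function.Injective.iterate (frobeniusEquiv k p).symm.injective m

theorem h2_frobInv (n : ℕ) (b : Fin (n + 1) → k) (hb : b ≠ 0) :
    ∃ x : k, x ≠ 0 ∧ x = ∑ i : Fin (n + 1),
      (⇑(frobeniusEquiv k p).symm.toRingHom)^[i.val + 1] x *
        (⇑(frobeniusEquiv k p).symm.toRingHom)^[i.val] (b (Fin.rev i)) := by
  have hp : p.Prime := Fact.out
  set τ := (frobeniusEquiv k p).symm.toRingHom with hτ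
  set c : Fin (n + 1) → k := fun i => (⇑τ)^[i.val] (b (Fin.rev i)) with hc
  set E : Fin (n + 1) → ℕ := fun i => p ^ (n - i.val) with hE
  have hEinj : Function.Injective E := by
    intro i j hij
    have := Nat.pow_right_injective hp.two_le hij
    apply Fin.ext
    have hi := i.2; have hj := j.2
    omega
  obtain ⟨l, hl⟩ : ∃ l, b l ≠ 0 := by
    by_contra h; push Not at h; exact hb (funext h)
  set j := Fin.rev l with hj
  have hcj : c j ≠ 0 := by
    rw [hc]; simp only
    rw [hj, Fin.rev_rev]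
    intro h
    apply hl
    apply iterate_frobInv_injective p k (Fin.rev l).val
    rw [h, ← hτ, iterate_map_zero]
  set P : k[X] := X ^ (p ^ (n + 1)) - ∑ i, C (c i) * X ^ (E i) with hP
  have hEne : ∀ i, E i ≠ p ^ (n + 1) := by
    intro i h
    have := Nat.pow_right_injective hp.two_le h
    omega
  have hco1 : P.coeff (p ^ (n + 1)) ≠ 0 := by
    rw [hP, coeff_sub, coeff_X_pow, if_pos rfl, coeff_sum_monomials_of_notMem c E _ hEne, sub_zero]
    exact one_ne_zero
  have hco2 : P.coeff (E j) ≠ 0 := by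
    rw [hP, coeff_sub, coeff_X_pow, if_neg (hEne j), coeff_sum_monomials c E hEinj, zero_sub]
    exact neg_ne_zero.mpr hcj
  obtain ⟨z, hz0, hz⟩ := exists_ne_zero_root P _ _ (hEne j).symm hco1 hco2
  refine ⟨z ^ p ^ (n + 1), pow_ne_zero _ hz0, ?_⟩
  have hz' : z ^ p ^ (n + 1) = ∑ i, c i * z ^ (E i) := by
    rw [hP, eval_sub, eval_pow, eval_X, eval_finsetSum, sub_eq_zero] at hz
    rw [hz]
    apply Finset.sum_congr rfl
    intro i _
    simp
  conv_lhs => rw [hz']
  apply Finset.sum_congr rfl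
  intro i _
  have hi := i.2
  have hsplit : p ^ (n + 1) = p ^ (n - i.val) * p ^ (i.val + 1) := by
    rw [← pow_add]; congr 1; omega
  rw [hsplit, pow_mul, iterate_frobInv_pow p k (i.val + 1) (z ^ p ^ (n - i.val)), mul_comm]

theorem h2_frob (n : ℕ) (b : Fin (n + 1) → k) (hb : b ≠ 0) :
    ∃ x : k, x ≠ 0 ∧ x = ∑ i : Fin (n + 1),
      (⇑(frobenius k p))^[i.val + 1] x * (⇑(frobenius k p))^[i.val] (b (Fin.rev i)) := by
  have hp : p.Prime := Fact.out
  set c : Fin (n + 1) → k := fun i => (⇑(frobenius k p))^[i.val] (b (Fin.rev i)) with hc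
  set E : Fin (n + 1) → ℕ := fun i => p ^ (i.val + 1) with hE
  have hEinj : Function.Injective E := by
    intro i j hij
    have := Nat.pow_right_injective hp.two_le hij
    apply Fin.ext
    omega
  obtain ⟨l, hl⟩ : ∃ l, b l ≠ 0 := by
    by_contra h; push Not at h; exact hb (funext h)
  set j := Fin.rev l with hj
  have hcj : c j ≠ 0 := by
    rw [hc]; simp only
    rw [hj, Fin.rev_rev, iterate_frobenius]
    exact pow_ne_zero _ hl
  set P : k[X] := X - ∑ i, C (c i) * X ^ (E i) with hP
  have hEne : ∀ i, E i ≠ 1 := by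
    intro i h
    have h1 : p ^ (i.val + 1) = p ^ 0 := by rw [pow_zero]; exact h
    have := Nat.pow_right_injective hp.two_le h1
    omega
  have hco1 : P.coeff 1 ≠ 0 := by
    rw [hP, coeff_sub, coeff_X_one, coeff_sum_monomials_of_notMem c E _ hEne, sub_zero]
    exact one_ne_zero
  have hco2 : P.coeff (E j) ≠ 0 := by
    rw [hP, coeff_sub, coeff_X, if_neg (hEne j).symm, coeff_sum_monomials c E hEinj, zero_sub]
    exact neg_ne_zero.mpr hcj
  obtain ⟨z, hz0, hz⟩ := exists_ne_zero_root P _ _ (hEne j).symm hco1 hco2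
  refine ⟨z, hz0, ?_⟩
  rw [hP, eval_sub, eval_X, eval_finsetSum, sub_eq_zero] at hz
  conv_lhs => rw [hz]
  apply Finset.sum_congr rfl
  intro i _
  rw [iterate_frobenius]
  simp only [eval_mul, eval_C, eval_pow, eval_X, hE]
  rw [mul_comm]

end charp

end Groth.Agent.Lib.Helper82.SigmaLinAC
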