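import Mathlib

/-!
# Semilinear maps over a local ring: reduction modulo the maximal ideal, fixed points
-/

namespace Groth.Agent.Lib.Helper82.SigmaLocal

universe u v

variable (R : Type u) [CommRing R] [IsLocalRing R] (M : Type v) [AddCommGroup M] [Module R M]

/-- `M / 𝔪 M` -/
abbrev Mbar : Type v := M ⧸ (IsLocalRing.maximalIdeal R • (⊤ : Submodule R M))

noncomputable instance instModuleMbar : Module (IsLocalRing.ResidueField R) (Mbar R M) :=
  inferInstanceAs (Module (R ⧸ IsLocalRing.maximalIdeal R)
    (M ⧸ IsLocalRing.maximalIdeal R • (⊤ : Submodule R M)))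

instance instFiniteMbar [Module.Finite R M] : Module.Finite (IsLocalRing.ResidueField R) (Mbar R M) :=
  inferInstanceAs (Module.Finite (R ⧸ IsLocalRing.maximalIdeal R)
    (M ⧸ IsLocalRing.maximalIdeal R • (⊤ : Submodule R M)))

variable {R M}

theorem residue_smul_mk (r : R) (m : M) :
    (IsLocalRing.residue R r) • (Submodule.Quotient.mk m : Mbar R M) =
      Submodule.Quotient.mk (r • m) := rfl

variable (σ : R →+* R) (σbar : IsLocalRing.ResidueField R →+* IsLocalRing.ResidueField R)
  (hσbar : ∀ r : R, σbar (IsLocalRing.residue R r) = IsLocalRing.residue R (σ r))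

include hσbar in
theorem sigma_mem_maximalIdeal (r : R) (hr : r ∈ IsLocalRing.maximalIdeal R) :
    σ r ∈ IsLocalRing.maximalIdeal R := by
  rw [← IsLocalRing.residue_eq_zero_iff] at hr ⊢
  rw [← hσbar, hr, map_zero]

include hσbar in
theorem le_comap (T : M →ₛₗ[σ] M) :
    (IsLocalRing.maximalIdeal R • (⊤ : Submodule R M)) ≤
      (IsLocalRing.maximalIdeal R • (⊤ : Submodule R M)).comap T := by
  intro x hx
  rw [Submodule.mem_comap]
  refine Submodule.smul_induction_on hx ?_ ?_
  · intro r hr m _
    rw [map_smulₛₗ]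
    exact Submodule.smul_mem_smul (sigma_mem_maximalIdeal σ σbar hσbar r hr) trivial
  · intro x y hx hy
    rw [map_add]; exact Submodule.add_mem _ hx hy

/-- the induced `σbar`-semilinear map on `M / 𝔪 M` -/
noncomputable def Tbar (T : M →ₛₗ[σ] M) : Mbar R M →ₛₗ[σbar] Mbar R M where
  toFun := Submodule.mapQ _ _ T (le_comap σ σbar hσbar T)
  map_add' := (Submodule.mapQ _ _ T (le_comap σ σbar hσbar T)).map_add
  map_smul' := by
    intro c x
    obtain ⟨r, rfl⟩ := IsLocalRing.residue_surjective c
    obtain ⟨m, rfl⟩ := Submodule.Quotient.mk_surjective _ x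
    rw [residue_smul_mk, Submodule.mapQ_apply, Submodule.mapQ_apply, map_smulₛₗ, hσbar,
      residue_smul_mk]

theorem Tbar_mk (T : M →ₛₗ[σ] M) (m : M) :
    Tbar σ σbar hσbar T (Submodule.Quotient.mk m) = Submodule.Quotient.mk (T m) := rfl

/-- the fixed points of `T`, as a module over the fixed subring of `σ` -/
def FixT (T : M →ₛₗ[σ] M) : Submodule (RingHom.eqLocus σ (RingHom.id R)) M where
  carrier := {m | T m = m}
  add_mem' := by
    intro a b ha hb
    show T (a + b) = a + b
    rw [map_add, ha, hb]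
  zero_mem' := map_zero T
  smul_mem' := by
    intro c m hm
    show T (c • m) = c • m
    have hc : σ (c : R) = (c : R) := c.2
    rw [Subring.smul_def, map_smulₛₗ, hc, hm]

omit [IsLocalRing R] in
theorem mem_FixT (T : M →ₛₗ[σ] M) (m : M) : m ∈ FixT σ T ↔ T m = m := Iff.rfl

end Groth.Agent.Lib.Helper82.SigmaLocal
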