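import Mathlib
import Groth.Agent.Lib.Helper82.SigmaLocal
import Groth.Agent.S19234
import Groth.Agent.S19235

/-!
# Fixed points of a semilinear map over a local ring with maximal ideal `(p)`, `p^n = 0`,
are finitely generated over the fixed subring.
-/

namespace Groth.Agent.Lib.Helper82.SigmaLocal

universe u v

theorem fixT_fg
    (p : ℕ) [Fact p.Prime] (R : Type u) [CommRing R] [IsLocalRing R]
    (hmax : IsLocalRing.maximalIdeal R = Ideal.span {(p : R)}) (n : ℕ) (hn : (p : R) ^ n = 0)
    (σ : R →+* R) (σbar : IsLocalRing.ResidueField R →+* IsLocalRing.ResidueField R)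
    (hσbar : ∀ r : R, σbar (IsLocalRing.residue R r) = IsLocalRing.residue R (σ r))
    (hsurj : Function.Surjective σbar)
    (h2 : ∀ (n : ℕ) (b : Fin (n + 1) → IsLocalRing.ResidueField R), b ≠ 0 →
      ∃ x : IsLocalRing.ResidueField R, x ≠ 0 ∧ x = ∑ i : Fin (n + 1), (⇑σbar)^[i.val + 1] x * (⇑σbar)^[i.val] (b (Fin.rev i)))
    (h3 : ∀ c : IsLocalRing.ResidueField R, ∃ y : IsLocalRing.ResidueField R, σbar y - y + c = 0)
    (hlift : ∀ x : IsLocalRing.ResidueField R, σbar x = x → ∃ r : R, σ r = r ∧ IsLocalRing.residue R r = x) :
    ∀ (j : ℕ) (M : Type v) [AddCommGroup M] [Module R M] [Module.Finite R M] (T : M →ₛₗ[σ] M),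
      (∀ m : M, (p : R) ^ j • m = 0) → (FixT σ T).FG := by
  classical
  have hσp : σ (p : R) = (p : R) := map_natCast σ p
  intro j
  induction j with
  | zero =>
    intro M _ _ _ T hM
    have hsub : ∀ m : M, m = 0 := fun m => by simpa using hM m
    have : FixT σ T = ⊥ := by
      rw [eq_bot_iff]; intro m _; rw [Submodule.mem_bot]; exact hsub m
    rw [this]; exact Submodule.fg_bot
  | succ j ih =>
    intro M _ _ _ T hM
    -- the submodule N = 𝔪 M
    set N : Submodule R M := IsLocalRing.maximalIdeal R • (⊤ : Submodule R M) with hN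
    have hNp : ∀ x, x ∈ N ↔ ∃ m : M, (p : R) • m = x := by
      intro x
      rw [hN, hmax, Submodule.ideal_span_singleton_smul, Submodule.mem_smul_pointwise_iff_exists]
      simp
    have hTN : ∀ x ∈ N, T x ∈ N := fun x hx => le_comap σ σbar hσbar T hx
    let TN : ↥N →ₛₗ[σ] ↥N := (T.domRestrict N).codRestrict N (fun x => hTN x.1 x.2)
    have hTN_apply : ∀ x : ↥N, (TN x : M) = T (x : M) := fun x => rfl
    haveI hNfin : Module.Finite R ↥N := by
      rw [Module.Finite.iff_fg]
      have : N = Submodule.map ((p : R) • (LinearMap.id : M →ₗ[R] M)) ⊤ := by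
        ext x
        rw [hNp]
        simp
      rw [this]
      exact Submodule.FG.map _ (Module.Finite.fg_top)
    have hNkill : ∀ x : ↥N, (p : R) ^ j • x = 0 := by
      intro x
      obtain ⟨m, hm⟩ := (hNp x.1).mp x.2
      apply Subtype.ext
      rw [Submodule.coe_smul, ← hm, smul_smul, ← pow_succ, hM m]
      rfl
    have ihN := ih ↥N TN hNkill
    -- 1 - T surjective on N
    have hsurjN := Groth.Agent.S19235.result p R hmax n hn σ σbar hσbar hsurj h2 h3 ↥N TN
    -- the reduction
    obtain ⟨-, b, hb⟩ := Groth.Agent.S19234.result (IsLocalRing.ResidueField R) σbar hsurj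
      (Mbar R M) (Tbar σ σbar hσbar T) h2 h3
    -- lifts of the basis vectors to fixed points
    have hliftb : ∀ i, ∃ bt : M, T bt = bt ∧ (Submodule.Quotient.mk bt : Mbar R M) = (b i : Mbar R M) := by
      intro i
      obtain ⟨m, hm⟩ := Submodule.Quotient.mk_surjective _ (b i : Mbar R M)
      have hmem : T m - m ∈ N := by
        rw [← Submodule.Quotient.mk_eq_zero, Submodule.Quotient.mk_sub, ← Tbar_mk σ σbar hσbar, hm,
          hb i, sub_self]
      obtain ⟨g, hg⟩ := hsurjN ⟨T m - m, hmem⟩
      have hg' : (g : M) - T (g : M) = T m - m := by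
        have := congrArg Subtype.val hg
        simpa [hTN_apply] using this
      refine ⟨m + g, ?_, ?_⟩
      · rw [map_add]
        have : T (g : M) = (g : M) - (T m - m) := by rw [← hg']; abel
        rw [this]; abel
      · rw [Submodule.Quotient.mk_add, hm]
        have : (Submodule.Quotient.mk (g : M) : Mbar R M) = 0 := by
          rw [Submodule.Quotient.mk_eq_zero]; exact g.2
        rw [this, add_zero]
    choose bt hbtfix hbtmk using hliftb
    -- the S-linear inclusion of N
    set S := RingHom.eqLocus σ (RingHom.id R) with hS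
    let incl : ↥N →ₗ[S] M := (N.subtype).restrictScalars S
    have hkey : FixT σ T = Submodule.span S (Set.range bt) ⊔ (FixT σ TN).map incl := by
      apply le_antisymm
      · intro m hm
        rw [mem_FixT] at hm
        -- the class of m lies in I
        set v : Mbar R M := Submodule.Quotient.mk m with hv
        have hvfix : Tbar σ σbar hσbar T v = v := by rw [hv, Tbar_mk, hm]
        have hvI : v ∈ (⨅ n : ℕ, Submodule.span (IsLocalRing.ResidueField R)
            (Set.range ((⇑(Tbar σ σbar hσbar T))^[n]))) := by
          rw [Submodule.mem_iInf]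
          intro n
          apply Submodule.subset_span
          exact ⟨v, Function.iterate_fixed hvfix n⟩
        set c := b.equivFun ⟨v, hvI⟩ with hc
        have hvsum : v = ∑ i, c i • (b i : Mbar R M) := by
          have h1 : (⟨v, hvI⟩ : ↥(⨅ n : ℕ, Submodule.span (IsLocalRing.ResidueField R) (Set.range ((⇑(Tbar σ σbar hσbar T))^[n])))) = ∑ i, c i • b i := (b.sum_equivFun ⟨v, hvI⟩).symm
          have h2' := congrArg (Subtype.val) h1
          simpa using h2'
        have hcfix : ∀ i, σbar (c i) = c i := by
          have h1 : (∑ i, σbar (c i) • b i) = ∑ i, c i • b i := by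
            apply Subtype.ext
            have e1 : ((∑ i, σbar (c i) • b i : ↥(⨅ n : ℕ, Submodule.span (IsLocalRing.ResidueField R) (Set.range ((⇑(Tbar σ σbar hσbar T))^[n])))) : Mbar R M) =
                ∑ i, σbar (c i) • (b i : Mbar R M) := by simp
            have e2 : ((∑ i, c i • b i : ↥(⨅ n : ℕ, Submodule.span (IsLocalRing.ResidueField R) (Set.range ((⇑(Tbar σ σbar hσbar T))^[n])))) : Mbar R M) = ∑ i, c i • (b i : Mbar R M) := by simp
            rw [e1, e2, ← hvsum]
            conv_rhs => rw [← hvfix, hvsum]
            rw [map_sum]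
            apply Finset.sum_congr rfl
            intro i _
            rw [map_smulₛₗ, hb i]
          have h2' := congrArg b.equivFun h1
          rw [← b.equivFun_symm_apply, ← b.equivFun_symm_apply, LinearEquiv.apply_symm_apply,
            LinearEquiv.apply_symm_apply] at h2'
          intro i
          exact congrFun h2' i
        choose cl hclfix hclres using fun i => hlift (c i) (hcfix i)
        set m' : M := m - ∑ i, cl i • bt i with hm'
        have hsumfix : (∑ i, cl i • bt i) ∈ FixT σ T := by
          apply Submodule.sum_mem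
          intro i _
          have : cl i • bt i = (⟨cl i, hclfix i⟩ : S) • bt i := rfl
          rw [this]
          exact Submodule.smul_mem _ _ (hbtfix i)
        have hm'fix : T m' = m' := by
          have : m' ∈ FixT σ T := Submodule.sub_mem _ hm hsumfix
          exact this
        have hm'N : m' ∈ N := by
          rw [← Submodule.Quotient.mk_eq_zero, hm', Submodule.Quotient.mk_sub, ← hv, hvsum, sub_eq_zero]
          rw [← Submodule.mkQ_apply, map_sum]
          apply Finset.sum_congr rfl
          intro i _
          rw [Submodule.mkQ_apply, ← residue_smul_mk, hclres, hbtmk]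
        have hmdecomp : m = (∑ i, cl i • bt i) + m' := by rw [hm']; abel
        rw [hmdecomp]
        apply Submodule.add_mem_sup
        · apply Submodule.sum_mem
          intro i _
          have : cl i • bt i = (⟨cl i, hclfix i⟩ : S) • bt i := rfl
          rw [this]
          exact Submodule.smul_mem _ _ (Submodule.subset_span ⟨i, rfl⟩)
        · refine ⟨⟨m', hm'N⟩, ?_, rfl⟩
          show TN ⟨m', hm'N⟩ = ⟨m', hm'N⟩
          apply Subtype.ext
          rw [hTN_apply]
          exact hm'fix
      · apply sup_le
        · rw [Submodule.span_le]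
          rintro _ ⟨i, rfl⟩
          exact hbtfix i
        · rintro _ ⟨x, hx, rfl⟩
          have hx' : TN x = x := hx
          show T (x : M) = (x : M)
          rw [← hTN_apply, hx']
    rw [hkey]
    exact Submodule.FG.sup (Submodule.fg_span (Set.finite_range bt)) (Submodule.FG.map incl ihN)

end Groth.Agent.Lib.Helper82.SigmaLocal
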