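import Mathlib

universe u

open TensorProduct

namespace Groth.Agent.Lib.Helper82.TensorExactFP

variable {R : Type u} [CommRing R] {A B C : Type u} [AddCommGroup A] [AddCommGroup B]
  [AddCommGroup C] [Module R A] [Module R B] [Module R C] (f : A →ₗ[R] B) (g : B →ₗ[R] C)

/-- "exactness of `M ⊗ A → M ⊗ B → M ⊗ C` in the middle" -/
def ExactAtTensor (M : Type u) [AddCommGroup M] [Module R M] : Prop :=
  ∀ z : M ⊗[R] B, LinearMap.lTensor M g z = 0 → ∃ w : M ⊗[R] A, LinearMap.lTensor M f w = z

lemma lTensor_rTensor_comm {M M' X Y : Type*} [AddCommGroup M] [Module R M] [AddCommGroup M']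
    [Module R M'] [AddCommGroup X] [Module R X] [AddCommGroup Y] [Module R Y]
    (φ : M →ₗ[R] M') (h : X →ₗ[R] Y) (x : M ⊗[R] X) :
    LinearMap.lTensor M' h (LinearMap.rTensor X φ x) =
      LinearMap.rTensor Y φ (LinearMap.lTensor M h x) := by
  rw [← LinearMap.comp_apply, ← LinearMap.comp_apply, LinearMap.lTensor_comp_rTensor,
    LinearMap.rTensor_comp_lTensor]

/-- from finitely presented to finitely generated modules -/
theorem exactAtTensor_of_finite
    (h : ∀ (M : Type u) [AddCommGroup M] [Module R M], Module.FinitePresentation R M →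
      ExactAtTensor f g M)
    (M : Type u) [AddCommGroup M] [Module R M] [Module.Finite R M] : ExactAtTensor f g M := by
  intro z hz
  obtain ⟨n, π, hπ⟩ := Module.Finite.exists_fin' R M
  obtain ⟨z₀, rfl⟩ := LinearMap.rTensor_surjective B hπ z
  rw [lTensor_rTensor_comm] at hz
  -- `u = (1 ⊗ g) z₀` dies in `M ⊗ C`, hence comes from `ker π ⊗ C`
  have hex : Function.Exact (LinearMap.rTensor C (LinearMap.ker π).subtype)
      (LinearMap.rTensor C π) :=
    rTensor_exact C (LinearMap.exact_subtype_ker_map π) hπ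
  obtain ⟨t, ht⟩ := (hex _).1 hz
  obtain ⟨J, hJ, hle, y, rfl⟩ := Submodule.exists_fg_le_eq_rTensor_inclusion t
  rw [← LinearMap.rTensor_comp_apply] at ht
  have hsub : (LinearMap.ker π).subtype ∘ₗ J.inclusion hle = J.subtype := rfl
  rw [hsub] at ht
  -- the finitely presented module `M' = Rⁿ / J`
  have hfp : Module.FinitePresentation R ((Fin n → R) ⧸ J) :=
    Module.finitePresentation_of_free_of_surjective J.mkQ (Submodule.mkQ_surjective J)
      (by rw [Submodule.ker_mkQ]; exact hJ)
  let φ : ((Fin n → R) ⧸ J) →ₗ[R] M := J.liftQ π hle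
  have hφ : φ ∘ₗ J.mkQ = π := Submodule.liftQ_mkQ J π hle
  have hz' : LinearMap.lTensor ((Fin n → R) ⧸ J) g (LinearMap.rTensor B J.mkQ z₀) = 0 := by
    rw [lTensor_rTensor_comm, ← ht, ← LinearMap.rTensor_comp_apply]
    have : J.mkQ ∘ₗ J.subtype = 0 := by
      ext x
      simp
    rw [this, LinearMap.rTensor_zero, LinearMap.zero_apply]
  obtain ⟨w', hw'⟩ := h _ hfp _ hz'
  refine ⟨LinearMap.rTensor A φ w', ?_⟩
  rw [lTensor_rTensor_comm, hw', ← LinearMap.rTensor_comp_apply, hφ]

/-- from finitely generated to arbitrary modules -/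
theorem exactAtTensor_of_forall_finite
    (h : ∀ (M : Type u) [AddCommGroup M] [Module R M], Module.Finite R M → ExactAtTensor f g M)
    (M : Type u) [AddCommGroup M] [Module R M] : ExactAtTensor f g M := by
  intro z hz
  obtain ⟨J, hJ, y, rfl⟩ := Submodule.exists_fg_le_eq_rTensor_subtype z
  rw [lTensor_rTensor_comm] at hz
  have hz0 : LinearMap.rTensor C J.subtype (LinearMap.lTensor J g y) =
      LinearMap.rTensor C J.subtype 0 := by rw [hz, map_zero]
  obtain ⟨J', hJ', hle, heq⟩ := Submodule.FG.exists_rTensor_fg_inclusion_eq hJ hz0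
  rw [map_zero, ← lTensor_rTensor_comm] at heq
  haveI : Module.Finite R J' := Module.Finite.iff_fg.2 hJ'
  obtain ⟨w', hw'⟩ := h J' inferInstance _ heq
  refine ⟨LinearMap.rTensor A J'.subtype w', ?_⟩
  rw [lTensor_rTensor_comm, hw', ← LinearMap.rTensor_comp_apply]
  rfl

theorem exactAtTensor_of_finitePresentation
    (h : ∀ (M : Type u) [AddCommGroup M] [Module R M], Module.FinitePresentation R M →
      ExactAtTensor f g M)
    (M : Type u) [AddCommGroup M] [Module R M] : ExactAtTensor f g M :=
  exactAtTensor_of_forall_finite f g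
    (fun M _ _ hM => haveI := hM; exactAtTensor_of_finite f g h M) M

end Groth.Agent.Lib.Helper82.TensorExactFP
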