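import Mathlib
import Groth.Prelude.Def_WittGrp

/-!
# Truncated Witt vectors of a perfect field: local ring with maximal ideal `(p)`, `p^n = 0`
-/

namespace Groth.Agent.Lib.Helper82.TruncWitt

open WittVector

variable (p : ℕ) [hp : Fact p.Prime] (k : Type*) [Field k] [CharP k p] (n : ℕ)

/-- the zeroth component as a ring hom -/
noncomputable def pi0 (hn : 0 < n) : TruncatedWittVector p n k →+* k where
  toFun x := x.coeff ⟨0, hn⟩
  map_one' := by
    rw [← map_one (WittVector.truncate (p := p) (R := k) n), WittVector.coeff_truncate]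
    exact WittVector.one_coeff_zero p k
  map_zero' := by
    rw [← map_zero (WittVector.truncate (p := p) (R := k) n), WittVector.coeff_truncate]
    exact WittVector.zero_coeff p k 0
  map_mul' x y := by
    obtain ⟨X, rfl⟩ := WittVector.truncate_surjective p n k x
    obtain ⟨Y, rfl⟩ := WittVector.truncate_surjective p n k y
    rw [← map_mul, WittVector.coeff_truncate, WittVector.coeff_truncate, WittVector.coeff_truncate]
    exact WittVector.mul_coeff_zero X Y
  map_add' x y := by
    obtain ⟨X, rfl⟩ := WittVector.truncate_surjective p n k x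
    obtain ⟨Y, rfl⟩ := WittVector.truncate_surjective p n k y
    rw [← map_add, WittVector.coeff_truncate, WittVector.coeff_truncate, WittVector.coeff_truncate]
    exact WittVector.add_coeff_zero X Y

variable {n}

theorem pi0_apply (hn : 0 < n) (x : TruncatedWittVector p n k) :
    pi0 p k n hn x = x.coeff ⟨0, hn⟩ := rfl

theorem pi0_truncate (hn : 0 < n) (X : WittVector p k) :
    pi0 p k n hn (WittVector.truncate n X) = X.coeff 0 := by
  rw [pi0_apply, WittVector.coeff_truncate]

theorem pi0_surjective (hn : 0 < n) : Function.Surjective (pi0 p k n hn) := by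
  intro a
  refine ⟨TruncatedWittVector.mk p (fun _ => a), ?_⟩
  rw [pi0_apply, TruncatedWittVector.coeff_mk]

theorem nontrivial (hn : 0 < n) : Nontrivial (TruncatedWittVector p n k) := by
  refine ⟨⟨0, 1, ?_⟩⟩
  intro h
  have := congrArg (pi0 p k n hn) h
  rw [map_zero, map_one] at this
  exact zero_ne_one this

theorem natCast_p_pow_eq_zero : ((p : TruncatedWittVector p n k)) ^ n = 0 := by
  have h1 : ((p : TruncatedWittVector p n k)) ^ n =
      WittVector.truncate n ((p : WittVector p k) ^ n) := by
    rw [map_pow, map_natCast]
  rw [h1]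
  apply TruncatedWittVector.ext
  intro i
  rw [WittVector.coeff_truncate, TruncatedWittVector.coeff_zero]
  exact WittVector.coeff_p_pow_eq_zero p k (by have := i.2; omega)

theorem pi0_truncMap (hn : 0 < n) (f : k →+* k) (x : TruncatedWittVector p n k) :
    pi0 p k n hn (WittGrp.truncMap p n f x) = f (pi0 p k n hn x) := by
  rw [pi0_apply, pi0_apply, WittGrp.coeff_truncMap]

section perfect
variable [PerfectRing k p]

theorem isLocalRing (hn : 0 < n) : IsLocalRing (TruncatedWittVector p n k) := by
  haveI := nontrivial p k hn
  exact IsLocalRing.of_surjective' (WittVector.truncate (p := p) (R := k) n)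
    (WittVector.truncate_surjective p n k)

theorem ker_pi0 (hn : 0 < n) :
    RingHom.ker (pi0 p k n hn) = Ideal.span {(p : TruncatedWittVector p n k)} := by
  apply le_antisymm
  · intro x hx
    rw [RingHom.mem_ker] at hx
    obtain ⟨X, rfl⟩ := WittVector.truncate_surjective p n k x
    rw [pi0_truncate] at hx
    rw [Ideal.mem_span_singleton]
    by_cases hX : X = 0
    · rw [hX, map_zero]; exact dvd_zero _
    · obtain ⟨m, b, hb, hXb⟩ := WittVector.exists_eq_pow_p_mul X hX
      have hm : m ≠ 0 := by
        intro hm0
        rw [hm0, pow_zero, one_mul] at hXb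
        rw [hXb] at hx
        exact hb hx
      obtain ⟨m', rfl⟩ : ∃ m', m = m' + 1 := ⟨m - 1, by omega⟩
      refine ⟨WittVector.truncate n ((p : WittVector p k) ^ m' * b), ?_⟩
      rw [hXb, pow_succ', mul_assoc, map_mul, map_natCast]
  · rw [Ideal.span_le]
    intro x hx
    rw [Set.mem_singleton_iff] at hx
    rw [hx, SetLike.mem_coe, RingHom.mem_ker]
    have : (p : TruncatedWittVector p n k) = WittVector.truncate n (p : WittVector p k) := by
      rw [map_natCast]
    rw [this, pi0_truncate]
    exact WittVector.coeff_p_zero p k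

theorem maximalIdeal_eq (hn : 0 < n) :
    letI := isLocalRing p k hn
    IsLocalRing.maximalIdeal (TruncatedWittVector p n k) =
      Ideal.span {(p : TruncatedWittVector p n k)} := by
  letI := isLocalRing p k hn
  rw [← ker_pi0 p k hn]
  haveI : (RingHom.ker (pi0 p k n hn)).IsMaximal :=
    RingHom.ker_isMaximal_of_surjective _ (pi0_surjective p k hn)
  exact (IsLocalRing.eq_maximalIdeal this).symm

end perfect

end Groth.Agent.Lib.Helper82.TruncWitt
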