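import Mathlib
import Groth.Agent.Lib.Helper82.TruncWitt
import Groth.Agent.S19235

/-!
# Semilinear maps over truncated Witt vectors: reduction to the residue field
-/

namespace Groth.Agent.Lib.Helper82.TruncWitt

universe u v

variable (p : ℕ) [hp : Fact p.Prime] (k : Type u) [Field k] [CharP k p] [PerfectRing k p] {n : ℕ}

/-- the data needed to apply the local-ring statements to `W_n(k)` with `σ = truncMap f` -/
theorem exists_sigmaBar (hn : 0 < n) (f : k →+* k) (hf : Function.Surjective f)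
    (h2 : ∀ (m : ℕ) (b : Fin (m + 1) → k), b ≠ 0 →
      ∃ x : k, x ≠ 0 ∧ x = ∑ i : Fin (m + 1), (⇑f)^[i.val + 1] x * (⇑f)^[i.val] (b (Fin.rev i)))
    (h3 : ∀ c : k, ∃ y : k, f y - y + c = 0) :
    letI := isLocalRing p k hn
    ∃ (σbar : IsLocalRing.ResidueField (TruncatedWittVector p n k) →+*
        IsLocalRing.ResidueField (TruncatedWittVector p n k))
      (ρ : IsLocalRing.ResidueField (TruncatedWittVector p n k) →+* k),
      Function.Bijective ρ ∧
      (∀ r, ρ (IsLocalRing.residue _ r) = pi0 p k n hn r) ∧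
      (∀ y, ρ (σbar y) = f (ρ y)) ∧
      (∀ r : TruncatedWittVector p n k, σbar (IsLocalRing.residue _ r) =
        IsLocalRing.residue _ (WittGrp.truncMap p n f r)) ∧
      Function.Surjective σbar ∧
      (∀ (m : ℕ) (b : Fin (m + 1) → IsLocalRing.ResidueField (TruncatedWittVector p n k)), b ≠ 0 →
        ∃ x : IsLocalRing.ResidueField (TruncatedWittVector p n k), x ≠ 0 ∧
          x = ∑ i : Fin (m + 1), (⇑σbar)^[i.val + 1] x * (⇑σbar)^[i.val] (b (Fin.rev i))) ∧
      (∀ c : IsLocalRing.ResidueField (TruncatedWittVector p n k),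
        ∃ y : IsLocalRing.ResidueField (TruncatedWittVector p n k), σbar y - y + c = 0) := by
  letI := isLocalRing p k hn
  have hmaxker : IsLocalRing.maximalIdeal (TruncatedWittVector p n k) =
      RingHom.ker (pi0 p k n hn) := by
    rw [ker_pi0 p k hn]; exact maximalIdeal_eq p k hn
  have hσ𝔪 : IsLocalRing.maximalIdeal (TruncatedWittVector p n k) ≤
      (IsLocalRing.maximalIdeal (TruncatedWittVector p n k)).comap (WittGrp.truncMap p n f) := by
    intro x hx
    rw [Ideal.mem_comap, hmaxker, RingHom.mem_ker, pi0_truncMap]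
    rw [hmaxker, RingHom.mem_ker] at hx
    rw [hx, map_zero]
  let σbar : IsLocalRing.ResidueField (TruncatedWittVector p n k) →+*
      IsLocalRing.ResidueField (TruncatedWittVector p n k) :=
    Ideal.quotientMap _ (WittGrp.truncMap p n f) hσ𝔪
  let ρ : IsLocalRing.ResidueField (TruncatedWittVector p n k) →+* k :=
    Ideal.Quotient.lift _ (pi0 p k n hn) (fun a ha => by
      rw [hmaxker, RingHom.mem_ker] at ha; exact ha)
  have hρres : ∀ r, ρ (IsLocalRing.residue _ r) = pi0 p k n hn r := fun r => rfl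
  have hσbarres : ∀ r : TruncatedWittVector p n k, σbar (IsLocalRing.residue _ r) =
      IsLocalRing.residue _ (WittGrp.truncMap p n f r) := fun r => rfl
  have hρbij : Function.Bijective ρ := by
    refine ⟨RingHom.injective ρ, ?_⟩
    intro a
    obtain ⟨r, hr⟩ := pi0_surjective p k hn a
    exact ⟨IsLocalRing.residue _ r, by rw [hρres, hr]⟩
  have hρσ : ∀ y, ρ (σbar y) = f (ρ y) := by
    intro y
    obtain ⟨r, rfl⟩ := IsLocalRing.residue_surjective y
    rw [hσbarres, hρres, hρres, pi0_truncMap]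
  have hρσiter : ∀ (i : ℕ) y, ρ ((⇑σbar)^[i] y) = (⇑f)^[i] (ρ y) := by
    intro i
    induction i with
    | zero => intro y; rfl
    | succ i ih =>
      intro y
      rw [Function.iterate_succ_apply, ih, hρσ, ← Function.iterate_succ_apply]
  refine ⟨σbar, ρ, hρbij, hρres, hρσ, hσbarres, ?_, ?_, ?_⟩
  · intro y
    obtain ⟨a, ha⟩ := hf (ρ y)
    obtain ⟨x, rfl⟩ := hρbij.2 a
    exact ⟨x, hρbij.1 (by rw [hρσ, ha])⟩
  · intro m b hb
    have hb' : (fun i => ρ (b i)) ≠ 0 := by
      intro h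
      apply hb
      funext i
      apply hρbij.1
      rw [Pi.zero_apply, map_zero]
      exact congrFun h i
    obtain ⟨x₀, hx₀, hx⟩ := h2 m (fun i => ρ (b i)) hb'
    obtain ⟨x, rfl⟩ := hρbij.2 x₀
    refine ⟨x, ?_, ?_⟩
    · intro h; apply hx₀; rw [h, map_zero]
    · apply hρbij.1
      rw [map_sum]
      conv_lhs => rw [hx]
      apply Finset.sum_congr rfl
      intro i _
      rw [map_mul, hρσiter, hρσiter]
  · intro c
    obtain ⟨y₀, hy₀⟩ := h3 (ρ c)
    obtain ⟨y, rfl⟩ := hρbij.2 y₀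
    refine ⟨y, hρbij.1 ?_⟩
    rw [map_add, map_sub, hρσ, map_zero, hy₀]

theorem sub_surjective (hn : 0 < n) (f : k →+* k) (hf : Function.Surjective f)
    (h2 : ∀ (m : ℕ) (b : Fin (m + 1) → k), b ≠ 0 →
      ∃ x : k, x ≠ 0 ∧ x = ∑ i : Fin (m + 1), (⇑f)^[i.val + 1] x * (⇑f)^[i.val] (b (Fin.rev i)))
    (h3 : ∀ c : k, ∃ y : k, f y - y + c = 0)
    (M : Type v) [AddCommGroup M] [Module (TruncatedWittVector p n k) M]
    [Module.Finite (TruncatedWittVector p n k) M]
    (T : M →ₛₗ[WittGrp.truncMap p n f] M) :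
    Function.Surjective (fun m : M => m - T m) := by
  letI := isLocalRing p k hn
  obtain ⟨σbar, ρ, -, -, -, hσbarres, hsurj, h2', h3'⟩ := exists_sigmaBar p k hn f hf h2 h3
  exact Groth.Agent.S19235.result p (TruncatedWittVector p n k) (maximalIdeal_eq p k hn) n
    (natCast_p_pow_eq_zero p k) (WittGrp.truncMap p n f) σbar hσbarres hsurj h2' h3' M T

end Groth.Agent.Lib.Helper82.TruncWitt
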