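import Mathlib
import Groth.Agent.Lib.Helper82.FlatDedekind

/-!
# Universally open neighbourhoods over a Dedekind-like base (helper82)

* `flat_of_weakAss'` : pointwise-dimension version of `FlatDedekind.flat_iff_weakAss`;
* `isClosed_sUnion_irreducibleComponents` : in a locally Noetherian scheme any union of irreducible
  components is closed;
* `UniversallyOpen.of_comp_surjective`;
* `universallyOpen_of_dense` : lft morphism to a Dedekind-like scheme whose maximal points all map
  to the generic point is universally open.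
-/

set_option linter.style.haveILetI false
universe u
open CategoryTheory AlgebraicGeometry TopologicalSpace Opposite IsLocalRing
open Groth.Agent.Lib.QCoh Groth.Agent.Lib.Helper18 Groth.Agent.Lib.Helper82.FlatDedekind

namespace Groth.Agent.Lib.Helper82.UnivOpenDedekind

section PointwiseDim

theorem valuationRing_localization_of_regular' {Y : Scheme.{u}} [IsIntegral Y]
    (hreg : ∀ y : Y, IsRegularLocalRing (Y.presheaf.stalk y))
    (hdim : ∀ y : Y, ringKrullDim (Y.presheaf.stalk y) ≤ 1)
    {U : Y.Opens} (hU : IsAffineOpen U) [Nonempty U] (P : Ideal Γ(Y, U)) [hP : P.IsPrime] :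
    ValuationRing (Localization P.primeCompl) := by
  set y : PrimeSpectrum Γ(Y, U) := ⟨P, hP⟩ with hy
  have hyU := fromSpec_mem hU y
  letI : Algebra Γ(Y, U) (Y.presheaf.stalk (hU.fromSpec y)) :=
    TopCat.Presheaf.algebra_section_stalk Y.presheaf ⟨hU.fromSpec y, hyU⟩
  haveI : IsLocalization.AtPrime (Y.presheaf.stalk (hU.fromSpec y)) P :=
    hU.isLocalization_stalk' y hyU
  haveI := hreg (hU.fromSpec y)
  haveI : IsPrincipalIdealRing (Y.presheaf.stalk (hU.fromSpec y)) :=
    TFDimOne74.isPrincipalIdealRing_of_isRegularLocalRing _ (hdim _)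
  haveI : ValuationRing (Y.presheaf.stalk (hU.fromSpec y)) := inferInstance
  exact valuationRing_of_ringEquiv
    (IsLocalization.algEquiv P.primeCompl (Localization P.primeCompl)
      (Y.presheaf.stalk (hU.fromSpec y))).toRingEquiv

theorem flat_appLE_of_weakAss' {X Y : Scheme.{u}} (f : X ⟶ Y) [IsIntegral Y]
    (hreg : ∀ y : Y, IsRegularLocalRing (Y.presheaf.stalk y))
    (hdim : ∀ y : Y, ringKrullDim (Y.presheaf.stalk y) ≤ 1)
    (h : ∀ x : X, Curv2.IsWeakAssPoint (Coh.structureModule X) x → f.base x = genericPoint Y)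
    (U : Y.Opens) (hU : IsAffineOpen U) (V : X.Opens) (hV : IsAffineOpen V) (e : V ≤ f ⁻¹ᵁ U) :
    (f.appLE U V e).hom.Flat := by
  by_cases hne : Nonempty V
  swap
  · have hsub : Subsingleton Γ(X, V) := by
      have hV0 : V = ⊥ := by
        ext x
        simp only [Opens.coe_bot, Set.mem_empty_iff_false, iff_false]
        intro hx
        exact hne ⟨⟨x, hx⟩⟩
      subst hV0
      infer_instance
    letI := (f.appLE U V e).hom.toAlgebra
    show Module.Flat Γ(Y, U) Γ(X, V)
    infer_instance
  obtain ⟨⟨x0, hx0⟩⟩ := hne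
  haveI : Nonempty U := ⟨⟨f.base x0, e hx0⟩⟩
  letI := (f.appLE U V e).hom.toAlgebra
  show Module.Flat Γ(Y, U) Γ(X, V)
  rw [Module.Flat.flat_iff_torsion_eq_bot_of_valuationRing_localization_isMaximal
    (fun P _ => valuationRing_localization_of_regular' hreg hdim hU P)]
  rw [Submodule.eq_bot_iff]
  intro a ha
  rw [Submodule.mem_torsion_iff] at ha
  obtain ⟨⟨b, hb⟩, hba⟩ := ha
  have hb0 : b ≠ 0 := nonZeroDivisors.ne_zero hb
  by_contra ha0
  obtain ⟨x', hx'V, hx'w, hgerm⟩ := exists_isWeakAssPoint_structureModule_of_ne_zero hV a ha0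
  have hfx : f.base x' = genericPoint Y := h x' hx'w
  have hmul : (f.appLE U V e).hom b * a = 0 := by
    have := hba
    simpa [Algebra.smul_def, RingHom.algebraMap_toAlgebra] using this
  have hmem : (f.appLE U V e).hom b ∈ (hV.primeIdealOf ⟨x', hx'V⟩).asIdeal := by
    rw [mem_primeIdealOf_iff]
    intro hu
    apply hgerm
    have h1 : X.presheaf.germ V x' hx'V ((f.appLE U V e).hom b) * X.presheaf.germ V x' hx'V a = 0 := by
      rw [← map_mul, hmul, map_zero]
    exact (hu.mul_right_eq_zero).1 h1
  have hcomap := IsAffineOpen.comap_primeIdealOf_appLE (f := f) (x := x') U hU V hV e hx'V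
  have hb1 : b ∈ (hU.primeIdealOf ⟨f.base x', e hx'V⟩).asIdeal := by
    rw [← hcomap]
    exact hmem
  have hηU : genericPoint Y ∈ U := hfx ▸ e hx'V
  have hP2 : hU.primeIdealOf ⟨f.base x', e hx'V⟩ = hU.primeIdealOf ⟨genericPoint Y, hηU⟩ := by
    congr 1
    exact Subtype.ext hfx
  rw [hP2, hU.primeIdealOf_genericPoint, genericPoint_eq_bot_of_affine] at hb1
  exact hb0 (by simpa using hb1)

/-- pointwise-dimension version of `FlatDedekind.flat_iff_weakAss` -/
theorem flat_of_weakAss' {X Y : Scheme.{u}} (f : X ⟶ Y) [IsIntegral Y]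
    (hreg : ∀ y : Y, IsRegularLocalRing (Y.presheaf.stalk y))
    (hdim : ∀ y : Y, ringKrullDim (Y.presheaf.stalk y) ≤ 1)
    (h : ∀ x : X, Curv2.IsWeakAssPoint (Coh.structureModule X) x → f.base x = genericPoint Y) :
    Flat f := by
  rw [HasRingHomProperty.iff_appLE (P := @Flat)]
  intro U V e
  exact flat_appLE_of_weakAss' f hreg hdim h U.1 U.2 V.1 V.2 e

end PointwiseDim

section Top

/-- in a locally Noetherian scheme, any union of irreducible components is closed -/
theorem isClosed_sUnion_irreducibleComponents {X : Scheme.{u}} [IsLocallyNoetherian X]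
    (S : Set (Set X)) (hS : S ⊆ irreducibleComponents X) : IsClosed (⋃₀ S) := by
  rw [(TopologicalSpace.IsOpenCover.mk (iSup_affineOpens_eq_top X)).isClosed_iff_coe_preimage]
  intro W
  haveI : IsNoetherianRing Γ(X, W.1) := IsLocallyNoetherian.component_noetherian W
  haveI : NoetherianSpace W.1 := noetherianSpace_of_isAffineOpen W.1 W.2
  have hfin : (irreducibleComponents W.1).Finite :=
    NoetherianSpace.finite_irreducibleComponents
  have hemb : Topology.IsOpenEmbedding ((↑) : W.1 → X) := W.1.isOpenEmbedding'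
  have heq : ((↑) : W.1 → X) ⁻¹' (⋃₀ S) =
      ⋃₀ {T | T ∈ irreducibleComponents W.1 ∧ ∃ Z ∈ S, T = ((↑) : W.1 → X) ⁻¹' Z} := by
    ext w
    simp only [Set.mem_preimage, Set.mem_sUnion]
    constructor
    · rintro ⟨Z, hZ, hwZ⟩
      refine ⟨((↑) : W.1 → X) ⁻¹' Z, ⟨?_, Z, hZ, rfl⟩, hwZ⟩
      exact preimage_mem_irreducibleComponents (hS hZ) hemb ⟨w, hwZ, w, rfl⟩
    · rintro ⟨T, ⟨-, Z, hZ, rfl⟩, hwT⟩
      exact ⟨Z, hZ, hwT⟩
  rw [heq, Set.sUnion_eq_biUnion]
  refine Set.Finite.isClosed_biUnion (hfin.subset (fun T hT => hT.1)) (fun T hT => ?_)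
  exact isClosed_of_mem_irreducibleComponents T hT.1

/-- a point without proper generization is the generic point of an irreducible component -/
theorem closure_singleton_mem_irreducibleComponents {X : Type*} [TopologicalSpace X]
    [QuasiSober X] [T0Space X] (x : X) (h : ∀ x' : X, x' ⤳ x → x' = x) :
    closure {x} ∈ irreducibleComponents X := by
  refine ⟨isIrreducible_singleton.closure, fun Z hZ hxZ => ?_⟩
  obtain ⟨x', hx'⟩ := QuasiSober.sober hZ.closure isClosed_closure
  have hx : x ∈ closure {x'} := by
    rw [hx'.def]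
    exact subset_closure (hxZ (subset_closure rfl))
  have : x' = x := h x' (specializes_iff_mem_closure.mpr hx)
  subst this
  intro z hz
  have : z ∈ closure Z := subset_closure hz
  rwa [← hx'.def] at this

end Top

section Main

/-- The reduced induced subscheme on a closed subset is reduced (from helper's S2285). -/
theorem isReduced_vanishingIdeal_subscheme {X : Scheme.{u}} (W : TopologicalSpace.Closeds X) :
    IsReduced (Scheme.IdealSheafData.vanishingIdeal W).subscheme := by
  have : ∀ U, IsReduced ((Scheme.IdealSheafData.vanishingIdeal W).subschemeCover.openCover.X U) := by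
    intro (U : X.affineOpens)
    change IsReduced (Spec (.of <| Γ(X, U.1) ⧸ (Scheme.IdealSheafData.vanishingIdeal W).ideal U))
    have : _root_.IsReduced (Γ(X, U.1) ⧸ (Scheme.IdealSheafData.vanishingIdeal W).ideal U) := by
      rw [← Ideal.isRadical_iff_quotient_reduced, Scheme.IdealSheafData.vanishingIdeal_ideal]
      exact PrimeSpectrum.isRadical_vanishingIdeal _
    infer_instance
  exact IsReduced.of_openCover _ (Scheme.IdealSheafData.vanishingIdeal W).subschemeCover.openCover

set_option backward.isDefEq.respectTransparency.types false in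
lemma UniversallyOpen.of_comp_surjective {X Y Z : Scheme.{u}} (f : X ⟶ Y) (g : Y ⟶ Z)
    [UniversallyOpen (f ≫ g)] [Surjective f] : UniversallyOpen g := by
  constructor
  intro X' Y' i₁ i₂ f' H
  have h1 := UniversallyOpen.universally_isOpenMap (f := f ≫ g) _ _ _
    ((IsPullback.of_hasPullback i₁ f).paste_horiz H)
  have hs : Function.Surjective (Limits.pullback.fst i₁ f).base :=
    (MorphismProperty.pullback_fst (P := @Surjective) _ _ ‹_›).1
  intro V hV
  have : f'.base '' V = (Limits.pullback.fst i₁ f ≫ f').base ''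
      ((Limits.pullback.fst i₁ f).base ⁻¹' V) := by
    rw [Scheme.Hom.comp_base, TopCat.coe_comp, Set.image_comp, Set.image_preimage_eq _ hs]
  rw [this]
  exact h1 _ (hV.preimage (Scheme.Hom.continuous _))

/-- a morphism locally of finite type to a Dedekind-like scheme all of whose irreducible
components dominate the base is universally open -/
theorem universallyOpen_of_dense {X Y : Scheme.{u}} [IsLocallyNoetherian Y] [IsIntegral Y]
    (hreg : ∀ y : Y, IsRegularLocalRing (Y.presheaf.stalk y))
    (hdim : ∀ y : Y, ringKrullDim (Y.presheaf.stalk y) ≤ 1)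
    (f : X ⟶ Y) [LocallyOfFiniteType f]
    (h : ∀ x : X, (∀ x' : X, x' ⤳ x → x' = x) → f.base x = genericPoint Y) :
    UniversallyOpen f := by
  obtain ⟨I, hI⟩ : ∃ I : X.IdealSheafData,
      I = Scheme.IdealSheafData.vanishingIdeal (⊤ : TopologicalSpace.Closeds X) := ⟨_, rfl⟩
  haveI : IsReduced I.subscheme := hI ▸ isReduced_vanishingIdeal_subscheme ⊤
  have hrange : Set.range I.subschemeι = Set.univ := by
    rw [Scheme.IdealSheafData.range_subschemeι, hI, Scheme.IdealSheafData.vanishingIdeal_top]
    rfl
  haveI : Surjective I.subschemeι := ⟨Set.range_eq_univ.1 hrange⟩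
  have hemb : Topology.IsEmbedding I.subschemeι := I.subschemeι.isEmbedding
  haveI : Flat (I.subschemeι ≫ f) := by
    refine flat_of_weakAss' _ hreg hdim (fun w hw => ?_)
    have hgen := generic_of_isWeakAssPoint_structureModule_of_isReduced w hw
    rw [Scheme.Hom.comp_apply]
    apply h
    intro x' hx'
    obtain ⟨w', rfl⟩ := (inferInstance : Surjective I.subschemeι).surj x'
    rw [hemb.specializes_iff] at hx'
    rw [hgen w' hx']
  haveI : UniversallyOpen (I.subschemeι ≫ f) := inferInstance
  exact UniversallyOpen.of_comp_surjective I.subschemeι f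

end Main

end Groth.Agent.Lib.Helper82.UnivOpenDedekind
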