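import Mathlib

/-!
# Veronese subrings: `A^{(d)}` is a direct summand of `A` as an `A^{(d)}`-module

Setting: graded algebras `𝒜` on `A`, `ℬ` on `B`, an injective algebra map `φ : B → A` with
`φ (ℬ n) = 𝒜 (n * d)`.  Main result: `Ideal.comap φ (Ideal.map φ I) = I`.
-/

namespace Groth.Agent.Lib.Helper82.Veronese

open DirectSum

variable {R A B : Type*} [CommRing R] [CommRing A] [Algebra R A] [CommRing B] [Algebra R B]
  (𝒜 : ℕ → Submodule R A) [GradedAlgebra 𝒜] (ℬ : ℕ → Submodule R B) [GradedAlgebra ℬ]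
  (d : ℕ) (φ : B →ₐ[R] A)

/-- the complementary summand: sum of the graded pieces in degrees not divisible by `d` -/
def compl : Submodule R A := ⨆ e : {e : ℕ // ¬ d ∣ e}, 𝒜 e

variable {𝒜 ℬ d φ}

omit [GradedAlgebra 𝒜] [GradedAlgebra ℬ] in
include ℬ in
theorem map_mem (hdeg : ∀ n : ℕ, Submodule.map φ.toLinearMap (ℬ n) = 𝒜 (n * d)) {n : ℕ} {b : B}
    (hb : b ∈ ℬ n) : φ b ∈ 𝒜 (n * d) := by
  rw [← hdeg n]
  exact Submodule.mem_map_of_mem hb

omit [GradedAlgebra ℬ] in
theorem range_sup_compl (hdeg : ∀ n : ℕ, Submodule.map φ.toLinearMap (ℬ n) = 𝒜 (n * d)) :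
    LinearMap.range φ.toLinearMap ⊔ compl 𝒜 d = ⊤ := by
  rw [eq_top_iff, ← (DirectSum.Decomposition.isInternal 𝒜).submodule_iSup_eq_top]
  apply iSup_le
  intro e
  by_cases h : d ∣ e
  · obtain ⟨n, rfl⟩ := h
    rw [mul_comm, ← hdeg n]
    exact le_sup_of_le_left (LinearMap.map_le_range)
  · exact le_sup_of_le_right (le_iSup (fun e : {e : ℕ // ¬ d ∣ e} => 𝒜 e) ⟨e, h⟩)

theorem disjoint_range_compl (hdeg : ∀ n : ℕ, Submodule.map φ.toLinearMap (ℬ n) = 𝒜 (n * d)) :
    Disjoint (LinearMap.range φ.toLinearMap) (compl 𝒜 d) := by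
  have hind := (DirectSum.Decomposition.isInternal 𝒜).submodule_iSupIndep
  have h1 : LinearMap.range φ.toLinearMap ≤ ⨆ e ∈ {e : ℕ | d ∣ e}, 𝒜 e := by
    rw [LinearMap.range_eq_map, ← (DirectSum.Decomposition.isInternal ℬ).submodule_iSup_eq_top,
      Submodule.map_iSup]
    apply iSup_le
    intro n
    rw [hdeg n]
    exact le_iSup₂ (f := fun e (_ : e ∈ {e : ℕ | d ∣ e}) => 𝒜 e) (n * d) (Dvd.intro_left n rfl)
  have h2 : compl 𝒜 d = ⨆ e ∈ {e : ℕ | ¬ d ∣ e}, 𝒜 e := by
    unfold compl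
    rw [iSup_subtype']
    rfl
  rw [h2]
  refine Disjoint.mono_left h1 (hind.disjoint_biSup_biSup ?_)
  rw [Set.disjoint_left]
  intro e he hne
  exact hne he

include ℬ in
theorem mul_mem_compl (hdeg : ∀ n : ℕ, Submodule.map φ.toLinearMap (ℬ n) = 𝒜 (n * d))
    (b : B) {y : A} (hy : y ∈ compl 𝒜 d) : φ b * y ∈ compl 𝒜 d := by
  have hb : b ∈ (⨆ n, ℬ n) := by
    rw [(DirectSum.Decomposition.isInternal ℬ).submodule_iSup_eq_top]; trivial
  induction hb using Submodule.iSup_induction' with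
  | mem n b hb =>
    unfold compl at hy
    induction hy using Submodule.iSup_induction' with
    | mem e y hy =>
      have h1 : φ b * y ∈ 𝒜 (n * d + e) := SetLike.mul_mem_graded (map_mem (ℬ := ℬ) hdeg hb) hy
      have h2 : ¬ d ∣ n * d + e.1 := by
        intro h
        apply e.2
        exact (Nat.dvd_add_right (Dvd.intro_left n rfl)).mp h
      exact (le_iSup (fun e : {e : ℕ // ¬ d ∣ e} => 𝒜 e) ⟨n * d + e.1, h2⟩) h1
    | zero => rw [mul_zero]; exact Submodule.zero_mem _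
    | add y z _ _ hy hz => rw [mul_add]; exact Submodule.add_mem _ hy hz
  | zero => rw [map_zero, zero_mul]; exact Submodule.zero_mem _
  | add b c _ _ hb hc => rw [map_add, add_mul]; exact Submodule.add_mem _ hb hc

include ℬ 𝒜 in
/-- `A^{(d)}` is a direct summand: contraction of the extension of an ideal is the ideal. -/
theorem comap_map_eq (hφ : Function.Injective φ)
    (hdeg : ∀ n : ℕ, Submodule.map φ.toLinearMap (ℬ n) = 𝒜 (n * d)) (I : Ideal B) :
    Ideal.comap φ (Ideal.map φ I) = I := by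
  apply le_antisymm _ Ideal.le_comap_map
  intro b hb
  rw [Ideal.mem_comap] at hb
  -- T' := φ(I) + A''
  have key : ∀ x ∈ Ideal.map φ I, ∀ a : A, ∃ c ∈ I, ∃ y ∈ compl 𝒜 d, a * x = φ c + y := by
    intro x hx
    unfold Ideal.map at hx
    induction hx using Submodule.span_induction with
    | mem x hx =>
      obtain ⟨i, hi, rfl⟩ := hx
      intro a
      have ha : a ∈ LinearMap.range φ.toLinearMap ⊔ compl 𝒜 d := by
        rw [range_sup_compl (ℬ := ℬ) hdeg]; trivial
      obtain ⟨a', ⟨b', rfl⟩, a'', ha'', rfl⟩ := Submodule.mem_sup.mp ha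
      refine ⟨b' * i, I.mul_mem_left _ hi, φ i * a'', mul_mem_compl (ℬ := ℬ) hdeg i ha'', ?_⟩
      simp only [AlgHom.toLinearMap_apply, map_mul]
      ring
    | zero =>
      intro a
      exact ⟨0, I.zero_mem, 0, Submodule.zero_mem _, by simp⟩
    | add x y _ _ hx hy =>
      intro a
      obtain ⟨c₁, hc₁, y₁, hy₁, h₁⟩ := hx a
      obtain ⟨c₂, hc₂, y₂, hy₂, h₂⟩ := hy a
      refine ⟨c₁ + c₂, I.add_mem hc₁ hc₂, y₁ + y₂, Submodule.add_mem _ hy₁ hy₂, ?_⟩
      rw [mul_add, h₁, h₂, map_add]; ring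
    | smul a' x _ hx =>
      intro a
      obtain ⟨c, hc, y, hy, h⟩ := hx (a * a')
      exact ⟨c, hc, y, hy, by rw [smul_eq_mul, ← mul_assoc, h]⟩
  obtain ⟨c, hc, y, hy, h⟩ := key _ hb 1
  rw [one_mul] at h
  have hy' : y ∈ LinearMap.range φ.toLinearMap := by
    refine ⟨b - c, ?_⟩
    simp only [AlgHom.toLinearMap_apply, map_sub, h]
    ring
  have hy0 : y = 0 := by
    have := (disjoint_range_compl (ℬ := ℬ) hdeg).le_bot ⟨hy', hy⟩
    simpa using this
  rw [hy0, add_zero] at h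
  rw [hφ h]
  exact hc

include ℬ in
theorem exists_finset_range_le_adjoin [Algebra.FiniteType (𝒜 0) A] (hd : 0 < d)
    (hdeg : ∀ n : ℕ, Submodule.map φ.toLinearMap (ℬ n) = 𝒜 (n * d)) :
    ∃ G : Finset A, (∀ g ∈ G, g ∈ LinearMap.range φ.toLinearMap) ∧
      ∀ a ∈ LinearMap.range φ.toLinearMap, a ∈ Algebra.adjoin (𝒜 0) (G : Set A) := by
  classical
  obtain ⟨s, hs, hhom⟩ := GradedAlgebra.exists_finset_adjoin_eq_top_and_homogeneous 𝒜
  -- degree-n pieces lie in the range
  have hpiece : ∀ n, ∀ a ∈ 𝒜 (n * d), a ∈ LinearMap.range φ.toLinearMap := by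
    intro n a ha
    rw [← hdeg n] at ha
    exact LinearMap.map_le_range ha
  have hrange_mul : ∀ a b, a ∈ LinearMap.range φ.toLinearMap → b ∈ LinearMap.range φ.toLinearMap →
      a * b ∈ LinearMap.range φ.toLinearMap := by
    rintro _ _ ⟨a, rfl⟩ ⟨b, rfl⟩
    exact ⟨a * b, by simp⟩
  set P : Set A := (fun x => x ^ d) '' (s : Set A) with hP
  set C' : Subalgebra (𝒜 0) A := Algebra.adjoin (𝒜 0) P with hC'
  have hPrange : ∀ x ∈ s, x ^ d ∈ LinearMap.range φ.toLinearMap := by
    intro x hx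
    obtain ⟨i, hi⟩ := hhom x hx
    have := SetLike.pow_mem_graded d hi
    rw [smul_eq_mul, mul_comm] at this
    exact hpiece i _ this
  have hC'range : ∀ c ∈ C', c ∈ LinearMap.range φ.toLinearMap := by
    intro c hc
    induction hc using Algebra.adjoin_induction with
    | mem x hx =>
      obtain ⟨y, hy, rfl⟩ := hx
      exact hPrange y hy
    | algebraMap r =>
      apply hpiece 0
      rw [zero_mul]
      exact r.2
    | add x y _ _ hx hy => exact Submodule.add_mem _ hx hy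
    | mul x y _ _ hx hy => exact hrange_mul _ _ hx hy
  -- A is a finite C'-module
  have hfin : Module.Finite C' A := by
    have hint : ∀ x ∈ (s : Set A), IsIntegral C' x := by
      intro x hx
      apply IsIntegral.of_pow hd
      have hmem : x ^ d ∈ C' := Algebra.subset_adjoin ⟨x, hx, rfl⟩
      exact isIntegral_algebraMap (x := (⟨x ^ d, hmem⟩ : C'))
    have hfg := fg_adjoin_of_finite s.finite_toSet hint
    have htop : Algebra.adjoin C' (s : Set A) = ⊤ := by
      rw [eq_top_iff]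
      intro a _
      have ha : a ∈ Algebra.adjoin (𝒜 0) (s : Set A) := by rw [hs]; trivial
      induction ha using Algebra.adjoin_induction with
      | mem x hx => exact Algebra.subset_adjoin hx
      | algebraMap r =>
        have : algebraMap (𝒜 0) A r = algebraMap C' A (algebraMap (𝒜 0) C' r) := rfl
        rw [this]
        exact Subalgebra.algebraMap_mem _ _
      | add x y _ _ hx hy => exact Subalgebra.add_mem _ (hx trivial) (hy trivial)
      | mul x y _ _ hx hy => exact Subalgebra.mul_mem _ (hx trivial) (hy trivial)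
    rw [htop] at hfg
    exact ⟨by simpa using hfg⟩
  obtain ⟨F₀, hF₀⟩ := hfin.fg_top
  have hdecomp : ∀ a : A, ∃ a' ∈ LinearMap.range φ.toLinearMap, ∃ a'' ∈ compl 𝒜 d, a' + a'' = a := by
    intro a
    have ha : a ∈ LinearMap.range φ.toLinearMap ⊔ compl 𝒜 d := by
      rw [range_sup_compl (ℬ := ℬ) hdeg]; trivial
    exact Submodule.mem_sup.mp ha
  choose f' hf' f'' hf'' hff using hdecomp
  set G : Finset A := s.image (fun x => x ^ d) ∪ F₀.image f' with hG
  have hGrange : ∀ g ∈ G, g ∈ LinearMap.range φ.toLinearMap := by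
    intro g hg
    rcases Finset.mem_union.mp hg with hg | hg
    · obtain ⟨x, hx, rfl⟩ := Finset.mem_image.mp hg
      exact hPrange x hx
    · obtain ⟨x, hx, rfl⟩ := Finset.mem_image.mp hg
      exact hf' x
  refine ⟨G, hGrange, ?_⟩
  have hadjrange : ∀ c ∈ Algebra.adjoin (𝒜 0) (G : Set A), c ∈ LinearMap.range φ.toLinearMap := by
    intro c hc
    induction hc using Algebra.adjoin_induction with
    | mem x hx => exact hGrange x hx
    | algebraMap r =>
      apply hpiece 0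
      rw [zero_mul]
      exact r.2
    | add x y _ _ hx hy => exact Submodule.add_mem _ hx hy
    | mul x y _ _ hx hy => exact hrange_mul _ _ hx hy
  have hC'le : C' ≤ Algebra.adjoin (𝒜 0) (G : Set A) := by
    apply Algebra.adjoin_mono
    rintro _ ⟨x, hx, rfl⟩
    rw [hG]
    simp only [Finset.coe_union, Finset.coe_image, Set.mem_union, Set.mem_image, Finset.mem_coe]
    exact Or.inl ⟨x, hx, rfl⟩
  have key : ∀ a ∈ Submodule.span C' (F₀ : Set A),
      ∃ g ∈ Algebra.adjoin (𝒜 0) (G : Set A), a - g ∈ compl 𝒜 d := by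
    intro a ha
    induction ha using Submodule.span_induction with
    | mem x hx =>
      refine ⟨f' x, Algebra.subset_adjoin ?_, ?_⟩
      · rw [hG]
        simp only [Finset.coe_union, Finset.coe_image, Set.mem_union, Set.mem_image,
          Finset.mem_coe]
        exact Or.inr ⟨x, hx, rfl⟩
      · have : x - f' x = f'' x := by
          rw [sub_eq_iff_eq_add]; exact (hff x).symm.trans (add_comm _ _)
        rw [this]; exact hf'' x
    | zero => exact ⟨0, Subalgebra.zero_mem _, by simp⟩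
    | add x y _ _ hx hy =>
      obtain ⟨g₁, hg₁, h₁⟩ := hx
      obtain ⟨g₂, hg₂, h₂⟩ := hy
      refine ⟨g₁ + g₂, Subalgebra.add_mem _ hg₁ hg₂, ?_⟩
      have : x + y - (g₁ + g₂) = (x - g₁) + (y - g₂) := by ring
      rw [this]; exact Submodule.add_mem _ h₁ h₂
    | smul c x _ hx =>
      obtain ⟨g, hg, h⟩ := hx
      refine ⟨(c : A) * g, Subalgebra.mul_mem _ (hC'le c.2) hg, ?_⟩
      have : c • x - (c : A) * g = (c : A) * (x - g) := by
        rw [mul_sub]; rfl
      rw [this]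
      obtain ⟨b, hb⟩ := hC'range c c.2
      rw [← hb]
      exact mul_mem_compl (ℬ := ℬ) hdeg b h
  intro a ha
  obtain ⟨g, hg, h⟩ := key a (by rw [hF₀]; trivial)
  have h0 : a - g = 0 := by
    have := (disjoint_range_compl (ℬ := ℬ) hdeg).le_bot
      ⟨Submodule.sub_mem _ ha (hadjrange g hg), h⟩
    simpa using this
  rw [sub_eq_zero] at h0
  rw [h0]; exact hg

include 𝒜 in
theorem finiteType [Algebra.FiniteType (𝒜 0) A] (hd : 0 < d) (hφ : Function.Injective φ)
    (hdeg : ∀ n : ℕ, Submodule.map φ.toLinearMap (ℬ n) = 𝒜 (n * d)) :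
    Algebra.FiniteType (ℬ 0) B := by
  classical
  obtain ⟨G, hGr, hG⟩ := exists_finset_range_le_adjoin (𝒜 := 𝒜) (ℬ := ℬ) (φ := φ) hd hdeg
  choose! pre hpre using hGr
  refine ⟨⟨G.image pre, ?_⟩⟩
  have key : ∀ a ∈ Algebra.adjoin (𝒜 0) (G : Set A),
      ∃ b ∈ Algebra.adjoin (ℬ 0) ((G.image pre : Finset B) : Set B), φ b = a := by
    intro a ha
    induction ha using Algebra.adjoin_induction with
    | mem g hg =>
      refine ⟨pre g, Algebra.subset_adjoin ?_, hpre g hg⟩
      simp only [Finset.coe_image, Set.mem_image, Finset.mem_coe]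
      exact ⟨g, hg, rfl⟩
    | algebraMap r =>
      have hr : (r : A) ∈ 𝒜 (0 * d) := by rw [zero_mul]; exact r.2
      rw [← hdeg 0] at hr
      obtain ⟨b₀, hb₀, hb₀r⟩ := hr
      refine ⟨algebraMap (ℬ 0) B ⟨b₀, hb₀⟩, Subalgebra.algebraMap_mem _ _, ?_⟩
      exact hb₀r
    | add x y _ _ hx hy =>
      obtain ⟨b₁, hb₁, h₁⟩ := hx
      obtain ⟨b₂, hb₂, h₂⟩ := hy
      exact ⟨b₁ + b₂, Subalgebra.add_mem _ hb₁ hb₂, by rw [map_add, h₁, h₂]⟩
    | mul x y _ _ hx hy =>
      obtain ⟨b₁, hb₁, h₁⟩ := hx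
      obtain ⟨b₂, hb₂, h₂⟩ := hy
      exact ⟨b₁ * b₂, Subalgebra.mul_mem _ hb₁ hb₂, by rw [map_mul, h₁, h₂]⟩
  rw [eq_top_iff]
  intro b _
  obtain ⟨b', hb', h⟩ := key (φ b) (hG _ ⟨b, rfl⟩)
  rw [← hφ h]
  exact hb'

end Groth.Agent.Lib.Helper82.Veronese
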