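import Mathlib
import Groth.Agent.Lib.Helper14.WittHomog

/-!
# Isobaric evaluation for filtrations on truncated Witt vectors (helper82)

`T` is a subring of `B` which is "root closed" (`z ^ N ∈ T → z ∈ T`), `B` has characteristic `p`.
For `c : B` put `G c k = {y | y ^ p ^ (m - 1 - k) * c ∈ T}`.  Evaluating an isobaric polynomial
(such as `wittSub p j`, `wittMul p j`) at elements of the `G _ k` lands in `G _ j`.
-/

set_option autoImplicit false
universe u

namespace Groth.Agent.Lib.Helper82.WittFilIso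

open MvPolynomial

/-- root-closedness of an integrally closed domain inside a localization away from an element -/
lemma mem_range_of_pow_mem_range {A B : Type*} [CommRing A] [IsDomain A] [IsIntegrallyClosed A]
    [CommRing B] [Algebra A B] (s : A) (hs : s ≠ 0) [IsLocalization.Away s B] (z : B) (N : ℕ)
    (hN : 0 < N) (h : z ^ N ∈ (algebraMap A B).range) : z ∈ (algebraMap A B).range := by
  have hM : Submonoid.powers s ≤ nonZeroDivisors A :=
    powers_le_nonZeroDivisors_of_noZeroDivisors hs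
  have hinj : Function.Injective (algebraMap A B) := IsLocalization.injective B hM
  obtain ⟨α, hα⟩ := h
  obtain ⟨⟨a', ⟨_, k, rfl⟩⟩, hz⟩ := IsLocalization.surj (Submonoid.powers s) z
  simp only at hz
  -- hz : z * algebraMap (s^k) = algebraMap a'
  have h1 : a' ^ N = α * (s ^ k) ^ N := by
    apply hinj
    rw [map_pow, ← hz, mul_pow, map_mul, hα, map_pow]
    simp only [map_pow]
  let K := FractionRing A
  have hsk : algebraMap A K (s ^ k) ≠ 0 := by
    rw [Ne, map_eq_zero_iff _ (IsFractionRing.injective A K)]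
    exact pow_ne_zero _ hs
  have h2 : (algebraMap A K a' / algebraMap A K (s ^ k)) ^ N = algebraMap A K α := by
    rw [div_pow, ← map_pow, ← map_pow, h1, map_mul, mul_div_assoc, div_self, mul_one]
    rw [map_pow]; exact pow_ne_zero _ hsk
  obtain ⟨y, hy⟩ := IsIntegrallyClosed.exists_algebraMap_eq_of_isIntegral_pow (R := A) (K := K) hN
    (h2 ▸ isIntegral_algebraMap)
  have h3 : a' = y * s ^ k := by
    apply IsFractionRing.injective A K
    rw [map_mul, hy, div_mul_cancel₀ _ hsk]
  refine ⟨y, ?_⟩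
  have hu : IsUnit (algebraMap A B (s ^ k)) :=
    IsLocalization.map_units B (⟨s ^ k, k, rfl⟩ : Submonoid.powers s)
  apply hu.mul_right_cancel
  rw [hz, h3, map_mul]


section iso

variable {B : Type*} [CommRing B] (p : ℕ) (T : Subring B) (m : ℕ)

/-- the `k`-th graded condition: `y ^ p ^ (m - 1 - k) * c ∈ T` -/
def G (c : B) (k : ℕ) : Set B := {y | y ^ p ^ (m - 1 - k) * c ∈ T}

lemma mem_G {c : B} {k : ℕ} {y : B} : y ∈ G p T m c k ↔ y ^ p ^ (m - 1 - k) * c ∈ T := Iff.rfl

lemma zero_mem_G (hp : p ≠ 0) (c : B) (k : ℕ) : (0 : B) ∈ G p T m c k := by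
  rw [mem_G, zero_pow (pow_ne_zero _ hp), zero_mul]
  exact T.zero_mem

lemma add_mem_G [hp : Fact p.Prime] [CharP B p] {c : B} {k : ℕ} {y y' : B} (hy : y ∈ G p T m c k) (hy' : y' ∈ G p T m c k) :
    y + y' ∈ G p T m c k := by
  rw [mem_G] at *
  rw [add_pow_char_pow, add_mul]
  exact T.add_mem hy hy'

lemma intCast_mul_mem_G {c : B} {k : ℕ} {y : B} (n : ℤ) (hy : y ∈ G p T m c k) :
    (n : B) * y ∈ G p T m c k := by
  rw [mem_G] at *
  rw [mul_pow, mul_assoc]
  exact T.mul_mem (T.pow_mem (intCast_mem T n) _) hy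

lemma sum_mem_G [hp : Fact p.Prime] [CharP B p] {ι : Type*} (s : Finset ι) (f : ι → B) {c : B} {k : ℕ}
    (h : ∀ i ∈ s, f i ∈ G p T m c k) : ∑ i ∈ s, f i ∈ G p T m c k := by
  classical
  induction s using Finset.induction_on with
  | empty => simpa using zero_mem_G p T m hp.out.ne_zero c k
  | insert a s ha ih =>
    rw [Finset.sum_insert ha]
    exact add_mem_G p T m (h a (Finset.mem_insert_self a s))
      (ih (fun i hi => h i (Finset.mem_insert_of_mem hi)))

variable [hp : Fact p.Prime] (hT : ∀ (z : B) (N : ℕ), 0 < N → z ^ N ∈ T → z ∈ T)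
include hT

/-- monomial lemma -/
lemma monomial_mem_G {σ : Type*} (d : σ →₀ ℕ) (kk : σ → ℕ) (cs xs : σ → B) (j : ℕ) (hj : j < m)
    (hk : ∀ v ∈ d.support, kk v < m)
    (hx : ∀ v ∈ d.support, xs v ∈ G p T m (cs v) (kk v))
    (C : B) (hC : ∏ v ∈ d.support, cs v ^ (d v * p ^ kk v) = C ^ p ^ j) :
    ∏ v ∈ d.support, xs v ^ d v ∈ G p T m C j := by
  rw [mem_G]
  apply hT _ (p ^ j) (pow_pos hp.out.pos _)
  have h1 : ((∏ v ∈ d.support, xs v ^ d v) ^ p ^ (m - 1 - j) * C) ^ p ^ j =
      ∏ v ∈ d.support, (xs v ^ p ^ (m - 1 - kk v) * cs v) ^ (d v * p ^ kk v) := by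
    rw [mul_pow, ← hC, ← pow_mul, ← pow_add, ← Finset.prod_pow, ← Finset.prod_mul_distrib]
    apply Finset.prod_congr rfl
    intro v hv
    have hkv := hk v hv
    rw [mul_pow, ← pow_mul, ← pow_mul]
    congr 2
    have e1 : m - 1 - j + j = m - 1 := by omega
    have e2 : p ^ (m - 1 - kk v) * p ^ kk v = p ^ (m - 1) := by
      rw [← pow_add]; congr 1; omega
    rw [e1, mul_comm (d v) (p ^ kk v), ← mul_assoc, e2, mul_comm]
  rw [h1]
  exact T.prod_mem (fun v hv => T.pow_mem (hx v hv) _)

/-- evaluation of an isobaric polynomial -/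
lemma aeval_mem_G [CharP B p] {σ : Type*} (φ : MvPolynomial σ ℤ) (kk : σ → ℕ) (cs xs : σ → B) (j : ℕ)
    (hj : j < m) (C : B)
    (hk : ∀ v ∈ φ.vars, kk v < m)
    (hx : ∀ v ∈ φ.vars, xs v ∈ G p T m (cs v) (kk v))
    (hC : ∀ d ∈ φ.support, ∏ v ∈ d.support, cs v ^ (d v * p ^ kk v) = C ^ p ^ j) :
    aeval xs φ ∈ G p T m C j := by
  classical
  rw [aeval_def, eval₂_eq]
  apply sum_mem_G
  intro d hd
  have h1 : algebraMap ℤ B (coeff d φ) = ((coeff d φ : ℤ) : B) := rfl
  rw [h1]
  apply intCast_mul_mem_G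
  have hv : ∀ v ∈ d.support, v ∈ φ.vars := fun v hv => (mem_vars_iff_mem_support v).mpr ⟨d, hd, hv⟩
  exact monomial_mem_G p T m hT d kk cs xs j hj (fun v h => hk v (hv v h))
    (fun v h => hx v (hv v h)) C (hC d hd)

end iso


section witt

variable (p : ℕ) [hp : Fact p.Prime]

theorem wittSub_isWeightedHomogeneous (n : ℕ) :
    IsWeightedHomogeneous (fun i : Fin 2 × ℕ => p ^ i.2) (WittVector.wittSub p n) (p ^ n) := by
  apply Groth.Agent.Lib.Helper14.wittStructureInt_isWeightedHomogeneous
  intro n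
  simp only [map_sub, bind₁_X_right]
  have hw : ∀ (b : Fin 2) (i : ℕ), i ≤ n → p ^ (n - i) * p ^ i = p ^ n := by
    intro b i hi
    rw [← pow_add]; congr 1; omega
  exact (Groth.Agent.Lib.Helper14.isWeightedHomogeneous_rename_wittPolynomial p _ 0 n _ (hw 0)).sub
    (Groth.Agent.Lib.Helper14.isWeightedHomogeneous_rename_wittPolynomial p _ 1 n _ (hw 1))

/-- `wittMul` is weighted homogeneous of degree `p ^ n` in the first set of variables. -/
theorem wittMul_isWeightedHomogeneous_left (n : ℕ) :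
    IsWeightedHomogeneous (fun i : Fin 2 × ℕ => if i.1 = 0 then p ^ i.2 else 0)
      (WittVector.wittMul p n) (p ^ n) := by
  apply Groth.Agent.Lib.Helper14.wittStructureInt_isWeightedHomogeneous
  intro n
  simp only [map_mul, bind₁_X_right]
  have h0 := Groth.Agent.Lib.Helper14.isWeightedHomogeneous_rename_wittPolynomial p
    (fun i : Fin 2 × ℕ => if i.1 = 0 then p ^ i.2 else 0) 0 n (p ^ n) (by
      intro i hi
      simp only [if_true]
      rw [← pow_add]; congr 1; omega)
  have h1 := Groth.Agent.Lib.Helper14.isWeightedHomogeneous_rename_wittPolynomial p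
    (fun i : Fin 2 × ℕ => if i.1 = 0 then p ^ i.2 else 0) 1 n 0 (by intro i _; simp)
  have := h0.mul h1
  rwa [add_zero] at this

variable {B : Type*} [CommRing B] [CharP B p] (T : Subring B)
  (hT : ∀ (z : B) (N : ℕ), 0 < N → z ^ N ∈ T → z ∈ T) (m : ℕ)
include hT

theorem coeff_sub_mem (c : B) (a b : TruncatedWittVector p m B)
    (ha : ∀ j : Fin m, a.coeff j ∈ G p T m c j) (hb : ∀ j : Fin m, b.coeff j ∈ G p T m c j)
    (j : Fin m) : (a - b).coeff j ∈ G p T m c j := by
  classical
  have e : a - b = WittVector.truncateFun m (a.out - b.out) := by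
    rw [WittVector.truncateFun_sub, TruncatedWittVector.truncateFun_out,
      TruncatedWittVector.truncateFun_out]
  rw [e, WittVector.coeff_truncateFun, WittVector.sub_coeff]
  unfold WittVector.peval
  have hvars : ∀ v ∈ (WittVector.wittSub p j).vars, v.2 < m := by
    intro v hv
    have := WittVector.wittSub_vars p j hv
    simp only [Finset.mem_product, Finset.mem_univ, Finset.mem_range, true_and] at this
    have := j.2
    omega
  apply aeval_mem_G p T m hT (WittVector.wittSub p j) Prod.snd (fun _ => c) _ j j.2 c hvars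
  · rintro ⟨i, k⟩ hv
    have hk : k < m := hvars _ hv
    fin_cases i
    · change a.out.coeff k ∈ _
      rw [show a.out.coeff k = a.coeff ⟨k, hk⟩ from TruncatedWittVector.coeff_out a ⟨k, hk⟩]
      exact ha ⟨k, hk⟩
    · change b.out.coeff k ∈ _
      rw [show b.out.coeff k = b.coeff ⟨k, hk⟩ from TruncatedWittVector.coeff_out b ⟨k, hk⟩]
      exact hb ⟨k, hk⟩
  · intro d hd
    have hw := wittSub_isWeightedHomogeneous p j (mem_support_iff.mp hd)
    rw [Finsupp.weight_apply, Finsupp.sum] at hw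
    rw [Finset.prod_pow_eq_pow_sum]
    congr 1

theorem coeff_mul_mem (c c' : B) (a b : TruncatedWittVector p m B)
    (ha : ∀ j : Fin m, a.coeff j ∈ G p T m c j) (hb : ∀ j : Fin m, b.coeff j ∈ G p T m c' j)
    (j : Fin m) : (a * b).coeff j ∈ G p T m (c * c') j := by
  classical
  have e : a * b = WittVector.truncateFun m (a.out * b.out) := by
    rw [WittVector.truncateFun_mul, TruncatedWittVector.truncateFun_out,
      TruncatedWittVector.truncateFun_out]
  rw [e, WittVector.coeff_truncateFun, WittVector.mul_coeff]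
  unfold WittVector.peval
  have hvars : ∀ v ∈ (WittVector.wittMul p j).vars, v.2 < m := by
    intro v hv
    have := WittVector.wittMul_vars p j hv
    simp only [Finset.mem_product, Finset.mem_univ, Finset.mem_range, true_and] at this
    have := j.2
    omega
  apply aeval_mem_G p T m hT (WittVector.wittMul p j) Prod.snd
    (fun v => if v.1 = 0 then c else c') _ j j.2 (c * c') hvars
  · rintro ⟨i, k⟩ hv
    have hk : k < m := hvars _ hv
    fin_cases i
    · change a.out.coeff k ∈ _
      rw [show a.out.coeff k = a.coeff ⟨k, hk⟩ from TruncatedWittVector.coeff_out a ⟨k, hk⟩]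
      simpa using ha ⟨k, hk⟩
    · change b.out.coeff k ∈ _
      rw [show b.out.coeff k = b.coeff ⟨k, hk⟩ from TruncatedWittVector.coeff_out b ⟨k, hk⟩]
      simpa using hb ⟨k, hk⟩
  · intro d hd
    have hw0 := wittMul_isWeightedHomogeneous_left p j (mem_support_iff.mp hd)
    have hw1 := Groth.Agent.Lib.Helper14.wittMul_isWeightedHomogeneous p j (mem_support_iff.mp hd)
    rw [Finsupp.weight_apply, Finsupp.sum] at hw0 hw1
    have h1 : ∀ v ∈ d.support, (if v.1 = 0 then c else c') ^ (d v * p ^ v.2) =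
        c ^ (d v • (if v.1 = 0 then p ^ v.2 else 0)) * c' ^ (d v • (if v.1 = 0 then 0 else p ^ v.2)) := by
      intro v _
      by_cases h : v.1 = 0
      · simp [h]
      · simp [h]
    rw [Finset.prod_congr rfl h1, Finset.prod_mul_distrib, Finset.prod_pow_eq_pow_sum,
      Finset.prod_pow_eq_pow_sum, hw0, hw1, mul_pow]

end witt

end Groth.Agent.Lib.Helper82.WittFilIso
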