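import Mathlib
import Groth.Prelude.Def_W4c6katofiltaWFil

/-!
# Normal form in `A[1/(x_1⋯x_r)]` for pairwise non-associate primes `x_i` of a UFD `A` (helper82)

Every nonzero element of `B = A[1/(x_1 ⋯ x_r)]` is `∏ u_i ^ k_i · a` with `k : Fin r → ℤ`, `a ∈ A`
not divisible by any `x_i`; such an element lies in `A` iff all `k_i ≥ 0`.  Consequently
`(∏ u_i ^ k_i · a) ^ P · ∏ u_i ^ n_i ∈ A ↔ ∀ i, 0 ≤ k_i * P + n_i` (`pow_mul_mem_iff`), which turns
membership in `WittFil.fil` into integer inequalities.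
-/

set_option autoImplicit false

namespace Groth.Agent.Lib.Helper82.WittFilNF

open WittFil

section units

variable {B : Type*} [CommRing B] {r : ℕ} (u : Fin r → Bˣ)

theorem zmon_add (k k' : Fin r → ℤ) :
    zmon u (fun i => k i + k' i) = zmon u k * zmon u k' := by
  unfold zmon
  rw [← Units.val_mul, ← Finset.prod_mul_distrib]
  congr 2
  funext i
  rw [zpow_add]

theorem zmon_zero : zmon u (fun _ => (0 : ℤ)) = 1 := by
  unfold zmon
  simp

theorem zmon_mul_neg (k : Fin r → ℤ) : zmon u k * zmon u (fun i => - k i) = 1 := by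
  rw [← zmon_add]
  simp only [add_neg_cancel]
  exact zmon_zero u

theorem zmon_pow (k : Fin r → ℤ) (P : ℕ) : zmon u k ^ P = zmon u (fun i => k i * P) := by
  unfold zmon
  rw [← Units.val_pow_eq_pow_val, ← Finset.prod_pow]
  congr 2
  funext i
  rw [zpow_mul, zpow_natCast]

theorem pow_mul_eq (k : Fin r → ℤ) (α : B) (P : ℕ) (n : Fin r → ℤ) :
    (zmon u k * α) ^ P * zmon u n = zmon u (fun i => k i * P + n i) * α ^ P := by
  rw [mul_pow, zmon_pow, zmon_add]
  ring

end units

section main

variable {A B : Type*} [CommRing A] [IsDomain A] [UniqueFactorizationMonoid A] [CommRing B]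
  [Algebra A B] {r : ℕ} (x : Fin r → A) (hx : ∀ i, Prime (x i))
  (hxa : ∀ i j, Associated (x i) (x j) → i = j) [IsLocalization.Away (∏ i, x i) B]
  (u : Fin r → Bˣ) (hu : ∀ i, (u i : B) = algebraMap A B (x i))

include hx in
omit [UniqueFactorizationMonoid A] in
theorem algebraMap_inj : Function.Injective (algebraMap A B) :=
  IsLocalization.injective B (M := Submonoid.powers (∏ i, x i))
    (powers_le_nonZeroDivisors_of_noZeroDivisors
      (Finset.prod_ne_zero_iff.mpr (fun i _ => (hx i).ne_zero)))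

include hu in
omit [IsDomain A] [UniqueFactorizationMonoid A] [IsLocalization.Away (∏ i, x i) B] in
theorem zmon_nat (k : Fin r → ℕ) :
    zmon u (fun i => (k i : ℤ)) = algebraMap A B (∏ i, x i ^ k i) := by
  unfold zmon
  rw [Units.coe_prod, map_prod]
  refine Finset.prod_congr rfl (fun i _ => ?_)
  rw [zpow_natCast, Units.val_pow_eq_pow_val, hu, map_pow]

include hu in
omit [IsDomain A] [UniqueFactorizationMonoid A] [IsLocalization.Away (∏ i, x i) B] in
theorem zmon_of_nonneg (k : Fin r → ℤ) (hk : ∀ i, 0 ≤ k i) :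
    zmon u k = algebraMap A B (∏ i, x i ^ (k i).toNat) := by
  rw [← zmon_nat x u hu]
  congr 1
  funext i
  rw [Int.toNat_of_nonneg (hk i)]

include hx in
omit [IsLocalization.Away (∏ i, x i) B] in
theorem exists_factor (a₀ : A) (h : a₀ ≠ 0) (s : Finset (Fin r)) :
    ∃ (k : Fin r → ℕ) (a : A), a₀ = (∏ i ∈ s, x i ^ k i) * a ∧ ∀ i ∈ s, ¬ x i ∣ a := by
  classical
  induction s using Finset.induction_on with
  | empty => exact ⟨fun _ => 0, a₀, by simp, by simp⟩
  | insert j s hj ih =>
    obtain ⟨k, a, ha, hdiv⟩ := ih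
    have ha0 : a ≠ 0 := by
      rintro rfl
      apply h
      rw [ha, mul_zero]
    obtain ⟨c, hc, hnd⟩ :=
      (FiniteMultiplicity.of_prime_left (hx j) ha0).exists_eq_pow_mul_and_not_dvd
    refine ⟨Function.update k j (multiplicity (x j) a), c, ?_, ?_⟩
    · rw [Finset.prod_insert hj, Function.update_self, ha]
      have : ∏ i ∈ s, x i ^ Function.update k j (multiplicity (x j) a) i = ∏ i ∈ s, x i ^ k i := by
        refine Finset.prod_congr rfl (fun i hi => ?_)
        rw [Function.update_of_ne (by rintro rfl; exact hj hi)]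
      rw [this]
      conv_lhs => rw [hc]
      ring
    · intro i hi
      rcases Finset.mem_insert.mp hi with rfl | hi
      · exact hnd
      · intro hdvd
        apply hdiv i hi
        rw [hc]
        exact Dvd.dvd.mul_left hdvd _

include hx hu in
theorem nf (b : B) : b = 0 ∨ ∃ (k : Fin r → ℤ) (a : A), (∀ i, ¬ x i ∣ a) ∧
    b = zmon u k * algebraMap A B a := by
  obtain ⟨l, a₀, h⟩ := IsLocalization.Away.surj (∏ i, x i) b
  have hl : algebraMap A B (∏ i, x i) ^ l = zmon u (fun _ => (l : ℤ)) := by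
    rw [zmon_nat x u hu, ← map_pow, Finset.prod_pow]
  rw [hl] at h
  by_cases ha : a₀ = 0
  · left
    rw [ha, map_zero] at h
    have := congrArg (· * zmon u (fun _ => -(l : ℤ))) h
    simp only [zero_mul, mul_assoc] at this
    rwa [zmon_mul_neg, mul_one] at this
  · right
    obtain ⟨k, a, hka, hdiv⟩ := exists_factor x hx a₀ ha Finset.univ
    refine ⟨fun i => (k i : ℤ) + -(l : ℤ), a, fun i => hdiv i (Finset.mem_univ i), ?_⟩
    rw [zmon_add, zmon_nat x u hu, mul_right_comm, ← map_mul, ← hka, ← h, mul_assoc,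
      zmon_mul_neg, mul_one]

include hx hxa hu in
theorem mem_range_iff (k : Fin r → ℤ) (a : A) (ha : ∀ i, ¬ x i ∣ a) :
    zmon u k * algebraMap A B a ∈ (algebraMap A B).range ↔ ∀ i, 0 ≤ k i := by
  classical
  constructor
  · rintro ⟨f, hf⟩ j
    by_contra hj
    push Not at hj
    have hz : zmon u k = zmon u (fun i => ((k i).toNat : ℤ)) *
        zmon u (fun i => -((-k i).toNat : ℤ)) := by
      rw [← zmon_add]
      congr 1
      funext i
      omega
    have h1 : zmon u (fun i => ((k i).toNat : ℤ)) * algebraMap A B a =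
        zmon u (fun i => ((-k i).toNat : ℤ)) * algebraMap A B f := by
      rw [hf, hz]
      have h0 := zmon_mul_neg u (fun i => ((-k i).toNat : ℤ))
      calc zmon u (fun i => ((k i).toNat : ℤ)) * algebraMap A B a
          = (zmon u (fun i => ((-k i).toNat : ℤ)) * zmon u (fun i => -((-k i).toNat : ℤ))) *
              (zmon u (fun i => ((k i).toNat : ℤ)) * algebraMap A B a) := by rw [h0, one_mul]
        _ = _ := by ring
    rw [zmon_nat x u hu, zmon_nat x u hu, ← map_mul, ← map_mul] at h1
    have h2 := algebraMap_inj (B := B) x hx h1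
    have h3 : x j ∣ (∏ i, x i ^ (k i).toNat) * a := by
      rw [h2]
      refine Dvd.dvd.mul_right (dvd_trans ?_ (Finset.dvd_prod_of_mem _ (Finset.mem_univ j))) _
      exact dvd_pow_self _ (by omega)
    rcases (hx j).dvd_or_dvd h3 with h4 | h4
    · obtain ⟨i, -, hi⟩ := (hx j).exists_mem_finset_dvd h4
      by_cases hij : i = j
      · subst hij
        have : (k i).toNat = 0 := by omega
        rw [this, pow_zero] at hi
        exact (hx i).not_isUnit (isUnit_of_dvd_one hi)
      · have h5 : x j ∣ x i := (hx j).dvd_of_dvd_pow hi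
        exact hij (hxa j i ((hx j).associated_of_dvd (hx i) h5)).symm
    · exact ha j h4
  · intro hk
    rw [zmon_of_nonneg x u hu k hk, ← map_mul]
    exact ⟨_, rfl⟩

include hx hxa hu in
theorem pow_mul_mem_iff (k : Fin r → ℤ) (a : A) (ha : ∀ i, ¬ x i ∣ a) (P : ℕ) (n : Fin r → ℤ) :
    (zmon u k * algebraMap A B a) ^ P * zmon u n ∈ (algebraMap A B).range ↔
      ∀ i, 0 ≤ k i * P + n i := by
  rw [pow_mul_eq, ← map_pow]
  exact mem_range_iff x hx hxa u hu _ _ (fun i h => ha i ((hx i).dvd_of_dvd_pow h))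

end main

end Groth.Agent.Lib.Helper82.WittFilNF
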